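import Cfsg.Agent.Co23.Defs

/-! Facts for the generators of `C(z)`. -/

set_option autoImplicit false
set_option maxRecDepth 100000
set_option linter.unusedSimpArgs false
set_option linter.unusedSectionVars false
set_option linter.unusedVariables false
set_option maxHeartbeats 1000000

namespace Cfsg.Lib.Co23

open Subgroup Cfsg.Lib.Spor Cfsg.Lib.Spor.Bulk Cfsg.Lib.Spor.PK Cfsg.Lib.Spor.WF

variable {G : Type*} [Group G] {z a b i r n m s w h0 q p u x q1 q2 p1 p2 io : G}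

theorem A3.cardO (h : YRel z a b i) : Nat.card (gen [z, a, b] : Subgroup G) = 27 :=
  gMY_s1 (G := G) ▸ (PM.card_of_emb MY_ok MY_subs (MY_emb h) 1).trans (by decide +kernel)

theorem A3.tri (h : YRel z a b i) :
    ∀ y ∈ gen [z, a, b], y * a = z * a * y → i * i * y * i * i * y = 1 → (y = b ∨ y = b * a * z ∨ y = b
    * a⁻¹ * z⁻¹) := by
  have := PM.holds MY_ok MY_subs (MY_emb h) (p := (.all 1 40 (.imp (.eq [3,40] [40,3,1]) (.imp (.eq [40,7,7,40,7,7] []) (.or (.eq [40] [5]) (.or (.eq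
      [40] [1,3,5]) (.eq [40] [2,4,5]))))))) (by decide +kernel)
  simp only [Fm.sem, wv_cons, wv_nil, one_mul, upd_apply, Nat.reduceEqDiff, ↓reduceIte, gMY_1, gMY_2, gMY_3, gMY_4, gMY_5, gMY_6, gMY_7, gMY_8, gMY_s0, gMY_s1, exists_eq_right'] at this
  exact this

theorem A3.cA (h : XRel z a b i r) :
    ∀ y ∈ gen [z, a, b], y * a = a * y → y ∈ gen [z, a] := by
  have := PM.holds MX_ok MX_subs (MX_emb h) (p := (.all 1 40 (.imp (.eq [3,40] [40,3]) (.ex 7 41 (.eq [40] [41]))))) (by decide +kernel)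
  simp only [Fm.sem, wv_cons, wv_nil, one_mul, upd_apply, Nat.reduceEqDiff, ↓reduceIte, gMX_1, gMX_2, gMX_3, gMX_4, gMX_5, gMX_6, gMX_7, gMX_8, gMX_9, gMX_10, gMX_s0, gMX_s1, gMX_s2, gMX_s3, gMX_s4, gMX_s5, gMX_s6, gMX_s7, exists_eq_right'] at this
  exact this

theorem A3.rK (h : XRel z a b i r) :
    r * r * i * r⁻¹ * r⁻¹ ∈ gen [i, r * i * r⁻¹] := by
  have := PM.holds MX_ok MX_subs (MX_emb h) (p := (.ex 6 40 (.eq [10,10,7,9,9] [40]))) (by decide +kernel)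
  simp only [Fm.sem, wv_cons, wv_nil, one_mul, upd_apply, Nat.reduceEqDiff, ↓reduceIte, gMX_1, gMX_2, gMX_3, gMX_4, gMX_5, gMX_6, gMX_7, gMX_8, gMX_9, gMX_10, gMX_s0, gMX_s1, gMX_s2, gMX_s3, gMX_s4, gMX_s5, gMX_s6, gMX_s7, exists_eq_right'] at this
  exact this

theorem A3.cU (h : XRel z a b i r) :
    ∀ y ∈ gen [z, i, r], y * a = a * y → y * b = b * y → (y = 1 ∨ y = z ∨ y = z⁻¹) := by
  have := PM.holds MX_ok MX_subs (MX_emb h) (p := (.all 4 40 (.imp (.eq [3,40] [40,3]) (.imp (.eq [5,40] [40,5]) (.or (.eq [40] []) (.or (.eq [40]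
      [1]) (.eq [40] [2]))))))) (by decide +kernel)
  simp only [Fm.sem, wv_cons, wv_nil, one_mul, upd_apply, Nat.reduceEqDiff, ↓reduceIte, gMX_1, gMX_2, gMX_3, gMX_4, gMX_5, gMX_6, gMX_7, gMX_8, gMX_9, gMX_10, gMX_s0, gMX_s1, gMX_s2, gMX_s3, gMX_s4, gMX_s5, gMX_s6, gMX_s7, exists_eq_right'] at this
  exact this

theorem A3.K4 (h : XRel z a b i r) :
    ∀ y ∈ gen [i, r * i * r⁻¹], y * y * y * y = 1 := by
  have := PM.holds MX_ok MX_subs (MX_emb h) (p := (.all 6 40 (.eq [40,40,40,40] []))) (by decide +kernel)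
  simp only [Fm.sem, wv_cons, wv_nil, one_mul, upd_apply, Nat.reduceEqDiff, ↓reduceIte, gMX_1, gMX_2, gMX_3, gMX_4, gMX_5, gMX_6, gMX_7, gMX_8, gMX_9, gMX_10, gMX_s0, gMX_s1, gMX_s2, gMX_s3, gMX_s4, gMX_s5, gMX_s6, gMX_s7, exists_eq_right'] at this
  exact this

theorem A3.cK (h : XRel z a b i r) :
    ∀ y ∈ gen [i, r * i * r⁻¹], y * a = a * y → y = 1 := by
  have := PM.holds MX_ok MX_subs (MX_emb h) (p := (.all 6 40 (.imp (.eq [3,40] [40,3]) (.eq [40] [])))) (by decide +kernel)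
  simp only [Fm.sem, wv_cons, wv_nil, one_mul, upd_apply, Nat.reduceEqDiff, ↓reduceIte, gMX_1, gMX_2, gMX_3, gMX_4, gMX_5, gMX_6, gMX_7, gMX_8, gMX_9, gMX_10, gMX_s0, gMX_s1, gMX_s2, gMX_s3, gMX_s4, gMX_s5, gMX_s6, gMX_s7, exists_eq_right'] at this
  exact this

/-- more subgroups -/
@[reducible] def MRa3 : PM := { MR with
  SW := [([[1],[4,1,3],[5],[6]],
    [⟨0, [128, 385, 66, 515, 449, 322, 643, 192, 258, 899, 579, 963, 835, 707, 771], [[0, 2, 0]]⟩,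
     ⟨8, [576], []⟩]),
   ([[1],[4,1,3]],
    [⟨0, [128, 385, 64, 449, 192, 320, 257], []⟩])] }

instance : NeZero MRa3.n := ⟨by decide⟩

theorem MRa3_ok : MRa3.ok = true := MR_ok

theorem MRa3_subs : MRa3.subsOK = true := by decide +kernel

theorem MRa3_s0 : sub (gMR i r s w) (MRa3.W 0) = gen [i, r * i * r⁻¹, s, w] := by
  change gen (List.map (wv _) [[1],[4,1,3],[5],[6]]) = _
  simp only [List.map_cons, List.map_nil, wv_cons, wv_nil, one_mul, gMR_1, gMR_2, gMR_3, gMR_4, gMR_5, gMR_6]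

theorem MRa3_s1 : sub (gMR i r s w) (MRa3.W 1) = gen [i, r * i * r⁻¹] := by
  change gen (List.map (wv _) [[1],[4,1,3]]) = _
  simp only [List.map_cons, List.map_nil, wv_cons, wv_nil, one_mul, gMR_1, gMR_2, gMR_3, gMR_4, gMR_5, gMR_6]

theorem A3.decR (h : RRel i r s w) :
    ∀ y ∈ gen [i, r * i * r⁻¹, s, w], ∃ c ∈ gen [i, r * i * r⁻¹], y = c ∨ y = s * c ∨ y = w * c ∨ y = s
    * w * c := by
  have := PM.holds MRa3_ok MRa3_subs (show Emb MRa3.m _ from (MR_emb h)) (p := (.all 0 40 (.ex 1 41 (.or (.eq [40] [41]) (.or (.eq [40] [41,5]) (.or (.eq [40] [41,6]) (.eq [40]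
      [41,6,5]))))))) (by decide +kernel)
  simp only [Fm.sem, wv_cons, wv_nil, one_mul, upd_apply, Nat.reduceEqDiff, ↓reduceIte, gMR_1, gMR_2, gMR_3, gMR_4, gMR_5, gMR_6, MRa3_s0, MRa3_s1, exists_eq_right'] at this
  exact this

theorem A3.hq (h : ARel z q1 q2 r p1 p2 s w) :
    ∀ y ∈ gen [z, q1, p1, q2, p2], y * w = w * y → y * r = r * y → s * w * s * w * y * s * w * s * w * y
    = 1 → (y = 1 ∨ y = q1 * q2 ∨ y = q2⁻¹ * q1⁻¹) := by
  have := PM.holds MA_ok MA_subs (MA_emb h) (p := (.all 2 40 (.imp (.eq [14,40] [40,14]) (.imp (.eq [7,40] [40,7]) (.imp (.eq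
      [40,14,13,14,13,40,14,13,14,13] []) (.or (.eq [40] []) (.or (.eq [40] [5,3]) (.eq [40]
      [4,6])))))))) (by decide +kernel)
  simp only [Fm.sem, wv_cons, wv_nil, one_mul, upd_apply, Nat.reduceEqDiff, ↓reduceIte, gMA_1, gMA_2, gMA_3, gMA_4, gMA_5, gMA_6, gMA_7, gMA_8, gMA_9, gMA_10, gMA_11, gMA_12, gMA_13, gMA_14, gMA_s0, gMA_s1, gMA_s2, gMA_s3, gMA_s4, gMA_s5, gMA_s6, gMA_s7, exists_eq_right'] at this
  exact this

/-- more subgroups -/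
@[reducible] def MAa3 : PM := { MA with
  SW := [([[1],[3],[9],[5],[11]],
    [⟨0, [128, 770, 388, 64, 898, 516, 1346, 1732, 580, 834, 452, 1474, 1796, 708, 1409, 1156, 1540, 643, 1860,
    1220, 1604, 1284, 964, 1667, 1028, 1092], [[2, 2, 1, 4, 4, 3, 4, 1, 2], [2, 2, 1, 3, 2, 0]]⟩,
     ⟨12, [832, 897], [[1, 0]]⟩,
     ⟨6, [448, 512], []⟩]),
   ([[1],[3],[5],[11]],
    [⟨0, [128, 387, 64, 515, 579, 451, 707, 642], [[3, 2, 3, 2, 3], [1]]⟩,
     ⟨12, [897, 833], [[0]]⟩,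
     ⟨6, [448, 512], []⟩])] }

instance : NeZero MAa3.n := ⟨by decide⟩

theorem MAa3_ok : MAa3.ok = true := MA_ok

theorem MAa3_subs : MAa3.subsOK = true := by decide +kernel

theorem MAa3_s0 : sub (gMA z q1 q2 r p1 p2 s w) (MAa3.W 0) = gen [z, q1, p1, q2, p2] := by
  change gen (List.map (wv _) [[1],[3],[9],[5],[11]]) = _
  simp only [List.map_cons, List.map_nil, wv_cons, wv_nil, one_mul, gMA_1, gMA_2, gMA_3, gMA_4, gMA_5, gMA_6, gMA_7, gMA_8, gMA_9, gMA_10, gMA_11, gMA_12, gMA_13, gMA_14]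

theorem MAa3_s1 : sub (gMA z q1 q2 r p1 p2 s w) (MAa3.W 1) = gen [z, q1, q2, p2] := by
  change gen (List.map (wv _) [[1],[3],[5],[11]]) = _
  simp only [List.map_cons, List.map_nil, wv_cons, wv_nil, one_mul, gMA_1, gMA_2, gMA_3, gMA_4, gMA_5, gMA_6, gMA_7, gMA_8, gMA_9, gMA_10, gMA_11, gMA_12, gMA_13, gMA_14]

theorem A3.cq (h : ARel z q1 q2 r p1 p2 s w) :
    ∀ y ∈ gen [z, q1, p1, q2, p2], y * q1 = q1 * y → y ∈ gen [z, q1, q2, p2] := by
  have := PM.holds MAa3_ok MAa3_subs (show Emb MAa3.m _ from (MA_emb h)) (p := (.all 0 40 (.imp (.eq [3,40] [40,3]) (.ex 1 41 (.eq [40] [41]))))) (by decide +kernel)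
  simp only [Fm.sem, wv_cons, wv_nil, one_mul, upd_apply, Nat.reduceEqDiff, ↓reduceIte, gMA_1, gMA_2, gMA_3, gMA_4, gMA_5, gMA_6, gMA_7, gMA_8, gMA_9, gMA_10, gMA_11, gMA_12, gMA_13, gMA_14, MAa3_s0, MAa3_s1, exists_eq_right'] at this
  exact this

end Cfsg.Lib.Co23
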