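import Cfsg.Agent.Co23.A3F
import Cfsg.Agent.Local.ProdCard

/-! The action of `2^(1+4)` on `3^(1+4)`: the decomposition `Q = Q₁ Q₂`. -/

set_option autoImplicit false

namespace Cfsg.Lib.Co23

open Subgroup Cfsg.Lib.Spor Cfsg.Lib.Spor.Bulk Cfsg.Lib.Spor.PK Cfsg.Lib.Spor.WF Cfsg.Lib.Trans
open Cfsg.Lib.L3

variable {G : Type*} [Group G]

/-- The part of `LB` that is needed for the generators of `C(z)`. -/
structure LC (z t : G) (Q : Subgroup G) (i r s w h : G) : Prop extends RRel i r s w where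
  z3 : z ^ 3 = 1
  z1 : z ≠ 1
  zQ : z ∈ Q
  cardQ : Nat.card Q = 243
  Qz : ∀ x ∈ Q, x * z = z * x
  nQ : ∀ g, g * z * g⁻¹ ∈ zpowers z → ∀ x ∈ Q, g * x * g⁻¹ ∈ Q
  comm : ∀ x ∈ Q, ∀ y ∈ Q, x * y * x⁻¹ * y⁻¹ ∈ zpowers z
  centQ : ∀ g, (∀ x ∈ Q, g * x = x * g) → g ∈ zpowers z
  cube : ∀ x ∈ Q, x ^ 3 = 1
  tinv : ∀ x ∈ Q, t * x * t⁻¹ * x ∈ zpowers z
  ii : i * i = t
  iz : i * z = z * i
  sz : s * z = z * s
  wz : w * z = z * w
  rz : r * z = z * r
  hz : h * z = z * h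
  hr : h * r = r⁻¹ * h
  hs : h * s = w * h
  hw : h * w = s * h
  hi : h * i = i⁻¹ * h
  hh : h * h = 1 ∨ h * h = t
  nR : ∀ k, k * z = z * k → k * t = t * k → k * s * k⁻¹ ∈ gen [i, r * i * r⁻¹, s, w]
  R4 : ∀ x ∈ gen [i, r * i * r⁻¹, s, w], x ^ 4 = 1
  dec : ∀ g, g * z = z * g → ∃ x ∈ Q, ∃ k, k * z = z * k ∧ k * t = t * k ∧ g = x * k
  cardKs : Nat.card ↥(centralizer ({z} : Set G) ⊓ centralizer {t} ⊓ centralizer {s}) = 576
  five : ∀ f y, f ^ 5 = 1 → f * z = z * f → y ^ 3 = 1 → y * z = z * y → y ∉ Q →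
    f * y = y * f → f = 1
  syl : ¬ 3 ^ 7 ∣ Nat.card G
  nwc : ∃ x, IsConj z x ∧ x * z = z * x ∧ x ∉ zpowers z

/-- `t` inverts `x`. -/
def II (t x : G) : Prop := t * x * t⁻¹ = x⁻¹

variable {z t f i r s w h j k x y g u : G} {Q R P N : Subgroup G}

theorem A3.cube_mem (hn : x ∈ N) (hg : ∀ y ∈ N, g * y * g⁻¹ ∈ N) : (x * g) ^ 3 * (g ^ 3)⁻¹ ∈ N := by
  have := mul_mem (mul_mem hn (hg _ hn)) (hg _ (hg _ hn))
  convert this using 1
  simp only [pow_succ, pow_zero]; group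

theorem A3.one_of {m n : ℕ} (hc : m.Coprime n) (h1 : x ^ m = 1) (h2 : x ^ n = 1) : x = 1 :=
  orderOf_eq_one_iff.1 (Nat.eq_one_of_dvd_coprimes hc (orderOf_dvd_of_pow_eq_one h1)
    (orderOf_dvd_of_pow_eq_one h2))

theorem A3.no15 : ∀ a : Equiv.Perm (Fin 5), a ^ 15 = 1 → a ^ 3 = 1 ∨ a ^ 5 = 1 := by
  decide +kernel

theorem A3.inv_comm : g * z⁻¹ = z⁻¹ * g ↔ g * z = z * g :=
  Commute.inv_right_iff

theorem LB.lc [Finite G] {φ : centralizer ({z} : Set G) →* alternatingGroup (Fin 5)}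
    (H : LB z t f Q R φ i r s w h) : LC z t Q i r s w h := by
  have m : ∀ {x}, x ∈ [i, r * i * r⁻¹, s, w] → x ∈ R := fun hx => H.eqR ▸ mem_gen hx
  have R4 : ∀ x ∈ R, x ^ 4 = 1 := fun x hx => by
    rw [show x ^ 4 = x * x * (x * x) by simp only [pow_succ, pow_zero]; group]
    rcases H.Rsq x hx with e | e <;> rw [e]
    exacts [one_mul 1, H.t2]
  refine { H.toRRel, H.toLA, H with
    z3 := H.z3 ▸ pow_orderOf_eq_one z
    z1 := fun e => by simpa [e] using H.z3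
    tinv := by rw [inv_eq_of_mul_eq_one_right H.t2]; exact H.tinv
    iz := H.Rz _ (m (by simp))
    sz := H.Rz _ (m (by simp))
    wz := H.Rz _ (m (by simp))
    nR := fun k h1 h2 => H.eqR ▸ H.nR k h1 h2 s (m (by simp))
    R4 := H.eqR ▸ R4
    five := fun f y f5 fz y3 yz yQ fy => ?_ }
  let F : centralizer ({z} : Set G) := ⟨f, mem_centralizer_singleton_iff.2 fz⟩
  let Y : centralizer ({z} : Set G) := ⟨y, mem_centralizer_singleton_iff.2 yz⟩
  have h1 : φ F ^ 5 = 1 := by rw [← map_pow, show F ^ 5 = 1 from Subtype.ext f5, map_one]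
  have h2 : φ Y ^ 3 = 1 := by rw [← map_pow, show Y ^ 3 = 1 from Subtype.ext y3, map_one]
  have h3 : Commute (φ F) (φ Y) := (show Commute F Y from Subtype.ext fy).map φ
  have h4 : (φ F * φ Y) ^ 3 = 1 ∨ (φ F * φ Y) ^ 5 = 1 := by
    refine (A3.no15 (φ F * φ Y).1 ?_).imp (fun e => Subtype.ext e) fun e => Subtype.ext e
    rw [← Subgroup.coe_pow, h3.mul_pow, show 15 = 5 * 3 from rfl, pow_mul, h1, mul_comm, pow_mul, h2]
    simp
  rcases h4 with e | e
  · rw [h3.mul_pow, h2, mul_one] at e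
    have h5 : (⟨F, A3.one_of (by norm_num) e h1⟩ : φ.ker) ^ (243 * 32) = 1 :=
      H.cardKer ▸ pow_card_eq_one'
    exact A3.one_of (by norm_num) f5 (congrArg (fun x : φ.ker => x.1.1) h5)
  rw [h3.mul_pow, h1, one_mul] at e
  obtain ⟨x, hx, k, kz, kt, rfl⟩ := H.dec y yz
  let X : centralizer ({z} : Set G) := ⟨x, mem_centralizer_singleton_iff.2 (H.Qz x hx)⟩
  let K : centralizer ({z} : Set G) := ⟨k, mem_centralizer_singleton_iff.2 kz⟩
  have h5 : φ K = 1 := by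
    have := A3.one_of (by norm_num) e h2
    rwa [show Y = X * K from rfl, map_mul, H.kerQ X hx, one_mul] at this
  obtain ⟨j, hj, c, hc, e'⟩ := (H.ker K kt).1 h5
  obtain rfl : k = j * c := e'
  have h6 := mul_mem hx (zpowers_le.2 H.zQ hj)
  have h7 := A3.cube_mem h6 (H.nQ c (by rw [H.Rz c hc, mul_inv_cancel_right]; exact mem_zpowers z))
  rw [mul_assoc x, y3, one_mul, inv_eq_of_mul_eq_one_right ((pow_succ c 3).symm.trans (R4 c hc))]
    at h7
  exact absurd (mul_assoc x j c ▸ mul_mem h6 h7) yQ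

theorem LC.inv (H : LC z t Q i r s w h) : LC z⁻¹ t Q i r s w h :=
  { H.toRRel, H with
    z3 := by rw [inv_pow, H.z3, inv_one]
    z1 := inv_ne_one.2 H.z1
    zQ := inv_mem H.zQ
    Qz := by simpa only [A3.inv_comm] using H.Qz
    nQ := fun g hg => H.nQ g (by
      rwa [zpowers_inv, ← conj_inv, inv_mem_iff] at hg)
    comm := by simpa only [zpowers_inv] using H.comm
    centQ := by simpa only [zpowers_inv] using H.centQ
    tinv := by simpa only [zpowers_inv] using H.tinv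
    iz := A3.inv_comm.2 H.iz
    sz := A3.inv_comm.2 H.sz
    wz := A3.inv_comm.2 H.wz
    rz := A3.inv_comm.2 H.rz
    hz := A3.inv_comm.2 H.hz
    nR := by simpa only [A3.inv_comm] using H.nR
    dec := by simpa only [A3.inv_comm] using H.dec
    cardKs := by
      rw [← H.cardKs, show centralizer ({z⁻¹} : Set G) = centralizer {z} from
        Subgroup.ext fun g => by simp only [mem_centralizer_singleton_iff, A3.inv_comm]]
    five := by simpa only [A3.inv_comm] using H.five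
    nwc := by
      obtain ⟨x, h1, h2, h3⟩ := H.nwc
      obtain ⟨c, rfl⟩ := isConj_iff.1 h1
      exact ⟨_, isConj_iff.2 ⟨c, rfl⟩, A3.inv_comm.2 (by
        rw [← conj_inv]; exact (A3.inv_comm.2 h2.symm).symm), by
        rwa [zpowers_inv, ← conj_inv, inv_mem_iff]⟩ }

theorem A3.zc (hj : j ∈ zpowers z) (hg : g * z = z * g) : g * j = j * g := by
  obtain ⟨n, rfl⟩ := hj
  exact (show Commute g z from hg).zpow_right n

theorem II.conj (hx : II t x) (hk : k * t = t * k) : II t (k * x * k⁻¹) := by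
  calc _ = (t * k) * x * (t * k)⁻¹ := by group
    _ = k * (t * x * t⁻¹) * k⁻¹ := by rw [← hk]; group
    _ = _ := by rw [hx]; group

theorem A3.exists_fixed [Finite G] (h3 : r ^ 3 = 1) {S : Set G}
    (hS : ∀ w ∈ S, r * w * r⁻¹ ∈ S) (ho : ¬ 3 ∣ S.ncard) : ∃ w ∈ S, r * w = w * r := by
  have := Fact.mk Nat.prime_three
  have hS' : ∀ k ∈ zpowers r, ∀ w ∈ S, k * w * k⁻¹ ∈ S := fun k hk w hw => by
    rcases cube_cases h3 hk with rfl | rfl | rfl
    · simpa using hw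
    · exact hS w hw
    · rw [← eq_inv_of_mul_eq_one_left ((pow_three' r).symm.trans h3)]
      simpa only [mul_assoc, mul_inv_rev] using hS _ (hS w hw)
  let _ : MulAction (zpowers r) S :=
    { smul := fun k w => ⟨k * w * (k : G)⁻¹, hS' k k.2 w w.2⟩
      one_smul := fun w => Subtype.ext (by change (1 : G) * w * 1⁻¹ = w; simp)
      mul_smul := fun a b w => Subtype.ext (by
        change ((a : G) * b) * w * ((a : G) * b)⁻¹ = a * (b * w * (b : G)⁻¹) * (a : G)⁻¹; group) }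
  obtain ⟨w, hw⟩ := (pgroup_zpowers (k := 1) h3).nonempty_fixed_point_of_prime_not_dvd_card S (by
    rwa [Nat.card_coe_set_eq])
  exact ⟨w, w.2, mul_inv_eq_iff_eq_mul.1 (congrArg Subtype.val (hw ⟨r, mem_zpowers r⟩))⟩

namespace LC

variable (H : LC z t Q i r s w h)
include H

theorem zQ' (hj : j ∈ zpowers z) : j ∈ Q := zpowers_le.2 H.zQ hj

theorem one_of_sq (hj : j ∈ Q) (e : j * j = 1) : j = 1 :=
  Recog.P43.eq_one_of_sq_cube e (H.cube j hj)

theorem t2 : t * t = 1 := by rw [← H.ii, ← mul_assoc, H.i4]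

theorem tz : t * z = z * t := by
  rw [← H.ii]; exact Commute.mul_left H.iz H.iz

theorem it : i * t = t * i := by rw [← H.ii, mul_assoc]

theorem st : s * t = t * s := by
  rw [← H.ii]; exact Commute.mul_right H.si H.si

theorem wt : w * t = t * w := by
  rw [← H.ii]; exact Commute.mul_right H.wi H.wi

theorem rt : r * t = t * r := by rw [← H.ii, H.iir, mul_assoc]

theorem ht : h * t = t * h := by
  rw [← H.ii, ← mul_assoc, H.hi, mul_assoc, H.hi, ← mul_assoc, ← mul_inv_rev, H.ii,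
    inv_eq_of_mul_eq_one_right H.t2]

theorem wsw : w * s * w⁻¹ = s * t := by
  rw [inv_eq_of_mul_eq_one_right H.w2, ← H.ii, ← H.sw]
  simp only [← mul_assoc, H.s2, one_mul]

theorem stz : s * t * z = z * (s * t) := Commute.mul_left H.sz H.tz

theorem nQ' (hk : k * z = z * k) (hx : x ∈ Q) : k * x * k⁻¹ ∈ Q :=
  H.nQ k (by rw [hk, mul_inv_cancel_right]; exact mem_zpowers z) x hx

theorem exI (hx : x ∈ Q) : ∃ j ∈ zpowers z, II t (x * j) := by
  refine ⟨_, H.tinv x hx, ?_⟩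
  have h1 := A3.zc (H.tinv x hx) H.tz
  have h2 := A3.zc (H.tinv x hx) (H.Qz x hx)
  have h3 := H.cube _ (H.zQ' (H.tinv x hx))
  generalize hc : t * x * t⁻¹ * x = c at h1 h2 h3
  rw [II, ← conj_mul, eq_mul_inv_of_mul_eq hc, h1, mul_inv_cancel_right, mul_assoc,
    (Commute.inv_left h2).eq, ← mul_assoc, eq_inv_of_mul_eq_one_left ((pow_three' c).symm.trans h3),
    mul_inv_rev]

theorem uniqI (hx : x ∈ Q) (h1 : II t x) (hj : j ∈ zpowers z) (h2 : II t (x * j)) : j = 1 := by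
  rw [II, ← conj_mul, h1, A3.zc hj H.tz, mul_inv_cancel_right, A3.zc hj (H.Qz x hx), mul_inv_rev,
    mul_right_inj] at h2
  exact H.one_of_sq (H.zQ' hj) (mul_eq_one_iff_eq_inv.2 h2)

theorem cQt (hx : x ∈ Q) (e : x * t = t * x) : x ∈ zpowers z := by
  have := H.tinv x hx
  rw [← e, mul_inv_cancel_right, eq_inv_of_mul_eq_one_left ((pow_three' x).symm.trans (H.cube x hx))]
    at this
  exact inv_mem_iff.1 this

theorem fix (u2 : u * u = 1) (uz : u * z = z * u) (hx : x ∈ Q) :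
    x * (u * x * u⁻¹) * u = u * (x * (u * x * u⁻¹)) := by
  have h0 : u * (u * x * u⁻¹) * u⁻¹ = x := by
    calc _ = u * u * x * (u * u)⁻¹ := by group
      _ = _ := by rw [u2]; group
  have hc := H.comm _ (H.nQ' uz hx) _ hx
  generalize ha : u * x * u⁻¹ = a at h0 hc
  have e1 : u * (x * a) * u⁻¹ = a * x := by rw [← conj_mul, ha, h0]
  have e2 : u * (a * x) * u⁻¹ = x * a := by rw [← conj_mul, ha, h0]
  have e3 : a * x = a * x * a⁻¹ * x⁻¹ * (x * a) := by group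
  have e4 := A3.zc hc uz
  generalize a * x * a⁻¹ * x⁻¹ = c at hc e3 e4
  rw [e3, ← conj_mul, e4, mul_inv_cancel_right, e1, e3, ← mul_assoc, mul_eq_right] at e2
  rw [H.one_of_sq (H.zQ' hc) e2, one_mul] at e3
  rw [e3] at e1
  exact (mul_inv_eq_iff_eq_mul.1 e1).symm

theorem st2 : s * t * (s * t) = 1 := by
  rw [mul_assoc, ← mul_assoc t, ← H.st, mul_assoc, H.t2, mul_one, H.s2]

theorem decQ (hx : x ∈ Q) : ∃ y ∈ Q, y * s = s * y ∧ ∃ y' ∈ Q, y' * (s * t) = s * t * y' ∧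
    x = y * y' := by
  obtain ⟨X, hX, rfl⟩ : ∃ X ∈ Q, x = X * X := ⟨x⁻¹, inv_mem hx, by
    rw [← mul_inv_rev, eq_inv_iff_mul_eq_one, ← mul_assoc, ← pow_three', H.cube x hx]⟩
  have ha := H.nQ' H.sz hX
  have h1 := H.fix H.s2 H.sz hX
  have h2 := H.tinv X hX
  have h3 := H.comm _ ha _ hX
  have e : s * t * X * (s * t)⁻¹ = t * X * t⁻¹ * X * (s * X * s⁻¹)⁻¹ := by
    calc _ = s * (t * X * t⁻¹ * X) * X⁻¹ * s⁻¹ := by group
      _ = _ := by rw [A3.zc h2 H.sz]; group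
  refine ⟨X * X * (X * (s * t * X * (s * t)⁻¹))⁻¹, mul_mem hx (inv_mem (mul_mem hX (H.nQ' H.stz hX))),
    ?_, _, mul_mem hX (H.nQ' H.stz hX), H.fix H.st2 H.stz hX, by group⟩
  rw [e]
  generalize s * X * s⁻¹ = a at ha h1 h3
  generalize t * X * t⁻¹ * X = c at h2
  have e' : X * X * (X * (c * a⁻¹))⁻¹ = X * a * ((a⁻¹ * X * a⁻¹⁻¹ * X⁻¹) * c⁻¹) := by
    calc _ = X * X * a * (X * c)⁻¹ := by group
      _ = _ := by rw [A3.zc h2 (H.Qz X hX)]; group
  rw [e']
  exact Commute.mul_left h1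
    (A3.zc (mul_mem (H.comm _ (inv_mem ha) _ hX) (inv_mem h2)) H.sz).symm

theorem comm12 (hx : x ∈ Q) (h1 : x * s = s * x) (hy : y ∈ Q) (h2 : y * (s * t) = s * t * y) :
    x * y = y * x := by
  obtain ⟨j, hj, h3⟩ := H.exI hy
  have h4 : y * j * (s * t) = s * t * (y * j) := Commute.mul_left h2 (A3.zc hj H.stz).symm
  have h5 := mul_mem hy (H.zQ' hj)
  suffices x * (y * j) = y * j * x by
    rwa [mul_assoc, ← A3.zc hj (H.Qz x hx), ← mul_assoc, ← mul_assoc, mul_left_inj] at this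
  generalize y * j = y at h3 h4 h5
  have h6 : s * y * s⁻¹ = y⁻¹ := by
    have : s * y⁻¹ * s⁻¹ = y := by
      rw [← show _ = y⁻¹ from h3]
      calc _ = s * t * y * (s * t)⁻¹ := by group
        _ = y := by rw [← h4]; group
    rw [← inv_inj, conj_inv, this, inv_inv]
  have hc := H.comm x hx y h5
  have h7 : x * y⁻¹ * x⁻¹ * y = x * y * x⁻¹ * y⁻¹ := by
    rw [← mul_inv_cancel_right (x * y * x⁻¹ * y⁻¹) s, ← A3.zc hc H.sz]
    calc _ = x * y⁻¹ * x⁻¹ * y⁻¹⁻¹ := by group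
      _ = (x * s) * y * (x * s)⁻¹ * (s * y * s⁻¹)⁻¹ := by rw [← h6]; group
      _ = _ := by rw [h1]; group
  have h8 := H.one_of_sq (H.zQ' hc) (by
    nth_rewrite 1 [← h7]
    rw [mul_assoc, A3.zc hc (H.Qz y h5)]; group)
  exact mul_inv_eq_iff_eq_mul.1 (mul_inv_eq_one.1 h8)

theorem cardZ : Nat.card (zpowers z) = 3 := by
  have := Fact.mk Nat.prime_three
  rw [Nat.card_zpowers, orderOf_eq_prime H.z3 H.z1]

theorem card1 : Nat.card ↥(Q ⊓ centralizer {s}) = 27 := by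
  have m := @mem_centralizer_singleton_iff G _
  have h1 := Local.CD.card_sup_mul_card_inf_of_le_centralizer (H := Q ⊓ centralizer {s})
    (K := Q ⊓ centralizer {s * t}) fun x hx y hy => (H.comm12 hx.1 (m.1 hx.2) hy.1 (m.1 hy.2)).symm
  have h2 : Q ⊓ centralizer {s} ⊔ Q ⊓ centralizer {s * t} = Q :=
    le_antisymm (sup_le inf_le_left inf_le_left) fun x hx => by
      obtain ⟨y, hy, e, y', hy', e', rfl⟩ := H.decQ hx
      exact mul_mem (mem_sup_left ⟨hy, m.2 e⟩) (mem_sup_right ⟨hy', m.2 e'⟩)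
  have h3 : Q ⊓ centralizer {s} ⊓ (Q ⊓ centralizer {s * t}) = zpowers z :=
    le_antisymm (fun x hx => H.cQt hx.1.1 (by
      have := m.1 hx.2.2
      rwa [← mul_assoc, m.1 hx.1.2, mul_assoc, mul_assoc, mul_right_inj] at this))
      (zpowers_le.2 ⟨⟨H.zQ, m.2 H.sz.symm⟩, H.zQ, m.2 H.stz.symm⟩)
  have h4 : cj w (Q ⊓ centralizer {s}) = Q ⊓ centralizer {s * t} := by
    ext x
    rw [mem_cj, mem_inf, mem_inf, m, m, ← H.wsw]
    refine and_congr ⟨fun e => by simpa [mul_assoc] using H.nQ' H.wz e,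
      fun e => by simpa using H.nQ' (Commute.inv_left H.wz) e⟩ ?_
    rw [← mul_left_inj w⁻¹, ← mul_right_inj w]
    simp only [mul_assoc, mul_inv_cancel_left, mul_inv_cancel, mul_one]
  rw [h2, h3, H.cardQ, H.cardZ, ← h4, card_cj] at h1
  nlinarith

theorem cardI [Finite G] : {x | (x ∈ Q ∧ x * s = s * x ∧ II t x) ∧ x ≠ 1}.ncard = 8 := by
  have m := @mem_centralizer_singleton_iff G _
  let S := {x | x ∈ Q ∧ x * s = s * x ∧ II t x}
  have h1 := Nat.card_eq_of_bijective (fun p : S × zpowers z =>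
    (⟨p.1.1 * p.2.1, mul_mem p.1.2.1 (H.zQ' p.2.2),
      m.2 (Commute.mul_left p.1.2.2.1 (A3.zc p.2.2 H.sz).symm)⟩ : ↥(Q ⊓ centralizer {s})))
    ⟨fun ⟨a, b⟩ ⟨c, d⟩ e => by
      have e1 : a.1 * b.1 = c.1 * d.1 := congrArg Subtype.val e
      have e2 := H.uniqI a.2.1 a.2.2.2 (mul_mem b.2 (inv_mem d.2)) (by
        rw [← mul_assoc, e1, mul_inv_cancel_right]; exact c.2.2.2)
      rw [mul_inv_eq_one.1 e2, mul_left_inj] at e1
      exact Prod.ext (Subtype.ext e1) (Subtype.ext (mul_inv_eq_one.1 e2)), fun x => by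
      obtain ⟨j, hj, e⟩ := H.exI x.2.1
      exact ⟨(⟨x * j, mul_mem x.2.1 (H.zQ' hj),
        Commute.mul_left (m.1 x.2.2) (A3.zc hj H.sz).symm, e⟩, ⟨j⁻¹, inv_mem hj⟩),
        Subtype.ext (mul_inv_cancel_right _ _)⟩⟩
  rw [Nat.card_prod, H.cardZ, H.card1, Nat.card_coe_set_eq] at h1
  have h2 := Set.ncard_sdiff_singleton_add_one (s := S) (a := 1) ⟨one_mem _, by simp, by simp [II]⟩
  exact (show (S \ {1}).ncard = 8 by omega)

end LC

end Cfsg.Lib.Co23
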