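import Cfsg.Agent.Co23.A3a

/-! Generators of `Q = 3^(1+4)`. -/

set_option autoImplicit false

namespace Cfsg.Lib.Co23

open Subgroup Cfsg.Lib.Spor Cfsg.Lib.Spor.Bulk Cfsg.Lib.Spor.PK Cfsg.Lib.Spor.WF Cfsg.Lib.Trans
open Cfsg.Lib.L3

variable {G : Type*} [Group G] {z t i r s w h q p a b x g : G} {Q : Subgroup G}

/-- Generators of `C_Q(s)`. -/
structure LD (z t : G) (Q : Subgroup G) (i r s w h q p : G) : Prop extends LC z t Q i r s w h where
  x1 : XRel z q p i r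
  eq1 : gen [z, q, p] = Q ⊓ centralizer {s}

theorem A3.cj_eq : g * a * g⁻¹ = b ↔ g * a = b * g := mul_inv_eq_iff_eq_mul

theorem LC.II_eq (H : LC z t Q i r s w h) (hx : II t x) : t * x * t * x = 1 := by
  rw [II, inv_eq_of_mul_eq_one_right H.t2] at hx
  rw [hx, inv_mul_cancel]

theorem LC.not_comm [Finite G] (H : LC z t Q i r s w h) (hq : q ∈ Q) (qs : q * s = s * q)
    (qI : II t q) (q1 : q ≠ 1) : i * q * i⁻¹ * q ≠ q * (i * q * i⁻¹) := fun e => by
  have m := @mem_centralizer_singleton_iff G _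
  have qz : q ∉ zpowers z := fun e => q1 (H.uniqI (one_mem _) (by simp [II]) e (by rwa [one_mul]))
  have qq : q⁻¹ ≠ q := fun e => q1 (H.one_of_sq hq (mul_eq_one_iff_eq_inv.2 e.symm))
  have ip : i * (i * q * i⁻¹) * i⁻¹ = q⁻¹ := by rw [← show _ = q⁻¹ from qI, ← H.ii]; group
  have h1 : Q ⊓ centralizer {s} ⊓ centralizer {q} < Q ⊓ centralizer {s} :=
    lt_of_le_of_ne inf_le_left fun e => qz (H.centQ q fun x hx => by
      obtain ⟨y, hy, e1, y', hy', e2, rfl⟩ := H.decQ hx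
      exact Commute.mul_right (m.1 (e.ge ⟨hy, m.2 e1⟩).2).symm (H.comm12 hq qs hy' e2))
  have h2 : zpowers z ⊔ zpowers q ≤ Q ⊓ centralizer {s} ⊓ centralizer {q} :=
    sup_le (zpowers_le.2 ⟨⟨H.zQ, m.2 H.sz.symm⟩, m.2 (H.Qz q hq).symm⟩)
      (zpowers_le.2 ⟨⟨hq, m.2 qs⟩, m.2 rfl⟩)
  have h3 : zpowers z < zpowers z ⊔ zpowers q :=
    lt_of_le_of_ne le_sup_left fun e => qz (e.ge (mem_sup_right (mem_zpowers q)))
  have c1 := card_lt_of_lt h1
  have c2 := card_dvd_of_le h1.le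
  have c3 := card_lt_of_lt h3
  have c4 := card_dvd_of_le (h2.trans h1.le)
  rw [H.card1] at c1 c2 c4
  rw [H.cardZ] at c3
  have h4 := eq_of_le_of_card_ge h2 (by
    have := Nat.le_of_dvd (by norm_num) c4
    generalize Nat.card ↥(zpowers z ⊔ zpowers q) = n at *
    generalize Nat.card ↥(Q ⊓ centralizer {s} ⊓ centralizer {q}) = n' at *
    interval_cases n <;> interval_cases n' <;> omega)
  have h5 : i * q * i⁻¹ ∈ zpowers z ⊔ zpowers q := h4.ge ⟨⟨H.nQ' H.iz hq, m.2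
    (Commute.mul_left (Commute.mul_left H.si.symm qs) (Commute.inv_left H.si.symm))⟩, m.2 e⟩
  rw [sup_comm, ← SetLike.mem_coe, coe_mul_of_left_le_normalizer_right _ _
    (zpowers_le.2 (mem_norm_of_comm (H.Qz q hq)))] at h5
  obtain ⟨a, ha, j, hj, e'⟩ := h5
  have h6 := qI.conj H.it
  change a * j = _ at e'
  rw [← e'] at h6
  rcases cube_cases (H.cube q hq) ha with rfl | rfl | rfl
  · rw [H.uniqI (one_mem _) (by simp [II]) hj h6, one_mul, eq_comm, conj_eq_one_iff] at e'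
    exact q1 e'
  · rw [H.uniqI hq qI hj h6, mul_one] at e'
    rw [← e', ← e'] at ip
    exact qq ip.symm
  · rw [H.uniqI (inv_mem hq) (by rw [II, ← conj_inv, qI]) hj h6, mul_one] at e'
    rw [← e', ← conj_inv, ← e', inv_inv] at ip
    exact qq ip.symm

theorem LC.ld [Finite G] (H : LC z t Q i r s w h) (hq : q ∈ Q) (qs : q * s = s * q)
    (qI : II t q) (rq : r * q = q * r) (ip : i * q * i⁻¹ = p) (e : p * q = z * q * p) :
    LD z t Q i r s w h q p := by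
  have m := @mem_centralizer_singleton_iff G _
  have hp : p ∈ Q := ip ▸ H.nQ' H.iz hq
  have ps : p * s = s * p := by
    rw [← ip]; exact Commute.mul_left (Commute.mul_left H.si.symm qs) (Commute.inv_left H.si.symm)
  have ip' : i * p * i⁻¹ = q⁻¹ := by rw [← show _ = q⁻¹ from qI, ← H.ii, ← ip]; group
  have Y : YRel z q p i :=
    ⟨(pow_three' z).symm.trans H.z3, (pow_three' q).symm.trans (H.cube q hq),
      (pow_three' p).symm.trans (H.cube p hp), H.i4, (H.Qz q hq).symm, (H.Qz p hp).symm, e,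
      H.iz.symm, A3.cj_eq.1 ip, A3.cj_eq.1 ip', H.z1⟩
  have e1 : gen [z, q, p] = Q ⊓ centralizer {s} := eq_of_le_of_card_ge
    (gen_le (by simp [m, H.zQ, H.sz, hq, qs, hp, ps])) (by rw [H.card1, A3.cardO Y])
  refine ⟨H, ⟨Y, H.r3, H.rz.symm, rq, ?_, H.ir, H.iir⟩, e1⟩
  have pI := (show II t p from ip ▸ qI.conj H.it).conj H.rt
  have rq' : r * q * r⁻¹ = q := A3.cj_eq.2 rq
  have rz' : r * z * r⁻¹ = z := A3.cj_eq.2 H.rz
  have qq : q⁻¹ ≠ q := fun e' => H.z1 (by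
    rwa [H.one_of_sq hq (mul_eq_one_iff_eq_inv.2 e'.symm), mul_one, mul_one, right_eq_mul] at e)
  let α := MulAut.conj i
  let β := MulAut.conj r⁻¹
  have k : α (β (α (β (α (β q))))) = q := by
    calc _ = MulAut.conj (i * r⁻¹ * i * r⁻¹ * i * r⁻¹) q := by simp only [map_mul]; rfl
      _ = q := by rw [H.ir]; simp
  have a1 : α q = p := ip
  have a2 : α p = q⁻¹ := ip'
  have a3 : α z = z := A3.cj_eq.2 H.iz
  have b1 : β q = q := A3.cj_eq.2 (Commute.inv_left rq)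
  have b3 : β z = z := A3.cj_eq.2 (Commute.inv_left H.rz)
  have b0 : β (r * p * r⁻¹) = p := by simp [β, mul_assoc]
  rcases A3.tri Y (r * p * r⁻¹) (e1.ge ⟨H.nQ' H.rz hp, m.2
    (Commute.mul_left (Commute.mul_left H.sr.symm ps) (Commute.inv_left H.sr.symm))⟩)
    (by rw [← rq', conj_mul, e, ← conj_mul, ← conj_mul, rq', rz'])
    (by rw [mul_assoc _ i i, H.ii, H.II_eq pI])
    with e' | e' | e'
  · rw [e'] at b0
    simp only [b1, a1, b0, a2, map_inv] at k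
    rw [← k, mul_inv_cancel, mul_assoc, inv_mul_cancel, mul_one] at e
    exact absurd e.symm H.z1
  · exact A3.cj_eq.1 e'
  · rw [e', map_mul, map_mul, map_inv, map_inv, b1, b3, mul_inv_eq_iff_eq_mul,
      mul_inv_eq_iff_eq_mul] at b0
    simp only [b1, a1, b0, a2, a3, b3, map_inv, map_mul] at k
    have : q⁻¹ * z * (p * z * q) = p := by
      calc _ = q⁻¹ * z * p * (z * q) := by group
        _ = q⁻¹ * z * (p * q) * z := by rw [Y.za]; group
        _ = q⁻¹ * (z * z * q) * (p * z) := by rw [e]; group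
        _ = z * z * z * p := by
          rw [← Y.zb, mul_assoc z z, Y.za, ← mul_assoc z, Y.za]; group
        _ = p := by rw [Y.z3, one_mul]
    have k' := congrArg α this
    simp only [a1, a2, a3, map_inv, map_mul] at k'
    exact absurd (k'.symm.trans k) qq

theorem LC.exists_ld [Finite G] (H : LC z t Q i r s w h) :
    ∃ z' q p, LD z' t Q i r s w h q p := by
  obtain ⟨q, ⟨⟨hq, qs, qI⟩, q1⟩, rq⟩ := A3.exists_fixed ((pow_three' r).trans H.r3)
    (S := {x | (x ∈ Q ∧ x * s = s * x ∧ II t x) ∧ x ≠ 1})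
    (fun x hx => ⟨⟨H.nQ' H.rz hx.1.1, Commute.mul_left (Commute.mul_left H.sr.symm hx.1.2.1)
      (Commute.inv_left H.sr.symm), hx.1.2.2.conj H.rt⟩, by simpa using hx.2⟩)
    (by rw [H.cardI]; decide)
  rcases cube_cases H.z3 (H.comm _ (H.nQ' H.iz hq) _ hq) with e | e | e
  · exact absurd (A3.cj_eq.1 (mul_inv_eq_one.1 e)) (H.not_comm hq qs qI q1)
  · exact ⟨_, _, _, H.ld hq qs qI rq rfl (by rw [← e]; group)⟩
  · exact ⟨_, _, _, H.inv.ld hq qs qI rq rfl (by rw [← e]; group)⟩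

theorem XRel.II_a (X : XRel z a b i r) : II (i * i) a := by
  rw [II, ← A3.cj_eq.2 X.ib, ← A3.cj_eq.2 X.ia]; group

theorem XRel.II_b (X : XRel z a b i r) : II (i * i) b := by
  rw [← A3.cj_eq.2 X.ia]; exact X.II_a.conj (mul_assoc _ _ _).symm

/-- A `2`-element normalising `3^(1+2)` and fixing `z` and `a` fixes `b`. -/
theorem XRel.fix_b (X : XRel z a b i r) (hg : g * b * g⁻¹ ∈ gen [z, a, b]) (gz : g * z = z * g)
    (ga : g * a = a * g) {n : ℕ} (h2 : g ^ 2 ^ n = 1) (h3 : ∀ x ∈ gen [z, a, b], x ^ 3 = 1) :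
    g * b = b * g := by
  have hc := mul_mem (inv_mem (mem_gen (l := [z, a, b]) (x := b) (by simp))) hg
  have h1 : g * b * g⁻¹ * a = z * a * (g * b * g⁻¹) := by
    rw [← A3.cj_eq.2 ga, conj_mul, X.ba, ← conj_mul, ← conj_mul, A3.cj_eq.2 ga, A3.cj_eq.2 gz]
  have h4 := A3.cA X _ hc (by
    rw [mul_assoc, h1, ← mul_assoc, ← mul_assoc a]
    congr 1
    rw [inv_mul_eq_iff_eq_mul, ← mul_assoc, X.ba, mul_inv_cancel_right])
  have h5 := mem_centralizer_singleton_iff.1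
    (gen_le (H := centralizer {g}) (by simp [mem_centralizer_singleton_iff, gz, ga]) h4)
  have h6 := h3 _ hc
  generalize hd : b⁻¹ * (g * b * g⁻¹) = c at h5 h6
  have key : ∀ k : ℕ, g ^ k * b = b * c ^ k * g ^ k := fun k => by
    induction k with
    | zero => simp
    | succ k ih =>
      rw [pow_succ', mul_assoc, ih, ← mul_assoc, ← mul_assoc, A3.cj_eq.1 (inv_mul_eq_iff_eq_mul.1 hd),
        mul_assoc _ g, ← (Commute.pow_left h5 k).eq, pow_succ']
      group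
  have h7 := key (2 ^ n)
  rw [h2, one_mul, mul_one, left_eq_mul] at h7
  rw [A3.one_of (Nat.Coprime.pow_left n (by norm_num)) h7 h6, inv_mul_eq_one] at hd
  exact A3.cj_eq.1 hd.symm

namespace LD

variable (H : LD z t Q i r s w h q p)
include H

theorem m1 (hx : x ∈ [z, q, p]) : x ∈ Q ∧ x * s = s * x :=
  (H.eq1.le (mem_gen hx)).imp id mem_centralizer_singleton_iff.1

theorem map_x (X : XRel z a b g r) :
    XRel z (w * a * w⁻¹) (w * b * w⁻¹) (w * g * w⁻¹) r := by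
  have := X.map (MulAut.conj w).toMonoidHom (by simpa using H.z1)
  simp only [MulEquiv.coe_toMonoidHom, MulAut.conj_apply] at this
  rwa [A3.cj_eq.2 H.wz, A3.cj_eq.2 H.wr] at this

theorem x2 : XRel z (w * q * w⁻¹) (w * p * w⁻¹) i r := by
  simpa only [A3.cj_eq.2 H.wi] using H.map_x H.x1

theorem eq2 : gen [z, w * q * w⁻¹, w * p * w⁻¹] = Q ⊓ centralizer {s * t} := by
  have m := @mem_centralizer_singleton_iff G _
  have k : ∀ x ∈ [z, q, p], w * x * w⁻¹ ∈ Q ⊓ centralizer {s * t} := fun x hx =>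
    ⟨H.nQ' H.wz (H.m1 hx).1, m.2 (by rw [← H.wsw, conj_mul, conj_mul, (H.m1 hx).2])⟩
  refine le_antisymm (gen_le (by
    simp only [List.forall_mem_cons]
    exact ⟨A3.cj_eq.2 H.wz ▸ k z (by simp), k q (by simp), k p (by simp), by simp⟩)) fun x hx => ?_
  have h1 : w⁻¹ * x * w⁻¹⁻¹ ∈ gen [z, q, p] := H.eq1.ge ⟨H.nQ' (Commute.inv_left H.wz) hx.1, m.2 (by
    have := m.1 hx.2
    rw [← H.wsw] at this
    calc _ = w⁻¹ * (x * (w * s * w⁻¹)) * w := by group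
      _ = _ := by rw [this]; group)⟩
  have h2 := gen_le (H := (gen [z, w * q * w⁻¹, w * p * w⁻¹]).comap (MulAut.conj w).toMonoidHom)
    (by simp [A3.cj_eq.2 H.wz, mem_gen]) h1
  simpa [mul_assoc] using h2

theorem m2 (hx : x ∈ [z, w * q * w⁻¹, w * p * w⁻¹]) : x ∈ Q ∧ x * (s * t) = s * t * x :=
  (H.eq2.le (mem_gen hx)).imp id mem_centralizer_singleton_iff.1

theorem c12 (ha : a ∈ [z, q, p]) (hb : b ∈ [z, w * q * w⁻¹, w * p * w⁻¹]) : a * b = b * a :=
  H.comm12 (H.m1 ha).1 (H.m1 ha).2 (H.m2 hb).1 (H.m2 hb).2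

theorem s_inv (hx : x ∈ [z, w * q * w⁻¹, w * p * w⁻¹]) (hI : II t x) : s * x = x⁻¹ * s := by
  have : s * x⁻¹ * s⁻¹ = x := by
    rw [← show _ = x⁻¹ from hI]
    calc _ = s * t * x * (s * t)⁻¹ := by group
      _ = x := by rw [← (H.m2 hx).2]; group
  rw [← A3.cj_eq, ← inv_inj, conj_inv, this, inv_inv]

theorem arel : ARel z q (w * q * w⁻¹) r p (w * p * w⁻¹) s w :=
  have X := H.x1
  have Y := H.x2
  ⟨X.z3, X.a3, Y.a3, X.r3, X.za, Y.za, X.zr, H.c12 (by simp) (by simp), X.ra, Y.ra, X.b3, Y.b3,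
    H.c12 (by simp) (by simp), X.zb, Y.zb, X.ba, Y.ba, H.c12 (by simp) (by simp),
    (H.c12 (by simp) (by simp)).symm, X.rb, Y.rb, H.s2, H.w2, H.sz, (H.m1 (by simp)).2.symm,
    H.s_inv (by simp) (H.ii ▸ Y.II_a), H.sr, (H.m1 (by simp)).2.symm,
    H.s_inv (by simp) (H.ii ▸ Y.II_b), H.wz, by group, H.wr, by group,
    by rw [H.sw, mul_assoc, mul_assoc, mul_assoc, ← mul_assoc s, ← mul_assoc (s * w), H.sw, H.ii, H.t2],
    H.z1⟩

theorem eqQ [Finite G] : gen [z, q, p, w * q * w⁻¹, w * p * w⁻¹] = Q :=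
  eq_of_le_of_card_ge (gen_le (by
    simp only [List.forall_mem_cons]
    exact ⟨H.zQ, (H.m1 (by simp)).1, (H.m1 (by simp)).1, (H.m2 (by simp)).1, (H.m2 (by simp)).1,
      by simp⟩)) (by rw [H.cardQ, MA_card_Q H.arel])

theorem brel_of {k : G} (hz : k * z = z * k) (hr : k * r = r⁻¹ * k) (hs : k * s = w * k)
    (hw : k * w = s * k) (hi : k * i = i⁻¹ * k) (hh : k * k = 1 ∨ k * k = t)
    (hq : k * q * k⁻¹ = q * (w * q * w⁻¹)) : BRel z q (w * q * w⁻¹) r p (w * p * w⁻¹) s w k := by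
  have A := H.arel
  have X := H.x1
  have Y := H.x2
  have kw : ∀ x, k * (w * x * w⁻¹) * k⁻¹ = s * (k * x * k⁻¹) * s⁻¹ := fun x => by
    rw [← A3.cj_eq.2 hw]; group
  have h1 : k * (w * q * w⁻¹) * k⁻¹ = q * (w * q * w⁻¹)⁻¹ := by
    rw [kw, hq, ← conj_mul, A3.cj_eq.2 A.sq1, A3.cj_eq.2 A.sq2]
  have ii : ∀ {a b}, i * b = a⁻¹ * i → i⁻¹ * a * i⁻¹⁻¹ = b⁻¹ := fun {a b} e => by
    rw [← inv_inj, conj_inv, ← A3.cj_eq.2 e]; group
  have h2 : k * p * k⁻¹ = p⁻¹ * (w * p * w⁻¹)⁻¹ := by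
    rw [← ii X.ib, ← ii Y.ib, conj_mul, ← hq, ← A3.cj_eq.2 hi, ← A3.cj_eq.2 X.ia]; group
  refine ⟨A, hz, A3.cj_eq.1 hq, A3.cj_eq.1 h1, hr, A3.cj_eq.1 h2, A3.cj_eq.1 ?_, hs, hw,
    (hh.resolve_left fun e => ?_).trans (H.ii.symm.trans H.sw.symm)⟩
  · rw [kw, h2, ← conj_mul, ← conj_inv, ← conj_inv, A3.cj_eq.2 A.sp1, A3.cj_eq.2 A.sp2, inv_inv]
  · have : k * (k * q * k⁻¹) * k⁻¹ = q := by
      calc _ = k * k * q * (k * k)⁻¹ := by group
        _ = q := by rw [e]; group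
    rw [hq, ← conj_mul, hq, h1, A.q12, mul_assoc, ← mul_assoc q, ← mul_assoc,
      ← (Commute.mul_left A.q12 A.q12).eq, mul_inv_cancel_right, mul_eq_left] at this
    have := X.ba
    rw [‹q = 1›, mul_one, mul_one, right_eq_mul] at this
    exact H.z1 this

theorem exists_brel [Finite G] : ∃ k, BRel z q (w * q * w⁻¹) r p (w * p * w⁻¹) s w k := by
  have qI : II t q := H.ii ▸ H.x1.II_a
  have hI := qI.conj H.ht
  rcases A3.hq H.arel (h * q * h⁻¹) (H.eqQ.ge (H.nQ' H.hz (H.m1 (by simp)).1))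
    (by rw [← A3.cj_eq.2 H.hs, conj_mul, conj_mul, H.arel.sq1])
    (A3.inv_comm.1 (by rw [← A3.cj_eq.2 H.hr, conj_mul, conj_mul, H.x1.ra]))
    (by rw [← H.II_eq hI, ← H.ii, ← H.sw]; group) with e | e | e
  · have := H.x1.ba
    rw [conj_eq_one_iff.1 e, mul_one, mul_one, right_eq_mul] at this
    exact absurd this H.z1
  · exact ⟨h, H.brel_of H.hz H.hr H.hs H.hw H.hi H.hh e⟩
  · have k : ∀ {a b}, a * t = t * a → h * a = b * h → h * t * a = b * (h * t) := fun e1 e2 => by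
      rw [mul_assoc, ← e1, ← mul_assoc, e2, mul_assoc]
    refine ⟨h * t, H.brel_of (k H.tz.symm H.hz) (k H.rt H.hr) (k H.st H.hs) (k H.wt H.hw)
      (k H.it H.hi) (by
        rw [mul_assoc, ← mul_assoc t, ← H.ht, mul_assoc, H.t2, mul_one]; exact H.hh) ?_⟩
    calc _ = h * (t * q * t⁻¹) * h⁻¹ := by group
      _ = _ := by rw [qI, ← conj_inv, e]; group

end LD

end Cfsg.Lib.Co23
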