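import Cfsg.Agent.Co23.Defs

/-! Finite facts about the normalizer of `J`. -/

set_option autoImplicit false
set_option maxRecDepth 100000
set_option linter.unusedSimpArgs false
set_option linter.unusedSectionVars false
set_option linter.unusedVariables false
set_option maxHeartbeats 1000000

namespace Cfsg.Lib.Co23

open Subgroup Cfsg.Lib.Spor Cfsg.Lib.Spor.Bulk Cfsg.Lib.Spor.PK Cfsg.Lib.Spor.WF

variable {G : Type*} [Group G] {z a b i r n m s w h0 q p u x q1 q2 p1 p2 io : G}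

theorem B2_cls (h : BRel z q1 q2 r p1 p2 s w h0) :
    ∀ x ∈ gen [z, q1, q2, r], x = 1 ∨ (x = z ∨ x = z⁻¹ ∨ (∃ c ∈ gen [p1, p2], c * r = x * c ∨ c * r⁻¹ =
    x * c)) ∨ (∃ c ∈ gen [p1, p2, s, w, h0], c * q1 = x * c ∨ c * z * r = x * c ∨ c * z⁻¹ * r = x *
    c) := by
  have := PM.holds MB_ok MB_subs (MB_emb h) (p := (.all 1 40 (.or (.eq [40] []) (.or (.or (.eq [40] [1]) (.or (.eq [40] [2]) (.ex 7 41 (.or (.eq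
      [7,41] [41,40]) (.eq [8,41] [41,40]))))) (.ex 5 41 (.or (.eq [3,41] [41,40]) (.or (.eq
      [7,1,41] [41,40]) (.eq [7,2,41] [41,40])))))))) (by decide +kernel)
  simp only [Fm.sem, wv_cons, wv_nil, one_mul, upd_apply, Nat.reduceEqDiff, ↓reduceIte, gMB_1, gMB_2, gMB_3, gMB_4, gMB_5, gMB_6, gMB_7, gMB_8, gMB_9, gMB_10, gMB_11, gMB_12, gMB_13, gMB_14, gMB_15, gMB_16, gMB_s0, gMB_s1, gMB_s2, gMB_s3, gMB_s4, gMB_s5, gMB_s6, gMB_s7, gMB_s8, exists_eq_right'] at this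
  exact this

theorem B2_m (h : BRel z q1 q2 r p1 p2 s w h0) :
    ∀ v ∈ gen [z, q1, q2, r], (r⁻¹ * z⁻¹ * v = z ∨ r⁻¹ * z⁻¹ * v = z⁻¹ ∨ (∃ c ∈ gen [p1, p2], c * r =
    r⁻¹ * z⁻¹ * v * c ∨ c * r⁻¹ = r⁻¹ * z⁻¹ * v * c)) → (r⁻¹ * z⁻¹ * v * v = z ∨ r⁻¹ * z⁻¹ * v * v =
    z⁻¹ ∨ (∃ c ∈ gen [p1, p2], c * r = r⁻¹ * z⁻¹ * v * v * c ∨ c * r⁻¹ = r⁻¹ * z⁻¹ * v * v * c)) → ∀
    y ∈ gen [z, q1, q2, r], (r⁻¹ * z⁻¹ * y = z ∨ r⁻¹ * z⁻¹ * y = z⁻¹ ∨ (∃ c ∈ gen [p1, p2], c * r =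
    r⁻¹ * z⁻¹ * y * c ∨ c * r⁻¹ = r⁻¹ * z⁻¹ * y * c)) → (r⁻¹ * z⁻¹ * y * y = z ∨ r⁻¹ * z⁻¹ * y * y =
    z⁻¹ ∨ (∃ c ∈ gen [p1, p2], c * r = r⁻¹ * z⁻¹ * y * y * c ∨ c * r⁻¹ = r⁻¹ * z⁻¹ * y * y * c)) →
    (r⁻¹ * z * v * y = z ∨ r⁻¹ * z * v * y = z⁻¹ ∨ (∃ c ∈ gen [p1, p2], c * r = r⁻¹ * z * v * y * c
    ∨ c * r⁻¹ = r⁻¹ * z * v * y * c)) → (r⁻¹ * z * v * y * y = z ∨ r⁻¹ * z * v * y * y = z⁻¹ ∨ (∃ c
    ∈ gen [p1, p2], c * r = r⁻¹ * z * v * y * y * c ∨ c * r⁻¹ = r⁻¹ * z * v * y * y * c)) → (r⁻¹ * z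
    * v * v * y = z ∨ r⁻¹ * z * v * v * y = z⁻¹ ∨ (∃ c ∈ gen [p1, p2], c * r = r⁻¹ * z * v * v * y *
    c ∨ c * r⁻¹ = r⁻¹ * z * v * v * y * c)) → (r⁻¹ * z * v * v * y * y = z ∨ r⁻¹ * z * v * v * y * y
    = z⁻¹ ∨ (∃ c ∈ gen [p1, p2], c * r = r⁻¹ * z * v * v * y * y * c ∨ c * r⁻¹ = r⁻¹ * z * v * v * y
    * y * c)) → (∃ d ∈ gen [s, w], d * q1 = v * d ∧ d * q2 = y * d ∧ d * z = z * d ∧ d * r = r * d) := by
  have := PM.holds MB_ok MB_subs (MB_emb h) (p := (.all 1 40 (.imp (.or (.eq [40,2,8] [1]) (.or (.eq [40,2,8] [2]) (.ex 7 41 (.or (.eq [7,41]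
      [41,40,2,8]) (.eq [8,41] [41,40,2,8]))))) (.imp (.or (.eq [40,40,2,8] [1]) (.or (.eq
      [40,40,2,8] [2]) (.ex 7 41 (.or (.eq [7,41] [41,40,40,2,8]) (.eq [8,41] [41,40,40,2,8])))))
      (.all 1 41 (.imp (.or (.eq [41,2,8] [1]) (.or (.eq [41,2,8] [2]) (.ex 7 42 (.or (.eq [7,42]
      [42,41,2,8]) (.eq [8,42] [42,41,2,8]))))) (.imp (.or (.eq [41,41,2,8] [1]) (.or (.eq
      [41,41,2,8] [2]) (.ex 7 42 (.or (.eq [7,42] [42,41,41,2,8]) (.eq [8,42] [42,41,41,2,8])))))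
      (.imp (.or (.eq [41,40,1,8] [1]) (.or (.eq [41,40,1,8] [2]) (.ex 7 42 (.or (.eq [7,42]
      [42,41,40,1,8]) (.eq [8,42] [42,41,40,1,8]))))) (.imp (.or (.eq [41,41,40,1,8] [1]) (.or (.eq
      [41,41,40,1,8] [2]) (.ex 7 42 (.or (.eq [7,42] [42,41,41,40,1,8]) (.eq [8,42]
      [42,41,41,40,1,8]))))) (.imp (.or (.eq [41,40,40,1,8] [1]) (.or (.eq [41,40,40,1,8] [2]) (.ex
      7 42 (.or (.eq [7,42] [42,41,40,40,1,8]) (.eq [8,42] [42,41,40,40,1,8]))))) (.imp (.or (.eq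
      [41,41,40,40,1,8] [1]) (.or (.eq [41,41,40,40,1,8] [2]) (.ex 7 42 (.or (.eq [7,42]
      [42,41,41,40,40,1,8]) (.eq [8,42] [42,41,41,40,40,1,8]))))) (.ex 8 42 (.and (.eq [3,42]
      [42,40]) (.and (.eq [5,42] [42,41]) (.and (.eq [1,42] [42,1]) (.eq [7,42]
      [42,7])))))))))))))))) (by decide +kernel)
  simp only [Fm.sem, wv_cons, wv_nil, one_mul, upd_apply, Nat.reduceEqDiff, ↓reduceIte, gMB_1, gMB_2, gMB_3, gMB_4, gMB_5, gMB_6, gMB_7, gMB_8, gMB_9, gMB_10, gMB_11, gMB_12, gMB_13, gMB_14, gMB_15, gMB_16, gMB_s0, gMB_s1, gMB_s2, gMB_s3, gMB_s4, gMB_s5, gMB_s6, gMB_s7, gMB_s8, exists_eq_right'] at this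
  exact this

theorem B2_sing (h : BRel z q1 q2 r p1 p2 s w h0) :
    (z * r * q1 = z ∨ z * r * q1 = z⁻¹ ∨ (∃ c ∈ gen [p1, p2], c * r = z * r * q1 * c ∨ c * r⁻¹ = z * r *
    q1 * c)) ∧ (z * r * q1 * q1 = z ∨ z * r * q1 * q1 = z⁻¹ ∨ (∃ c ∈ gen [p1, p2], c * r = z * r *
    q1 * q1 * c ∨ c * r⁻¹ = z * r * q1 * q1 * c)) ∧ (z * r * q2 = z ∨ z * r * q2 = z⁻¹ ∨ (∃ c ∈ gen
    [p1, p2], c * r = z * r * q2 * c ∨ c * r⁻¹ = z * r * q2 * c)) ∧ (z * r * q2 * q2 = z ∨ z * r *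
    q2 * q2 = z⁻¹ ∨ (∃ c ∈ gen [p1, p2], c * r = z * r * q2 * q2 * c ∨ c * r⁻¹ = z * r * q2 * q2 *
    c)) ∧ (z * r⁻¹ * q1 * q2 = z ∨ z * r⁻¹ * q1 * q2 = z⁻¹ ∨ (∃ c ∈ gen [p1, p2], c * r = z * r⁻¹ *
    q1 * q2 * c ∨ c * r⁻¹ = z * r⁻¹ * q1 * q2 * c)) ∧ (z * r⁻¹ * q1 * q2 * q2 = z ∨ z * r⁻¹ * q1 *
    q2 * q2 = z⁻¹ ∨ (∃ c ∈ gen [p1, p2], c * r = z * r⁻¹ * q1 * q2 * q2 * c ∨ c * r⁻¹ = z * r⁻¹ * q1
    * q2 * q2 * c)) ∧ (z * r⁻¹ * q1 * q1 * q2 = z ∨ z * r⁻¹ * q1 * q1 * q2 = z⁻¹ ∨ (∃ c ∈ gen [p1,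
    p2], c * r = z * r⁻¹ * q1 * q1 * q2 * c ∨ c * r⁻¹ = z * r⁻¹ * q1 * q1 * q2 * c)) ∧ (z * r⁻¹ * q1
    * q1 * q2 * q2 = z ∨ z * r⁻¹ * q1 * q1 * q2 * q2 = z⁻¹ ∨ (∃ c ∈ gen [p1, p2], c * r = z * r⁻¹ *
    q1 * q1 * q2 * q2 * c ∨ c * r⁻¹ = z * r⁻¹ * q1 * q1 * q2 * q2 * c)) := by
  have := PM.holds MB_ok MB_subs (MB_emb h) (p := (.and (.or (.eq [3,7,1] [1]) (.or (.eq [3,7,1] [2]) (.ex 7 40 (.or (.eq [7,40] [40,3,7,1]) (.eq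
      [8,40] [40,3,7,1]))))) (.and (.or (.eq [3,3,7,1] [1]) (.or (.eq [3,3,7,1] [2]) (.ex 7 40 (.or
      (.eq [7,40] [40,3,3,7,1]) (.eq [8,40] [40,3,3,7,1]))))) (.and (.or (.eq [5,7,1] [1]) (.or (.eq
      [5,7,1] [2]) (.ex 7 40 (.or (.eq [7,40] [40,5,7,1]) (.eq [8,40] [40,5,7,1]))))) (.and (.or
      (.eq [5,5,7,1] [1]) (.or (.eq [5,5,7,1] [2]) (.ex 7 40 (.or (.eq [7,40] [40,5,5,7,1]) (.eq
      [8,40] [40,5,5,7,1]))))) (.and (.or (.eq [5,3,8,1] [1]) (.or (.eq [5,3,8,1] [2]) (.ex 7 40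
      (.or (.eq [7,40] [40,5,3,8,1]) (.eq [8,40] [40,5,3,8,1]))))) (.and (.or (.eq [5,5,3,8,1] [1])
      (.or (.eq [5,5,3,8,1] [2]) (.ex 7 40 (.or (.eq [7,40] [40,5,5,3,8,1]) (.eq [8,40]
      [40,5,5,3,8,1]))))) (.and (.or (.eq [5,3,3,8,1] [1]) (.or (.eq [5,3,3,8,1] [2]) (.ex 7 40 (.or
      (.eq [7,40] [40,5,3,3,8,1]) (.eq [8,40] [40,5,3,3,8,1]))))) (.or (.eq [5,5,3,3,8,1] [1]) (.or
      (.eq [5,5,3,3,8,1] [2]) (.ex 7 40 (.or (.eq [7,40] [40,5,5,3,3,8,1]) (.eq [8,40]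
      [40,5,5,3,3,8,1]))))))))))))) (by decide +kernel)
  simp only [Fm.sem, wv_cons, wv_nil, one_mul, upd_apply, Nat.reduceEqDiff, ↓reduceIte, gMB_1, gMB_2, gMB_3, gMB_4, gMB_5, gMB_6, gMB_7, gMB_8, gMB_9, gMB_10, gMB_11, gMB_12, gMB_13, gMB_14, gMB_15, gMB_16, gMB_s0, gMB_s1, gMB_s2, gMB_s3, gMB_s4, gMB_s5, gMB_s6, gMB_s7, gMB_s8, exists_eq_right'] at this
  exact this

theorem B2_io (h : BRel z q1 q2 r p1 p2 s w h0) :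
    ∀ c ∈ gen [z, q1, q2, r], s * w * s * w * p1 * c * s * w * s * w * p1 * c = 1 → h0 * p1 * c * h0⁻¹ *
    p1 * c * w * p1 * c * w = 1 → c = 1 := by
  have := PM.holds MB_ok MB_subs (MB_emb h) (p := (.all 1 40 (.imp (.eq [40,9,14,13,14,13,40,9,14,13,14,13] []) (.imp (.eq
      [14,40,9,14,40,9,16,40,9,15] []) (.eq [40] []))))) (by decide +kernel)
  simp only [Fm.sem, wv_cons, wv_nil, one_mul, upd_apply, Nat.reduceEqDiff, ↓reduceIte, gMB_1, gMB_2, gMB_3, gMB_4, gMB_5, gMB_6, gMB_7, gMB_8, gMB_9, gMB_10, gMB_11, gMB_12, gMB_13, gMB_14, gMB_15, gMB_16, gMB_s0, gMB_s1, gMB_s2, gMB_s3, gMB_s4, gMB_s5, gMB_s6, gMB_s7, gMB_s8, exists_eq_right'] at this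
  exact this

theorem B2_cq (h : BRel z q1 q2 r p1 p2 s w h0) :
    ∀ c ∈ gen [z, q1, q2, r], c * p1 = p1 * c → c * p2 = p2 * c → (c = 1 ∨ c = z ∨ c = z⁻¹) := by
  have := PM.holds MB_ok MB_subs (MB_emb h) (p := (.all 1 40 (.imp (.eq [9,40] [40,9]) (.imp (.eq [11,40] [40,11]) (.or (.eq [40] []) (.or (.eq [40]
      [1]) (.eq [40] [2]))))))) (by decide +kernel)
  simp only [Fm.sem, wv_cons, wv_nil, one_mul, upd_apply, Nat.reduceEqDiff, ↓reduceIte, gMB_1, gMB_2, gMB_3, gMB_4, gMB_5, gMB_6, gMB_7, gMB_8, gMB_9, gMB_10, gMB_11, gMB_12, gMB_13, gMB_14, gMB_15, gMB_16, gMB_s0, gMB_s1, gMB_s2, gMB_s3, gMB_s4, gMB_s5, gMB_s6, gMB_s7, gMB_s8, exists_eq_right'] at this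
  exact this

theorem B2_rel (h : BRel z q1 q2 r p1 p2 s w h0) :
    ¬ z = r⁻¹ ∧ ¬ z = r ∧ s * w * s * w * p1 * s * w * s * w * p1 = 1 ∧ h0 * p1 * h0⁻¹ * p1 * w * p1 * w
    = 1 ∧ (∀ c ∈ gen [p1, p2], c * z = z * c) := by
  have := PM.holds MB_ok MB_subs (MB_emb h) (p := (.and (.not (.eq [1] [8])) (.and (.not (.eq [1] [7])) (.and (.eq [9,14,13,14,13,9,14,13,14,13] [])
      (.and (.eq [14,9,14,9,16,9,15] []) (.all 7 40 (.eq [1,40] [40,1]))))))) (by decide +kernel)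
  simp only [Fm.sem, wv_cons, wv_nil, one_mul, upd_apply, Nat.reduceEqDiff, ↓reduceIte, gMB_1, gMB_2, gMB_3, gMB_4, gMB_5, gMB_6, gMB_7, gMB_8, gMB_9, gMB_10, gMB_11, gMB_12, gMB_13, gMB_14, gMB_15, gMB_16, gMB_s0, gMB_s1, gMB_s2, gMB_s3, gMB_s4, gMB_s5, gMB_s6, gMB_s7, gMB_s8, exists_eq_right'] at this
  exact this

theorem B2_J (h : BRel z q1 q2 r p1 p2 s w h0) :
    ∀ x ∈ gen [z, q1, q2, r], x * x * x = 1 ∧ (∀ y ∈ gen [z, q1, q2, r], x * y = y * x) := by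
  have := PM.holds MB_ok MB_subs (MB_emb h) (p := (.all 1 40 (.and (.eq [40,40,40] []) (.all 1 41 (.eq [41,40] [40,41]))))) (by decide +kernel)
  simp only [Fm.sem, wv_cons, wv_nil, one_mul, upd_apply, Nat.reduceEqDiff, ↓reduceIte, gMB_1, gMB_2, gMB_3, gMB_4, gMB_5, gMB_6, gMB_7, gMB_8, gMB_9, gMB_10, gMB_11, gMB_12, gMB_13, gMB_14, gMB_15, gMB_16, gMB_s0, gMB_s1, gMB_s2, gMB_s3, gMB_s4, gMB_s5, gMB_s6, gMB_s7, gMB_s8, exists_eq_right'] at this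
  exact this

/-- more subgroups -/
@[reducible] def MXb2 : PM := { MX with
  SW := [([[1],[3],[5],[7],[9]],
    [⟨0, [512, 769, 1346, 260, 1665, 1090, 577, 194, 1539, 1220, 129, 1604, 642, 1473, 1283, 449, 1156, 1028, 1410,
    707, 835, 897, 962, 66, 386, 321], [[4, 3, 0], [0, 3, 4]]⟩,
     ⟨1, [1472, 193, 1088, 897, 1664, 704, 1280], [[1, 1]]⟩,
     ⟨9, [1344, 960], []⟩]),
   ([[1],[3],[9]],
    [⟨0, [512, 769, 258, 1665, 577, 1218, 1473, 1026], [[2, 0]]⟩,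
     ⟨1, [1280, 704], []⟩])] }

instance : NeZero MXb2.n := ⟨by decide⟩

theorem MXb2_ok : MXb2.ok = true := MX_ok

theorem MXb2_subs : MXb2.subsOK = true := by decide +kernel

theorem MXb2_s0 : sub (gMX z a b i r) (MXb2.W 0) = gen [z, a, b, i, r] := by
  change gen (List.map (wv _) [[1],[3],[5],[7],[9]]) = _
  simp only [List.map_cons, List.map_nil, wv_cons, wv_nil, one_mul, gMX_1, gMX_2, gMX_3, gMX_4, gMX_5, gMX_6, gMX_7, gMX_8, gMX_9, gMX_10]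

theorem MXb2_s1 : sub (gMX z a b i r) (MXb2.W 1) = gen [z, a, r] := by
  change gen (List.map (wv _) [[1],[3],[9]]) = _
  simp only [List.map_cons, List.map_nil, wv_cons, wv_nil, one_mul, gMX_1, gMX_2, gMX_3, gMX_4, gMX_5, gMX_6, gMX_7, gMX_8, gMX_9, gMX_10]

theorem B2_ca (h : XRel z a b i r) :
    ∀ y ∈ gen [z, a, b, i, r], y * a = a * y → y ∈ gen [z, a, r] := by
  have := PM.holds MXb2_ok MXb2_subs (show Emb MXb2.m _ from (MX_emb h)) (p := (.all 0 40 (.imp (.eq [3,40] [40,3]) (.ex 1 41 (.eq [40] [41]))))) (by decide +kernel)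
  simp only [Fm.sem, wv_cons, wv_nil, one_mul, upd_apply, Nat.reduceEqDiff, ↓reduceIte, gMX_1, gMX_2, gMX_3, gMX_4, gMX_5, gMX_6, gMX_7, gMX_8, gMX_9, gMX_10, MXb2_s0, MXb2_s1, exists_eq_right'] at this
  exact this

end Cfsg.Lib.Co23
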