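import Cfsg.Agent.Co23.Defs

/-! Finite facts for the fusion in `J`. -/

set_option autoImplicit false
set_option maxRecDepth 100000
set_option linter.unusedSimpArgs false
set_option linter.unusedSectionVars false
set_option linter.unusedVariables false
set_option maxHeartbeats 1000000

namespace Cfsg.Lib.Co23

open Subgroup Cfsg.Lib.Spor Cfsg.Lib.Spor.Bulk Cfsg.Lib.Spor.PK Cfsg.Lib.Spor.WF

variable {G : Type*} [Group G] {z a b i r n m s w h0 q p u x q1 q2 p1 p2 io : G}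

/-- more subgroups -/
@[reducible] def MXb1 : PM := { MX with
  SW := [([[1],[3],[5]],
    [⟨0, [512, 769, 1346, 256, 1665, 1090, 577, 194, 129, 1538, 1217, 642, 1473, 449, 1282, 1602, 1153, 1410, 897,
    962, 705, 1025, 834, 66, 386, 321], []⟩]),
   ([[1],[3],[5],[7],[10,7,9]],
    [⟨0, [512, 769, 1346, 256, 1665, 1090, 577, 194, 1539, 324, 129, 1156, 1217, 642, 1473, 1283, 68, 449, 900,
    1602, 1410, 707, 964, 1026, 386, 835], [[1, 4, 2, 4, 4, 1, 1, 0], [1, 4, 2, 3, 2, 2, 0]]⟩,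
     ⟨1, [1664, 1089, 192, 897, 704, 1472, 1281], []⟩]),
   ([[1],[3],[5],[7],[9]],
    [⟨0, [512, 769, 1346, 260, 1665, 1090, 577, 194, 1539, 1220, 129, 1604, 642, 1473, 1283, 449, 1156, 1028, 1410,
    707, 835, 897, 962, 66, 386, 321], [[4, 3, 0], [3]]⟩,
     ⟨1, [1472, 897, 1088, 704, 193, 1665, 1280], [[1, 0, 1]]⟩,
     ⟨9, [960, 1344], []⟩])] }

instance : NeZero MXb1.n := ⟨by decide⟩

theorem MXb1_ok : MXb1.ok = true := MX_ok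

theorem MXb1_subs : MXb1.subsOK = true := by decide +kernel

theorem MXb1_s0 : sub (gMX z a b i r) (MXb1.W 0) = gen [z, a, b] := by
  change gen (List.map (wv _) [[1],[3],[5]]) = _
  simp only [List.map_cons, List.map_nil, wv_cons, wv_nil, one_mul, gMX_1, gMX_2, gMX_3, gMX_4, gMX_5, gMX_6, gMX_7, gMX_8, gMX_9, gMX_10]

theorem MXb1_s1 : sub (gMX z a b i r) (MXb1.W 1) = gen [z, a, b, i, r * i * r⁻¹] := by
  change gen (List.map (wv _) [[1],[3],[5],[7],[10,7,9]]) = _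
  simp only [List.map_cons, List.map_nil, wv_cons, wv_nil, one_mul, gMX_1, gMX_2, gMX_3, gMX_4, gMX_5, gMX_6, gMX_7, gMX_8, gMX_9, gMX_10]

theorem MXb1_s2 : sub (gMX z a b i r) (MXb1.W 2) = gen [z, a, b, i, r] := by
  change gen (List.map (wv _) [[1],[3],[5],[7],[9]]) = _
  simp only [List.map_cons, List.map_nil, wv_cons, wv_nil, one_mul, gMX_1, gMX_2, gMX_3, gMX_4, gMX_5, gMX_6, gMX_7, gMX_8, gMX_9, gMX_10]

theorem b1_tr (h : XRel z a b i r) :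
    ∀ y ∈ gen [z, a, b], (y = 1 ∨ y = z ∨ y = z⁻¹) ∨ (∃ c ∈ gen [z, a, b, i, r * i * r⁻¹], c * a = y *
    c) := by
  have := PM.holds MXb1_ok MXb1_subs (show Emb MXb1.m _ from (MX_emb h)) (p := (.all 0 40 (.or (.or (.eq [40] []) (.or (.eq [40] [1]) (.eq [40] [2]))) (.ex 1 41 (.eq [3,41]
      [41,40]))))) (by decide +kernel)
  simp only [Fm.sem, wv_cons, wv_nil, one_mul, upd_apply, Nat.reduceEqDiff, ↓reduceIte, gMX_1, gMX_2, gMX_3, gMX_4, gMX_5, gMX_6, gMX_7, gMX_8, gMX_9, gMX_10, MXb1_s0, MXb1_s1, MXb1_s2, exists_eq_right'] at this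
  exact this

theorem b1_cen (h : XRel z a b i r) :
    ∀ y ∈ gen [z, a, b, i, r], y * a = a * y → y * b = b * y → (y = 1 ∨ y = z ∨ y = z⁻¹) := by
  have := PM.holds MXb1_ok MXb1_subs (show Emb MXb1.m _ from (MX_emb h)) (p := (.all 2 40 (.imp (.eq [3,40] [40,3]) (.imp (.eq [5,40] [40,5]) (.or (.eq [40] []) (.or (.eq [40]
      [1]) (.eq [40] [2]))))))) (by decide +kernel)
  simp only [Fm.sem, wv_cons, wv_nil, one_mul, upd_apply, Nat.reduceEqDiff, ↓reduceIte, gMX_1, gMX_2, gMX_3, gMX_4, gMX_5, gMX_6, gMX_7, gMX_8, gMX_9, gMX_10, MXb1_s0, MXb1_s1, MXb1_s2, exists_eq_right'] at this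
  exact this

/-- more subgroups -/
@[reducible] def MAb1 : PM := { MA with
  SW := [([[1],[3],[9],[5],[11]],
    [⟨0, [128, 770, 388, 64, 898, 516, 1346, 1732, 580, 834, 452, 1474, 1796, 708, 1409, 1156, 1540, 643, 1860,
    1220, 1604, 1284, 964, 1667, 1028, 1092], [[3], [2, 4, 4, 3, 3, 4, 2, 1, 2]]⟩,
     ⟨12, [897, 833], [[0]]⟩,
     ⟨6, [512, 448], []⟩]),
   ([[1],[3],[5]],
    [⟨0, [128, 64], [[2], [1]]⟩,
     ⟨12, [897, 833], [[0]]⟩,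
     ⟨6, [512, 448], []⟩]),
   ([[1],[3],[5],[11]],
    [⟨0, [128, 387, 64, 515, 579, 451, 707, 642], [[2], [1]]⟩,
     ⟨12, [897, 833], [[0]]⟩,
     ⟨6, [512, 448], []⟩])] }

instance : NeZero MAb1.n := ⟨by decide⟩

theorem MAb1_ok : MAb1.ok = true := MA_ok

theorem MAb1_subs : MAb1.subsOK = true := by decide +kernel

theorem MAb1_s0 : sub (gMA z q1 q2 r p1 p2 s w) (MAb1.W 0) = gen [z, q1, p1, q2, p2] := by
  change gen (List.map (wv _) [[1],[3],[9],[5],[11]]) = _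
  simp only [List.map_cons, List.map_nil, wv_cons, wv_nil, one_mul, gMA_1, gMA_2, gMA_3, gMA_4, gMA_5, gMA_6, gMA_7, gMA_8, gMA_9, gMA_10, gMA_11, gMA_12, gMA_13, gMA_14]

theorem MAb1_s1 : sub (gMA z q1 q2 r p1 p2 s w) (MAb1.W 1) = gen [z, q1, q2] := by
  change gen (List.map (wv _) [[1],[3],[5]]) = _
  simp only [List.map_cons, List.map_nil, wv_cons, wv_nil, one_mul, gMA_1, gMA_2, gMA_3, gMA_4, gMA_5, gMA_6, gMA_7, gMA_8, gMA_9, gMA_10, gMA_11, gMA_12, gMA_13, gMA_14]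

theorem MAb1_s2 : sub (gMA z q1 q2 r p1 p2 s w) (MAb1.W 2) = gen [z, q1, q2, p2] := by
  change gen (List.map (wv _) [[1],[3],[5],[11]]) = _
  simp only [List.map_cons, List.map_nil, wv_cons, wv_nil, one_mul, gMA_1, gMA_2, gMA_3, gMA_4, gMA_5, gMA_6, gMA_7, gMA_8, gMA_9, gMA_10, gMA_11, gMA_12, gMA_13, gMA_14]

theorem b1_cardE (h : ARel z q1 q2 r p1 p2 s w) : Nat.card (gen [z, q1, q2, p2] : Subgroup G) = 81 :=
  MAb1_s2 (G := G) ▸ (PM.card_of_emb MAb1_ok MAb1_subs (show Emb MAb1.m _ from (MA_emb h)) 2).trans (by decide +kernel)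

theorem b1_three (h : ARel z q1 q2 r p1 p2 s w) :
    ∀ y ∈ gen [z, q1, p1, q2, p2], (y * r * y * r * y * r = 1 ∨ y * r⁻¹ * y * r⁻¹ * y * r⁻¹ = 1) → y ∈
    gen [z, q1, q2] := by
  have := PM.holds MAb1_ok MAb1_subs (show Emb MAb1.m _ from (MA_emb h)) (p := (.all 0 40 (.imp (.or (.eq [7,40,7,40,7,40] []) (.eq [8,40,8,40,8,40] [])) (.ex 1 41 (.eq [40]
      [41]))))) (by decide +kernel)
  simp only [Fm.sem, wv_cons, wv_nil, one_mul, upd_apply, Nat.reduceEqDiff, ↓reduceIte, gMA_1, gMA_2, gMA_3, gMA_4, gMA_5, gMA_6, gMA_7, gMA_8, gMA_9, gMA_10, gMA_11, gMA_12, gMA_13, gMA_14, MAb1_s0, MAb1_s1, MAb1_s2, exists_eq_right'] at this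
  exact this

theorem b1_cs (h : ARel z q1 q2 r p1 p2 s w) :
    ∀ y ∈ gen [z, q1, p1, q2, p2], (y * r = r * y ∨ y * r = z * r * y ∨ y * r = z⁻¹ * r * y) → y ∈ gen
    [z, q1, q2] := by
  have := PM.holds MAb1_ok MAb1_subs (show Emb MAb1.m _ from (MA_emb h)) (p := (.all 0 40 (.imp (.or (.eq [7,40] [40,7]) (.or (.eq [7,40] [40,7,1]) (.eq [7,40] [40,7,2]))) (.ex 1
      41 (.eq [40] [41]))))) (by decide +kernel)
  simp only [Fm.sem, wv_cons, wv_nil, one_mul, upd_apply, Nat.reduceEqDiff, ↓reduceIte, gMA_1, gMA_2, gMA_3, gMA_4, gMA_5, gMA_6, gMA_7, gMA_8, gMA_9, gMA_10, gMA_11, gMA_12, gMA_13, gMA_14, MAb1_s0, MAb1_s1, MAb1_s2, exists_eq_right'] at this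
  exact this

theorem b1_cm (h : ARel z q1 q2 r p1 p2 s w) :
    ∀ y ∈ gen [z, q1, p1, q2, p2], (y * q1 * y * y * q1⁻¹ = 1 ∨ y * q1 * y * y * q1⁻¹ = z ∨ y * q1 * y *
    y * q1⁻¹ = z⁻¹) ∧ (y * q2 * y * y * q2⁻¹ = 1 ∨ y * q2 * y * y * q2⁻¹ = z ∨ y * q2 * y * y * q2⁻¹
    = z⁻¹) ∧ y * y * y = 1 := by
  have := PM.holds MAb1_ok MAb1_subs (show Emb MAb1.m _ from (MA_emb h)) (p := (.all 0 40 (.and (.or (.eq [4,40,40,3,40] []) (.or (.eq [4,40,40,3,40] [1]) (.eq [4,40,40,3,40]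
      [2]))) (.and (.or (.eq [6,40,40,5,40] []) (.or (.eq [6,40,40,5,40] [1]) (.eq [6,40,40,5,40]
      [2]))) (.eq [40,40,40] []))))) (by decide +kernel)
  simp only [Fm.sem, wv_cons, wv_nil, one_mul, upd_apply, Nat.reduceEqDiff, ↓reduceIte, gMA_1, gMA_2, gMA_3, gMA_4, gMA_5, gMA_6, gMA_7, gMA_8, gMA_9, gMA_10, gMA_11, gMA_12, gMA_13, gMA_14, MAb1_s0, MAb1_s1, MAb1_s2, exists_eq_right'] at this
  exact this

theorem b1_cq (h : ARel z q1 q2 r p1 p2 s w) :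
    ∀ y ∈ gen [z, q1, p1, q2, p2], y * q1 = q1 * y → (y ∈ gen [z, q1, q2] ∨ y * p2 ∈ gen [z, q1, q2] ∨ y
    * p2⁻¹ ∈ gen [z, q1, q2]) := by
  have := PM.holds MAb1_ok MAb1_subs (show Emb MAb1.m _ from (MA_emb h)) (p := (.all 0 40 (.imp (.eq [3,40] [40,3]) (.or (.ex 1 41 (.eq [40] [41])) (.or (.ex 1 41 (.eq [11,40]
      [41])) (.ex 1 41 (.eq [12,40] [41]))))))) (by decide +kernel)
  simp only [Fm.sem, wv_cons, wv_nil, one_mul, upd_apply, Nat.reduceEqDiff, ↓reduceIte, gMA_1, gMA_2, gMA_3, gMA_4, gMA_5, gMA_6, gMA_7, gMA_8, gMA_9, gMA_10, gMA_11, gMA_12, gMA_13, gMA_14, MAb1_s0, MAb1_s1, MAb1_s2, exists_eq_right'] at this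
  exact this

theorem b1_ne (h : ARel z q1 q2 r p1 p2 s w) :
    ¬ (z = 1 ∨ z = z * r ∨ z = z * r * z * r) ∧ ¬ (z = 1 ∨ z = z⁻¹ * r ∨ z = z⁻¹ * r * z⁻¹ * r) ∧ ¬ (z =
    1 ∨ z = q1 ∨ z = q1⁻¹) ∧ ¬ (q1 = 1 ∨ q1 = z ∨ q1 = z⁻¹) ∧ ¬ (q1⁻¹ = 1 ∨ q1⁻¹ = z ∨ q1⁻¹ = z⁻¹) := by
  have := PM.holds MAb1_ok MAb1_subs (show Emb MAb1.m _ from (MA_emb h)) (p := (.and (.not (.or (.eq [1] []) (.or (.eq [1] [7,1]) (.eq [1] [7,1,7,1])))) (.and (.not (.or (.eq [1]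
      []) (.or (.eq [1] [7,2]) (.eq [1] [7,2,7,2])))) (.and (.not (.or (.eq [1] []) (.or (.eq [1]
      [3]) (.eq [1] [4])))) (.and (.not (.or (.eq [3] []) (.or (.eq [3] [1]) (.eq [3] [2])))) (.not
      (.or (.eq [4] []) (.or (.eq [4] [1]) (.eq [4] [2]))))))))) (by decide +kernel)
  simp only [Fm.sem, wv_cons, wv_nil, one_mul, upd_apply, Nat.reduceEqDiff, ↓reduceIte, gMA_1, gMA_2, gMA_3, gMA_4, gMA_5, gMA_6, gMA_7, gMA_8, gMA_9, gMA_10, gMA_11, gMA_12, gMA_13, gMA_14, MAb1_s0, MAb1_s1, MAb1_s2, exists_eq_right'] at this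
  exact this

/-- more subgroups -/
@[reducible] def MBb1 : PM := { MB with
  SW := [([[1],[3],[5]],
    [⟨0, [128, 64], [[2], [1]]⟩,
     ⟨12, [897, 833], [[0]]⟩,
     ⟨6, [512, 448], []⟩]),
   ([[9],[11],[13],[14],[15]],
    [⟨0, [768, 385, 1344, 1729, 577, 1540, 1153, 964], [[3], [0, 1, 3, 4, 0]]⟩,
     ⟨6, [768, 1729, 1537, 1345, 1152, 576, 961], [[0, 1, 1]]⟩,
     ⟨12, [1344], []⟩]),
   ([[1]],
    [⟨0, [128, 64], []⟩]),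
   ([[9],[11]],
    [⟨0, [768, 385, 1344, 1729, 577, 1153, 1537, 961], []⟩])] }

instance : NeZero MBb1.n := ⟨by decide⟩

theorem MBb1_ok : MBb1.ok = true := MB_ok

theorem MBb1_subs : MBb1.subsOK = true := by decide +kernel

theorem MBb1_s0 : sub (gMB z q1 q2 r p1 p2 s w h0) (MBb1.W 0) = gen [z, q1, q2] := by
  change gen (List.map (wv _) [[1],[3],[5]]) = _
  simp only [List.map_cons, List.map_nil, wv_cons, wv_nil, one_mul, gMB_1, gMB_2, gMB_3, gMB_4, gMB_5, gMB_6, gMB_7, gMB_8, gMB_9, gMB_10, gMB_11, gMB_12, gMB_13, gMB_14, gMB_15, gMB_16]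

theorem MBb1_s1 : sub (gMB z q1 q2 r p1 p2 s w h0) (MBb1.W 1) = gen [p1, p2, s, w, h0] := by
  change gen (List.map (wv _) [[9],[11],[13],[14],[15]]) = _
  simp only [List.map_cons, List.map_nil, wv_cons, wv_nil, one_mul, gMB_1, gMB_2, gMB_3, gMB_4, gMB_5, gMB_6, gMB_7, gMB_8, gMB_9, gMB_10, gMB_11, gMB_12, gMB_13, gMB_14, gMB_15, gMB_16]

theorem MBb1_s2 : sub (gMB z q1 q2 r p1 p2 s w h0) (MBb1.W 2) = gen [z] := by
  change gen (List.map (wv _) [[1]]) = _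
  simp only [List.map_cons, List.map_nil, wv_cons, wv_nil, one_mul, gMB_1, gMB_2, gMB_3, gMB_4, gMB_5, gMB_6, gMB_7, gMB_8, gMB_9, gMB_10, gMB_11, gMB_12, gMB_13, gMB_14, gMB_15, gMB_16]

theorem MBb1_s3 : sub (gMB z q1 q2 r p1 p2 s w h0) (MBb1.W 3) = gen [p1, p2] := by
  change gen (List.map (wv _) [[9],[11]]) = _
  simp only [List.map_cons, List.map_nil, wv_cons, wv_nil, one_mul, gMB_1, gMB_2, gMB_3, gMB_4, gMB_5, gMB_6, gMB_7, gMB_8, gMB_9, gMB_10, gMB_11, gMB_12, gMB_13, gMB_14, gMB_15, gMB_16]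

theorem b1_hy (h : BRel z q1 q2 r p1 p2 s w h0) :
    ∀ x ∈ gen [z], ∀ y ∈ gen [z], (¬ (z * r * q1 * x = 1 ∨ z * r * q1 * x = z * r ∨ z * r * q1 * x = z *
    r * z * r) ∧ (∃ c ∈ gen [p1, p2], c * z * r = z * r * q1 * x * c ∨ c * z⁻¹ * r = z * r * q1 * x
    * c)) ∨ (¬ (z * r * q1 * x * q1 * x = 1 ∨ z * r * q1 * x * q1 * x = z * r ∨ z * r * q1 * x * q1
    * x = z * r * z * r) ∧ (∃ c ∈ gen [p1, p2], c * z * r = z * r * q1 * x * q1 * x * c ∨ c * z⁻¹ *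
    r = z * r * q1 * x * q1 * x * c)) ∨ (¬ (z * r * q2 * y = 1 ∨ z * r * q2 * y = z * r ∨ z * r * q2
    * y = z * r * z * r) ∧ (∃ c ∈ gen [p1, p2], c * z * r = z * r * q2 * y * c ∨ c * z⁻¹ * r = z * r
    * q2 * y * c)) ∨ (¬ (z * r * q2 * y * q2 * y = 1 ∨ z * r * q2 * y * q2 * y = z * r ∨ z * r * q2
    * y * q2 * y = z * r * z * r) ∧ (∃ c ∈ gen [p1, p2], c * z * r = z * r * q2 * y * q2 * y * c ∨ c
    * z⁻¹ * r = z * r * q2 * y * q2 * y * c)) ∨ (¬ (z * r * q1 * x * q2 * y = 1 ∨ z * r * q1 * x *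
    q2 * y = z * r ∨ z * r * q1 * x * q2 * y = z * r * z * r) ∧ (∃ c ∈ gen [p1, p2], c * z * r = z *
    r * q1 * x * q2 * y * c ∨ c * z⁻¹ * r = z * r * q1 * x * q2 * y * c)) := by
  have := PM.holds MBb1_ok MBb1_subs (show Emb MBb1.m _ from (MB_emb h)) (p := (.all 2 40 (.all 2 41 (.or (.and (.not (.or (.eq [40,3,7,1] []) (.or (.eq [40,3,7,1] [7,1]) (.eq
      [40,3,7,1] [7,1,7,1])))) (.ex 3 42 (.or (.eq [7,1,42] [42,40,3,7,1]) (.eq [7,2,42]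
      [42,40,3,7,1])))) (.or (.and (.not (.or (.eq [40,3,40,3,7,1] []) (.or (.eq [40,3,40,3,7,1]
      [7,1]) (.eq [40,3,40,3,7,1] [7,1,7,1])))) (.ex 3 42 (.or (.eq [7,1,42] [42,40,3,40,3,7,1])
      (.eq [7,2,42] [42,40,3,40,3,7,1])))) (.or (.and (.not (.or (.eq [41,5,7,1] []) (.or (.eq
      [41,5,7,1] [7,1]) (.eq [41,5,7,1] [7,1,7,1])))) (.ex 3 42 (.or (.eq [7,1,42] [42,41,5,7,1])
      (.eq [7,2,42] [42,41,5,7,1])))) (.or (.and (.not (.or (.eq [41,5,41,5,7,1] []) (.or (.eq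
      [41,5,41,5,7,1] [7,1]) (.eq [41,5,41,5,7,1] [7,1,7,1])))) (.ex 3 42 (.or (.eq [7,1,42]
      [42,41,5,41,5,7,1]) (.eq [7,2,42] [42,41,5,41,5,7,1])))) (.and (.not (.or (.eq [41,5,40,3,7,1]
      []) (.or (.eq [41,5,40,3,7,1] [7,1]) (.eq [41,5,40,3,7,1] [7,1,7,1])))) (.ex 3 42 (.or (.eq
      [7,1,42] [42,41,5,40,3,7,1]) (.eq [7,2,42] [42,41,5,40,3,7,1]))))))))))) (by decide +kernel)
  simp only [Fm.sem, wv_cons, wv_nil, one_mul, upd_apply, Nat.reduceEqDiff, ↓reduceIte, gMB_1, gMB_2, gMB_3, gMB_4, gMB_5, gMB_6, gMB_7, gMB_8, gMB_9, gMB_10, gMB_11, gMB_12, gMB_13, gMB_14, gMB_15, gMB_16, MBb1_s0, MBb1_s1, MBb1_s2, MBb1_s3, exists_eq_right'] at this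
  exact this

theorem b1_hy2 (h : BRel z q1 q2 r p1 p2 s w h0) :
    ∀ x ∈ gen [z], ∀ y ∈ gen [z], (¬ (z⁻¹ * r * q1 * x = 1 ∨ z⁻¹ * r * q1 * x = z⁻¹ * r ∨ z⁻¹ * r * q1 *
    x = z⁻¹ * r * z⁻¹ * r) ∧ (∃ c ∈ gen [p1, p2], c * z * r = z⁻¹ * r * q1 * x * c ∨ c * z⁻¹ * r =
    z⁻¹ * r * q1 * x * c)) ∨ (¬ (z⁻¹ * r * q1 * x * q1 * x = 1 ∨ z⁻¹ * r * q1 * x * q1 * x = z⁻¹ * r
    ∨ z⁻¹ * r * q1 * x * q1 * x = z⁻¹ * r * z⁻¹ * r) ∧ (∃ c ∈ gen [p1, p2], c * z * r = z⁻¹ * r * q1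
    * x * q1 * x * c ∨ c * z⁻¹ * r = z⁻¹ * r * q1 * x * q1 * x * c)) ∨ (¬ (z⁻¹ * r * q2 * y = 1 ∨
    z⁻¹ * r * q2 * y = z⁻¹ * r ∨ z⁻¹ * r * q2 * y = z⁻¹ * r * z⁻¹ * r) ∧ (∃ c ∈ gen [p1, p2], c * z
    * r = z⁻¹ * r * q2 * y * c ∨ c * z⁻¹ * r = z⁻¹ * r * q2 * y * c)) ∨ (¬ (z⁻¹ * r * q2 * y * q2 *
    y = 1 ∨ z⁻¹ * r * q2 * y * q2 * y = z⁻¹ * r ∨ z⁻¹ * r * q2 * y * q2 * y = z⁻¹ * r * z⁻¹ * r) ∧
    (∃ c ∈ gen [p1, p2], c * z * r = z⁻¹ * r * q2 * y * q2 * y * c ∨ c * z⁻¹ * r = z⁻¹ * r * q2 * y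
    * q2 * y * c)) ∨ (¬ (z⁻¹ * r * q1 * x * q2 * y = 1 ∨ z⁻¹ * r * q1 * x * q2 * y = z⁻¹ * r ∨ z⁻¹ *
    r * q1 * x * q2 * y = z⁻¹ * r * z⁻¹ * r) ∧ (∃ c ∈ gen [p1, p2], c * z * r = z⁻¹ * r * q1 * x *
    q2 * y * c ∨ c * z⁻¹ * r = z⁻¹ * r * q1 * x * q2 * y * c)) := by
  have := PM.holds MBb1_ok MBb1_subs (show Emb MBb1.m _ from (MB_emb h)) (p := (.all 2 40 (.all 2 41 (.or (.and (.not (.or (.eq [40,3,7,2] []) (.or (.eq [40,3,7,2] [7,2]) (.eq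
      [40,3,7,2] [7,2,7,2])))) (.ex 3 42 (.or (.eq [7,1,42] [42,40,3,7,2]) (.eq [7,2,42]
      [42,40,3,7,2])))) (.or (.and (.not (.or (.eq [40,3,40,3,7,2] []) (.or (.eq [40,3,40,3,7,2]
      [7,2]) (.eq [40,3,40,3,7,2] [7,2,7,2])))) (.ex 3 42 (.or (.eq [7,1,42] [42,40,3,40,3,7,2])
      (.eq [7,2,42] [42,40,3,40,3,7,2])))) (.or (.and (.not (.or (.eq [41,5,7,2] []) (.or (.eq
      [41,5,7,2] [7,2]) (.eq [41,5,7,2] [7,2,7,2])))) (.ex 3 42 (.or (.eq [7,1,42] [42,41,5,7,2])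
      (.eq [7,2,42] [42,41,5,7,2])))) (.or (.and (.not (.or (.eq [41,5,41,5,7,2] []) (.or (.eq
      [41,5,41,5,7,2] [7,2]) (.eq [41,5,41,5,7,2] [7,2,7,2])))) (.ex 3 42 (.or (.eq [7,1,42]
      [42,41,5,41,5,7,2]) (.eq [7,2,42] [42,41,5,41,5,7,2])))) (.and (.not (.or (.eq [41,5,40,3,7,2]
      []) (.or (.eq [41,5,40,3,7,2] [7,2]) (.eq [41,5,40,3,7,2] [7,2,7,2])))) (.ex 3 42 (.or (.eq
      [7,1,42] [42,41,5,40,3,7,2]) (.eq [7,2,42] [42,41,5,40,3,7,2]))))))))))) (by decide +kernel)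
  simp only [Fm.sem, wv_cons, wv_nil, one_mul, upd_apply, Nat.reduceEqDiff, ↓reduceIte, gMB_1, gMB_2, gMB_3, gMB_4, gMB_5, gMB_6, gMB_7, gMB_8, gMB_9, gMB_10, gMB_11, gMB_12, gMB_13, gMB_14, gMB_15, gMB_16, MBb1_s0, MBb1_s1, MBb1_s2, MBb1_s3, exists_eq_right'] at this
  exact this

theorem b1_cls (h : BRel z q1 q2 r p1 p2 s w h0) :
    ∀ x ∈ gen [z, q1, q2], ∃ c ∈ gen [p1, p2], c * r = x * r * c ∨ c * z * r = x * r * c ∨ c * z⁻¹ * r =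
    x * r * c := by
  have := PM.holds MBb1_ok MBb1_subs (show Emb MBb1.m _ from (MB_emb h)) (p := (.all 0 40 (.ex 3 41 (.or (.eq [7,41] [41,7,40]) (.or (.eq [7,1,41] [41,7,40]) (.eq [7,2,41]
      [41,7,40])))))) (by decide +kernel)
  simp only [Fm.sem, wv_cons, wv_nil, one_mul, upd_apply, Nat.reduceEqDiff, ↓reduceIte, gMB_1, gMB_2, gMB_3, gMB_4, gMB_5, gMB_6, gMB_7, gMB_8, gMB_9, gMB_10, gMB_11, gMB_12, gMB_13, gMB_14, gMB_15, gMB_16, MBb1_s0, MBb1_s1, MBb1_s2, MBb1_s3, exists_eq_right'] at this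
  exact this

end Cfsg.Lib.Co23
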