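import Cfsg.Agent.Co23.Defs

/-! Finite facts about `2^8:(S₃ ≀ S₃)`. -/

set_option autoImplicit false
set_option maxRecDepth 100000
set_option linter.unusedSimpArgs false
set_option linter.unusedSectionVars false
set_option linter.unusedVariables false
set_option maxHeartbeats 1000000

namespace Cfsg.Lib.Co23

open Subgroup Cfsg.Lib.Spor Cfsg.Lib.Spor.Bulk Cfsg.Lib.Spor.PK Cfsg.Lib.Spor.WF

variable {G : Type*} [Group G] {z a b i r n m s w h0 q p u x q1 q2 p1 p2 io : G}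

theorem E2.sq (h : HRel z q p r u n m a) :
    ∀ v ∈ gen [a, r * a * r⁻¹, m * a * m, m * r * a * r⁻¹ * m, p * m * a * m * p⁻¹, p * m * r * a * r⁻¹
    * m * p⁻¹, p⁻¹ * m * a * m * p, p⁻¹ * m * r * a * r⁻¹ * m * p], v * v = 1 := by
  have := PM.holds MH_ok MH_subs (MH_emb h) (p := (.all 1 40 (.eq [40,40] []))) (by decide +kernel)
  simp only [Fm.sem, wv_cons, wv_nil, one_mul, upd_apply, Nat.reduceEqDiff, ↓reduceIte, gMH_1, gMH_2, gMH_3, gMH_4, gMH_5, gMH_6, gMH_7, gMH_8, gMH_9, gMH_10, gMH_11, gMH_12, gMH_s0, gMH_s1, gMH_s2, gMH_s3, gMH_s4, gMH_s5, gMH_s6, exists_eq_right'] at this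
  exact this

theorem E2.ce (h : HRel z q p r u n m a) :
    ∀ v ∈ gen [a, r * a * r⁻¹, m * a * m, m * r * a * r⁻¹ * m, p * m * a * m * p⁻¹, p * m * r * a * r⁻¹
    * m * p⁻¹, p⁻¹ * m * a * m * p, p⁻¹ * m * r * a * r⁻¹ * m * p], v * z * r = z * r * v → v = 1 := by
  have := PM.holds MH_ok MH_subs (MH_emb h) (p := (.all 1 40 (.imp (.eq [7,1,40] [40,7,1]) (.eq [40] [])))) (by decide +kernel)
  simp only [Fm.sem, wv_cons, wv_nil, one_mul, upd_apply, Nat.reduceEqDiff, ↓reduceIte, gMH_1, gMH_2, gMH_3, gMH_4, gMH_5, gMH_6, gMH_7, gMH_8, gMH_9, gMH_10, gMH_11, gMH_12, gMH_s0, gMH_s1, gMH_s2, gMH_s3, gMH_s4, gMH_s5, gMH_s6, exists_eq_right'] at this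
  exact this

theorem E2.nu (h : HRel z q p r u n m a) :
    ∀ v ∈ gen [a, r * a * r⁻¹, m * a * m, m * r * a * r⁻¹ * m, p * m * a * m * p⁻¹, p * m * r * a * r⁻¹
    * m * p⁻¹, p⁻¹ * m * a * m * p, p⁻¹ * m * r * a * r⁻¹ * m * p], ¬ v = u := by
  have := PM.holds MH_ok MH_subs (MH_emb h) (p := (.all 1 40 (.not (.eq [40] [9])))) (by decide +kernel)
  simp only [Fm.sem, wv_cons, wv_nil, one_mul, upd_apply, Nat.reduceEqDiff, ↓reduceIte, gMH_1, gMH_2, gMH_3, gMH_4, gMH_5, gMH_6, gMH_7, gMH_8, gMH_9, gMH_10, gMH_11, gMH_12, gMH_s0, gMH_s1, gMH_s2, gMH_s3, gMH_s4, gMH_s5, gMH_s6, exists_eq_right'] at this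
  exact this

theorem E2.cy (h : HRel z q p r u n m a) :
    a * u * a * m * a * m = u * a * m * a * m * a ∧ m * a * m * u * a * m * a * m = u * a * m * a * m *
    m * a * m := by
  have := PM.holds MH_ok MH_subs (MH_emb h) (p := (.and (.eq [11,12,11,12,9,12] [12,11,12,11,12,9]) (.eq [11,12,11,12,9,11,12,11]
      [11,12,11,11,12,11,12,9]))) (by decide +kernel)
  simp only [Fm.sem, wv_cons, wv_nil, one_mul, upd_apply, Nat.reduceEqDiff, ↓reduceIte, gMH_1, gMH_2, gMH_3, gMH_4, gMH_5, gMH_6, gMH_7, gMH_8, gMH_9, gMH_10, gMH_11, gMH_12, gMH_s0, gMH_s1, gMH_s2, gMH_s3, gMH_s4, gMH_s5, gMH_s6, exists_eq_right'] at this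
  exact this

theorem E2.cq (h : HRel z q p r u n m a) :
    ∀ g ∈ gen [q, z, r, a, m, n * u], g * z = z * g → g * p = p * g → g * r = r * g → g * g * g = 1 → (g
    = 1 ∨ g = z ∨ g = z⁻¹) := by
  have := PM.holds MH_ok MH_subs (MH_emb h) (p := (.all 3 40 (.imp (.eq [1,40] [40,1]) (.imp (.eq [5,40] [40,5]) (.imp (.eq [7,40] [40,7]) (.imp (.eq
      [40,40,40] []) (.or (.eq [40] []) (.or (.eq [40] [1]) (.eq [40] [2]))))))))) (by decide +kernel)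
  simp only [Fm.sem, wv_cons, wv_nil, one_mul, upd_apply, Nat.reduceEqDiff, ↓reduceIte, gMH_1, gMH_2, gMH_3, gMH_4, gMH_5, gMH_6, gMH_7, gMH_8, gMH_9, gMH_10, gMH_11, gMH_12, gMH_s0, gMH_s1, gMH_s2, gMH_s3, gMH_s4, gMH_s5, gMH_s6, exists_eq_right'] at this
  exact this

theorem E2.cov0 (h : HRel z q p r u n m a) :
    ∀ v ∈ gen [a, r * a * r⁻¹, m * a * m, m * r * a * r⁻¹ * m, p * m * a * m * p⁻¹, p * m * r * a * r⁻¹
    * m * p⁻¹, p⁻¹ * m * a * m * p, p⁻¹ * m * r * a * r⁻¹ * m * p], v * q = q * v ∨ v * p * m * p *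
    m * p⁻¹ = p * m * p * m * p⁻¹ * v ∨ v * p⁻¹ * m * q * p * q⁻¹ * m * p = p⁻¹ * m * q * p * q⁻¹ *
    m * p * v ∨ v * q⁻¹ * p * q = q⁻¹ * p * q * v ∨ v * r * p * r⁻¹ = r * p * r⁻¹ * v ∨ v * r * q *
    p * q⁻¹ * r⁻¹ = r * q * p * q⁻¹ * r⁻¹ * v ∨ v * r⁻¹ * q⁻¹ * p * q * r = r⁻¹ * q⁻¹ * p * q * r *
    v ∨ v * p * m * r⁻¹ * p * r * m * p⁻¹ = p * m * r⁻¹ * p * r * m * p⁻¹ * v ∨ v * p * q * p⁻¹ = p
    * q * p⁻¹ * v ∨ v * p⁻¹ * q * p = p⁻¹ * q * p * v ∨ v * q * p * q⁻¹ = q * p * q⁻¹ * v ∨ v * r⁻¹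
    * p * r = r⁻¹ * p * r * v ∨ v * m * p * q * p⁻¹ * m = m * p * q * p⁻¹ * m * v ∨ v * m * p⁻¹ * q
    * p * m = m * p⁻¹ * q * p * m * v ∨ v * p⁻¹ * m * p * q * p⁻¹ * m * p = p⁻¹ * m * p * q * p⁻¹ *
    m * p * v ∨ v * p * m * r * p * r⁻¹ * m * p⁻¹ = p * m * r * p * r⁻¹ * m * p⁻¹ * v ∨ v * p = p *
    v ∨ v * m * p * m = m * p * m * v ∨ v * r⁻¹ * q * p * q⁻¹ * r = r⁻¹ * q * p * q⁻¹ * r * v ∨ v *
    m * q * p * q⁻¹ * m = m * q * p * q⁻¹ * m * v ∨ v * r * q⁻¹ * p * q * r⁻¹ = r * q⁻¹ * p * q *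
    r⁻¹ * v ∨ v * m * q⁻¹ * p * q * m = m * q⁻¹ * p * q * m * v ∨ v * m * r * p * r⁻¹ * m = m * r *
    p * r⁻¹ * m * v ∨ v * m * r⁻¹ * p * r * m = m * r⁻¹ * p * r * m * v ∨ v * p⁻¹ * m * p * m * p =
    p⁻¹ * m * p * m * p * v ∨ v * m * r * q * p * q⁻¹ * r⁻¹ * m = m * r * q * p * q⁻¹ * r⁻¹ * m * v
    ∨ v * m * r⁻¹ * q * p * q⁻¹ * r * m = m * r⁻¹ * q * p * q⁻¹ * r * m * v ∨ v * p * m * q * p *
    q⁻¹ * m * p⁻¹ = p * m * q * p * q⁻¹ * m * p⁻¹ * v ∨ v * m * r * q⁻¹ * p * q * r⁻¹ * m = m * r *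
    q⁻¹ * p * q * r⁻¹ * m * v ∨ v * m * r⁻¹ * q⁻¹ * p * q * r * m = m * r⁻¹ * q⁻¹ * p * q * r * m *
    v ∨ v * p * m * q⁻¹ * p * q * m * p⁻¹ = p * m * q⁻¹ * p * q * m * p⁻¹ * v ∨ v * p⁻¹ * m * q⁻¹ *
    p * q * m * p = p⁻¹ * m * q⁻¹ * p * q * m * p * v ∨ v * p⁻¹ * m * r * p * r⁻¹ * m * p = p⁻¹ * m
    * r * p * r⁻¹ * m * p * v ∨ v * p⁻¹ * m * r⁻¹ * p * r * m * p = p⁻¹ * m * r⁻¹ * p * r * m * p *
    v ∨ v * q * p * m * p * m * p⁻¹ * q⁻¹ = q * p * m * p * m * p⁻¹ * q⁻¹ * v ∨ v * q⁻¹ * p * m * p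
    * m * p⁻¹ * q = q⁻¹ * p * m * p * m * p⁻¹ * q * v ∨ v * r * p * m * p * m * p⁻¹ * r⁻¹ = r * p *
    m * p * m * p⁻¹ * r⁻¹ * v ∨ v * r⁻¹ * p * m * p * m * p⁻¹ * r = r⁻¹ * p * m * p * m * p⁻¹ * r *
    v ∨ v * q * p⁻¹ * m * p * m * p * q⁻¹ = q * p⁻¹ * m * p * m * p * q⁻¹ * v ∨ v * q⁻¹ * p⁻¹ * m *
    p * m * p * q = q⁻¹ * p⁻¹ * m * p * m * p * q * v ∨ v * r * p⁻¹ * m * p * m * p * r⁻¹ = r * p⁻¹
    * m * p * m * p * r⁻¹ * v ∨ v * r⁻¹ * p⁻¹ * m * p * m * p * r = r⁻¹ * p⁻¹ * m * p * m * p * r *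
    v := by
  have := PM.holds MH_ok MH_subs (MH_emb h) (p := (.all 1 40 (.or (.eq [3,40] [40,3]) (.or (.eq [6,11,5,11,5,40] [40,6,11,5,11,5]) (.or (.eq
      [5,11,4,5,3,11,6,40] [40,5,11,4,5,3,11,6]) (.or (.eq [3,5,4,40] [40,3,5,4]) (.or (.eq
      [8,5,7,40] [40,8,5,7]) (.or (.eq [8,4,5,3,7,40] [40,8,4,5,3,7]) (.or (.eq [7,3,5,4,8,40]
      [40,7,3,5,4,8]) (.or (.eq [6,11,7,5,8,11,5,40] [40,6,11,7,5,8,11,5]) (.or (.eq [6,3,5,40]
      [40,6,3,5]) (.or (.eq [5,3,6,40] [40,5,3,6]) (.or (.eq [4,5,3,40] [40,4,5,3]) (.or (.eq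
      [7,5,8,40] [40,7,5,8]) (.or (.eq [11,6,3,5,11,40] [40,11,6,3,5,11]) (.or (.eq [11,5,3,6,11,40]
      [40,11,5,3,6,11]) (.or (.eq [5,11,6,3,5,11,6,40] [40,5,11,6,3,5,11,6]) (.or (.eq
      [6,11,8,5,7,11,5,40] [40,6,11,8,5,7,11,5]) (.or (.eq [5,40] [40,5]) (.or (.eq [11,5,11,40]
      [40,11,5,11]) (.or (.eq [7,4,5,3,8,40] [40,7,4,5,3,8]) (.or (.eq [11,4,5,3,11,40]
      [40,11,4,5,3,11]) (.or (.eq [8,3,5,4,7,40] [40,8,3,5,4,7]) (.or (.eq [11,3,5,4,11,40]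
      [40,11,3,5,4,11]) (.or (.eq [11,8,5,7,11,40] [40,11,8,5,7,11]) (.or (.eq [11,7,5,8,11,40]
      [40,11,7,5,8,11]) (.or (.eq [5,11,5,11,6,40] [40,5,11,5,11,6]) (.or (.eq [11,8,4,5,3,7,11,40]
      [40,11,8,4,5,3,7,11]) (.or (.eq [11,7,4,5,3,8,11,40] [40,11,7,4,5,3,8,11]) (.or (.eq
      [6,11,4,5,3,11,5,40] [40,6,11,4,5,3,11,5]) (.or (.eq [11,8,3,5,4,7,11,40]
      [40,11,8,3,5,4,7,11]) (.or (.eq [11,7,3,5,4,8,11,40] [40,11,7,3,5,4,8,11]) (.or (.eq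
      [6,11,3,5,4,11,5,40] [40,6,11,3,5,4,11,5]) (.or (.eq [5,11,3,5,4,11,6,40]
      [40,5,11,3,5,4,11,6]) (.or (.eq [5,11,8,5,7,11,6,40] [40,5,11,8,5,7,11,6]) (.or (.eq
      [5,11,7,5,8,11,6,40] [40,5,11,7,5,8,11,6]) (.or (.eq [4,6,11,5,11,5,3,40]
      [40,4,6,11,5,11,5,3]) (.or (.eq [3,6,11,5,11,5,4,40] [40,3,6,11,5,11,5,4]) (.or (.eq
      [8,6,11,5,11,5,7,40] [40,8,6,11,5,11,5,7]) (.or (.eq [7,6,11,5,11,5,8,40]
      [40,7,6,11,5,11,5,8]) (.or (.eq [4,5,11,5,11,6,3,40] [40,4,5,11,5,11,6,3]) (.or (.eq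
      [3,5,11,5,11,6,4,40] [40,3,5,11,5,11,6,4]) (.or (.eq [8,5,11,5,11,6,7,40]
      [40,8,5,11,5,11,6,7]) (.eq [7,5,11,5,11,6,8,40]
      [40,7,5,11,5,11,6,8])))))))))))))))))))))))))))))))))))))))))))) (by decide +kernel)
  simp only [Fm.sem, wv_cons, wv_nil, one_mul, upd_apply, Nat.reduceEqDiff, ↓reduceIte, gMH_1, gMH_2, gMH_3, gMH_4, gMH_5, gMH_6, gMH_7, gMH_8, gMH_9, gMH_10, gMH_11, gMH_12, gMH_s0, gMH_s1, gMH_s2, gMH_s3, gMH_s4, gMH_s5, gMH_s6, exists_eq_right'] at this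
  exact this

theorem E2.cov (h : HRel z q p r u n m a) {H : Subgroup G} (hq : q ∈ H) (hp : p ∈ H) (hr : r ∈ H)
    (hm : m ∈ H) {v : G} (hv : v ∈ VV p r m a) :
    ∃ c ∈ H, ∃ d, (d = q ∨ d = p) ∧ v * (c * d * c⁻¹) = c * d * c⁻¹ * v := by
  have im : m⁻¹ = m := inv_eq_of_mul_eq_one_right h.m2
  rcases E2.cov0 h v hv with e | e | e | e | e | e | e | e | e | e | e | e | e | e | e | e | e | e | e | e | e | e | e | e | e | e | e | e | e | e | e | e | e | e | e | e | e | e | e | e | e | e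
  · exact ⟨_, (one_mem _), _, .inl rfl, by simpa only [mul_inv_rev, inv_inv, im, mul_assoc, one_mul, mul_one, inv_one] using e⟩
  · exact ⟨_, (mul_mem hp hm), _, .inr rfl, by simpa only [mul_inv_rev, inv_inv, im, mul_assoc, one_mul, mul_one, inv_one] using e⟩
  · exact ⟨_, (mul_mem (mul_mem (inv_mem hp) hm) hq), _, .inr rfl, by simpa only [mul_inv_rev, inv_inv, im, mul_assoc, one_mul, mul_one, inv_one] using e⟩
  · exact ⟨_, (inv_mem hq), _, .inr rfl, by simpa only [mul_inv_rev, inv_inv, im, mul_assoc, one_mul, mul_one, inv_one] using e⟩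
  · exact ⟨_, hr, _, .inr rfl, by simpa only [mul_inv_rev, inv_inv, im, mul_assoc, one_mul, mul_one, inv_one] using e⟩
  · exact ⟨_, (mul_mem hr hq), _, .inr rfl, by simpa only [mul_inv_rev, inv_inv, im, mul_assoc, one_mul, mul_one, inv_one] using e⟩
  · exact ⟨_, (mul_mem (inv_mem hr) (inv_mem hq)), _, .inr rfl, by simpa only [mul_inv_rev, inv_inv, im, mul_assoc, one_mul, mul_one, inv_one] using e⟩
  · exact ⟨_, (mul_mem (mul_mem hp hm) (inv_mem hr)), _, .inr rfl, by simpa only [mul_inv_rev, inv_inv, im, mul_assoc, one_mul, mul_one, inv_one] using e⟩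
  · exact ⟨_, hp, _, .inl rfl, by simpa only [mul_inv_rev, inv_inv, im, mul_assoc, one_mul, mul_one, inv_one] using e⟩
  · exact ⟨_, (inv_mem hp), _, .inl rfl, by simpa only [mul_inv_rev, inv_inv, im, mul_assoc, one_mul, mul_one, inv_one] using e⟩
  · exact ⟨_, hq, _, .inr rfl, by simpa only [mul_inv_rev, inv_inv, im, mul_assoc, one_mul, mul_one, inv_one] using e⟩
  · exact ⟨_, (inv_mem hr), _, .inr rfl, by simpa only [mul_inv_rev, inv_inv, im, mul_assoc, one_mul, mul_one, inv_one] using e⟩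
  · exact ⟨_, (mul_mem hm hp), _, .inl rfl, by simpa only [mul_inv_rev, inv_inv, im, mul_assoc, one_mul, mul_one, inv_one] using e⟩
  · exact ⟨_, (mul_mem hm (inv_mem hp)), _, .inl rfl, by simpa only [mul_inv_rev, inv_inv, im, mul_assoc, one_mul, mul_one, inv_one] using e⟩
  · exact ⟨_, (mul_mem (mul_mem (inv_mem hp) hm) hp), _, .inl rfl, by simpa only [mul_inv_rev, inv_inv, im, mul_assoc, one_mul, mul_one, inv_one] using e⟩
  · exact ⟨_, (mul_mem (mul_mem hp hm) hr), _, .inr rfl, by simpa only [mul_inv_rev, inv_inv, im, mul_assoc, one_mul, mul_one, inv_one] using e⟩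
  · exact ⟨_, (one_mem _), _, .inr rfl, by simpa only [mul_inv_rev, inv_inv, im, mul_assoc, one_mul, mul_one, inv_one] using e⟩
  · exact ⟨_, hm, _, .inr rfl, by simpa only [mul_inv_rev, inv_inv, im, mul_assoc, one_mul, mul_one, inv_one] using e⟩
  · exact ⟨_, (mul_mem (inv_mem hr) hq), _, .inr rfl, by simpa only [mul_inv_rev, inv_inv, im, mul_assoc, one_mul, mul_one, inv_one] using e⟩
  · exact ⟨_, (mul_mem hm hq), _, .inr rfl, by simpa only [mul_inv_rev, inv_inv, im, mul_assoc, one_mul, mul_one, inv_one] using e⟩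
  · exact ⟨_, (mul_mem hr (inv_mem hq)), _, .inr rfl, by simpa only [mul_inv_rev, inv_inv, im, mul_assoc, one_mul, mul_one, inv_one] using e⟩
  · exact ⟨_, (mul_mem hm (inv_mem hq)), _, .inr rfl, by simpa only [mul_inv_rev, inv_inv, im, mul_assoc, one_mul, mul_one, inv_one] using e⟩
  · exact ⟨_, (mul_mem hm hr), _, .inr rfl, by simpa only [mul_inv_rev, inv_inv, im, mul_assoc, one_mul, mul_one, inv_one] using e⟩
  · exact ⟨_, (mul_mem hm (inv_mem hr)), _, .inr rfl, by simpa only [mul_inv_rev, inv_inv, im, mul_assoc, one_mul, mul_one, inv_one] using e⟩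
  · exact ⟨_, (mul_mem (inv_mem hp) hm), _, .inr rfl, by simpa only [mul_inv_rev, inv_inv, im, mul_assoc, one_mul, mul_one, inv_one] using e⟩
  · exact ⟨_, (mul_mem (mul_mem hm hr) hq), _, .inr rfl, by simpa only [mul_inv_rev, inv_inv, im, mul_assoc, one_mul, mul_one, inv_one] using e⟩
  · exact ⟨_, (mul_mem (mul_mem hm (inv_mem hr)) hq), _, .inr rfl, by simpa only [mul_inv_rev, inv_inv, im, mul_assoc, one_mul, mul_one, inv_one] using e⟩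
  · exact ⟨_, (mul_mem (mul_mem hp hm) hq), _, .inr rfl, by simpa only [mul_inv_rev, inv_inv, im, mul_assoc, one_mul, mul_one, inv_one] using e⟩
  · exact ⟨_, (mul_mem (mul_mem hm hr) (inv_mem hq)), _, .inr rfl, by simpa only [mul_inv_rev, inv_inv, im, mul_assoc, one_mul, mul_one, inv_one] using e⟩
  · exact ⟨_, (mul_mem (mul_mem hm (inv_mem hr)) (inv_mem hq)), _, .inr rfl, by simpa only [mul_inv_rev, inv_inv, im, mul_assoc, one_mul, mul_one, inv_one] using e⟩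
  · exact ⟨_, (mul_mem (mul_mem hp hm) (inv_mem hq)), _, .inr rfl, by simpa only [mul_inv_rev, inv_inv, im, mul_assoc, one_mul, mul_one, inv_one] using e⟩
  · exact ⟨_, (mul_mem (mul_mem (inv_mem hp) hm) (inv_mem hq)), _, .inr rfl, by simpa only [mul_inv_rev, inv_inv, im, mul_assoc, one_mul, mul_one, inv_one] using e⟩
  · exact ⟨_, (mul_mem (mul_mem (inv_mem hp) hm) hr), _, .inr rfl, by simpa only [mul_inv_rev, inv_inv, im, mul_assoc, one_mul, mul_one, inv_one] using e⟩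
  · exact ⟨_, (mul_mem (mul_mem (inv_mem hp) hm) (inv_mem hr)), _, .inr rfl, by simpa only [mul_inv_rev, inv_inv, im, mul_assoc, one_mul, mul_one, inv_one] using e⟩
  · exact ⟨_, (mul_mem (mul_mem hq hp) hm), _, .inr rfl, by simpa only [mul_inv_rev, inv_inv, im, mul_assoc, one_mul, mul_one, inv_one] using e⟩
  · exact ⟨_, (mul_mem (mul_mem (inv_mem hq) hp) hm), _, .inr rfl, by simpa only [mul_inv_rev, inv_inv, im, mul_assoc, one_mul, mul_one, inv_one] using e⟩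
  · exact ⟨_, (mul_mem (mul_mem hr hp) hm), _, .inr rfl, by simpa only [mul_inv_rev, inv_inv, im, mul_assoc, one_mul, mul_one, inv_one] using e⟩
  · exact ⟨_, (mul_mem (mul_mem (inv_mem hr) hp) hm), _, .inr rfl, by simpa only [mul_inv_rev, inv_inv, im, mul_assoc, one_mul, mul_one, inv_one] using e⟩
  · exact ⟨_, (mul_mem (mul_mem hq (inv_mem hp)) hm), _, .inr rfl, by simpa only [mul_inv_rev, inv_inv, im, mul_assoc, one_mul, mul_one, inv_one] using e⟩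
  · exact ⟨_, (mul_mem (mul_mem (inv_mem hq) (inv_mem hp)) hm), _, .inr rfl, by simpa only [mul_inv_rev, inv_inv, im, mul_assoc, one_mul, mul_one, inv_one] using e⟩
  · exact ⟨_, (mul_mem (mul_mem hr (inv_mem hp)) hm), _, .inr rfl, by simpa only [mul_inv_rev, inv_inv, im, mul_assoc, one_mul, mul_one, inv_one] using e⟩
  · exact ⟨_, (mul_mem (mul_mem (inv_mem hr) (inv_mem hp)) hm), _, .inr rfl, by simpa only [mul_inv_rev, inv_inv, im, mul_assoc, one_mul, mul_one, inv_one] using e⟩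

end Cfsg.Lib.Co23
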