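import Cfsg.Agent.Co23.PartA1a

/-! The central involution of `2^(1+4)` inverts `3^(1+4)` modulo its centre. -/

set_option autoImplicit false
set_option linter.unusedSectionVars false

namespace Cfsg.Lib.Co23.A1

open Subgroup Cfsg.Lib.Trans Cfsg.Lib.Mc3
open scoped commutatorElement

variable {H : Type*} [Group H] [Finite H] {z t : H} {Q R : Subgroup H} {φ : H →* A5}

namespace HA

variable (h : HA z t Q R φ)
include h

theorem comm_Z {j k : H} (hj : j ∈ zpowers z) (hk : k ∈ zpowers z) (x y : H) :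
    ⁅j * x, k * y⁆ = ⁅x, y⁆ := by
  rw [comm_mul_left, comm_mul_right, commutatorElement_eq_one_iff_mul_comm.2 (h.Zc hk x),
    commutatorElement_eq_one_iff_mul_comm.2 (h.Zc hj _).symm, one_mul, mul_one, ← h.Zc hk,
    mul_inv_cancel_right, ← h.Zc hj, mul_inv_cancel_right]

theorem comm_conj (g : H) {x y : H} (hx : x ∈ Q) (hy : y ∈ Q) :
    ⁅g * x * g⁻¹, g * y * g⁻¹⁆ = ⁅x, y⁆ := by
  rw [← conj_comm, conj_zp_eq (h.zc g) (h.comm x hx y hy)]

theorem comm_inv {x y : H} (hx : x ∈ Q) (hy : y ∈ Q) : ⁅x⁻¹, y⁻¹⁆ = ⁅x, y⁆ := by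
  rw [← conj_zp_eq (h.zc (y * x)⁻¹) (h.comm x hx y hy)]
  simp only [commutatorElement_def]
  group

theorem D_conj {d x : H} (hd : d ∈ h.D) (hx : x ∈ Q) : ∃ j ∈ zpowers z, d * x * d⁻¹ = j * x :=
  ⟨_, hd x hx, by rw [commutatorElement_def, inv_mul_cancel_right]⟩

variable {f : H} (fN : f ∈ normalizer (R : Set H)) (f5 : orderOf f = 5)
include f5

/-- No element inverting `f` modulo `D` has its square in `D`. -/
theorem isotropy {u : H} (h1 : u * u ∈ h.D) (h2 : u * f * u⁻¹ * f ∈ h.D) : False := by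
  haveI := h.nD
  have h3 : ∀ k : ℤ, f ^ k * (u * f ^ k * u⁻¹) ∈ h.D := fun k => by
    rw [← QuotientGroup.eq_one_iff] at h2 ⊢
    simp only [QuotientGroup.mk_mul, QuotientGroup.mk_inv, QuotientGroup.mk_zpow] at h2 ⊢
    rw [← conj_zpow, eq_inv_of_mul_eq_one_left h2, inv_zpow, mul_inv_cancel]
  obtain ⟨x, hx, hxZ, he⟩ : ∃ x ∈ Q, x ∉ zpowers z ∧ ∃ j ∈ zpowers z,
      u * x * u⁻¹ = j * x ∨ u * x * u⁻¹ = j * x⁻¹ := by
    obtain ⟨y, hy, hyZ⟩ := SetLike.not_le_iff_exists.1 fun e : Q ≤ zpowers z => by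
      have := Trans.card_le_of_le e
      rw [h.cardQ, h.cardZ] at this
      omega
    have hy' := h.conjQ u hy
    by_cases hc : u * y * u⁻¹ * y ∈ zpowers z
    · exact ⟨y, hy, hyZ, _, hc, Or.inr (by group)⟩
    obtain ⟨j, hj, e⟩ := h.D_conj h1 hy
    refine ⟨_, mul_mem hy' hy, hc, j * ⁅y, u * y * u⁻¹⁆, mul_mem hj (h.comm _ hy _ hy'), Or.inl ?_⟩
    calc _ = u * u * y * (u * u)⁻¹ * (u * y * u⁻¹) := by group
      _ = _ := by rw [e, commutatorElement_def]; group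
  obtain ⟨j, hj, he⟩ := he
  have hk : ∀ k : ℤ, f ^ k * x * (f ^ k)⁻¹ ∈ Q := fun k => h.conjQ _ hx
  have key : ∀ k : ℤ, ⁅x, f ^ k * x * (f ^ k)⁻¹⁆ = 1 := fun k => by
    obtain ⟨i, hi, e⟩ := h.D_conj (h3 k) (h.conjQ u hx)
    have e2 : u * (f ^ k * x * (f ^ k)⁻¹) * u⁻¹ = i * ((f ^ k)⁻¹ * (u * x * u⁻¹) * f ^ k) := by
      rw [← mul_assoc i, ← mul_assoc i, ← h.Zc hi, mul_assoc _ i, ← e]; group
    have e3 : ⁅x, f ^ k * x * (f ^ k)⁻¹⁆ = ⁅x, (f ^ k)⁻¹ * x * f ^ k⁆ := by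
      rw [← h.comm_conj u hx (hk k), e2]
      have e4 : ∀ w, i * ((f ^ k)⁻¹ * (j * w) * f ^ k) = i * j * ((f ^ k)⁻¹ * w * f ^ k) :=
        fun w => by rw [← mul_assoc _ j, h.Zc hj]; group
      rcases he with he | he <;> rw [he, e4, h.comm_Z hj (mul_mem hi hj)]
      rw [← h.comm_inv hx (by simpa using h.conjQ (f ^ k)⁻¹ hx)]
      congr 1
      group
    have e5 : ⁅x, (f ^ k)⁻¹ * x * f ^ k⁆ = ⁅x, f ^ k * x * (f ^ k)⁻¹⁆⁻¹ := by
      rw [commutatorElement_inv, ← h.comm_conj (f ^ k) hx (by simpa using h.conjQ (f ^ k)⁻¹ hx)]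
      congr 1
      group
    exact mem_bot.1 (mem_of_sq (h.Z3 (h.comm _ hx _ (hk k)))
      (mul_eq_one_iff_eq_inv.2 (e3.trans e5) ▸ one_mem _))
  have hA := h.irr f5 (A := Q ⊓ centralizer (Set.range fun k : ℤ => f ^ k * x * (f ^ k)⁻¹))
    (le_inf h.Zq fun j hj g _ => h.Zc hj g) inf_le_left fun a ha =>
      ⟨h.conjQ f ha.1, by
        rintro _ ⟨k, rfl⟩
        have := ha.2 _ ⟨k - 1, rfl⟩
        calc _ = f * (f ^ (k - 1) * x * (f ^ (k - 1))⁻¹ * a) * f⁻¹ := by group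
          _ = _ := by rw [this]; group⟩
  rcases hA with e | e
  · refine hxZ (e.le ⟨hx, ?_⟩)
    rintro _ ⟨k, rfl⟩
    exact (commutatorElement_eq_one_iff_mul_comm.1 (key k)).symm
  · exact hxZ (h.cent x hx fun q hq => by simpa using (e.ge hq).2 _ ⟨0, rfl⟩)

include fN in
theorem t_not : t ∉ h.D := by
  haveI : Fact (Nat.Prime 5) := ⟨Nat.prime_five⟩
  intro ht
  have a5 : φ f ^ 5 = 1 := by rw [← map_pow, h.f_pow f5, map_one]
  obtain ⟨⟨η, hη⟩, h2⟩ := a5_inv _ a5 (h.f_ne f5)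
  have hD : ∀ x ∈ Q, ∀ c, c = 1 ∨ c = t → x * c ∈ h.D := by
    rintro x hx c (rfl | rfl)
    exacts [mul_mem (h.QD hx) (one_mem _), mul_mem (h.QD hx) ht]
  have hc : ∀ {g x c : H}, x ∈ Q → g * (x * c) = x * c * g → g * c * g⁻¹ * c⁻¹ ∈ Q :=
    fun {g x c} hx e => by
      have := mul_mem (inv_mem (h.conjQ g hx)) hx
      rwa [show (g * x * g⁻¹)⁻¹ * x = g * x⁻¹ * g⁻¹ * (x * c * g) * g⁻¹ * c⁻¹ by group, ← e,
        show g * x⁻¹ * g⁻¹ * (g * (x * c)) * g⁻¹ * c⁻¹ = g * c * g⁻¹ * c⁻¹ by group] at this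
  rcases h.CRf fN f5 with hF | hF
  · obtain ⟨u0, rfl⟩ := h.surj η
    have hS : IsSylowIn 5 (zpowers f) ((zpowers (φ f)).comap φ) :=
      ⟨zpowers_le.2 (mem_zpowers (φ f)),
        IsPGroup.of_card (n := 1) (by rw [Nat.card_zpowers, f5, pow_one]), fun e => by
          have h1 := (zpowers f).card_mul_index
          have h3 := relIndex_dvd_index_of_le (zpowers_le.2 (mem_zpowers (φ f)) :
            zpowers f ≤ (zpowers (φ f)).comap φ)
          rw [Nat.card_zpowers, f5, h.cardH] at h1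
          have := e.trans h3
          omega⟩
    obtain ⟨m, ⟨i, hi⟩, u, hu, rfl⟩ := hS.frattini (g := u0) (mem_normalizer_fintype fun g hg => by
      obtain ⟨k, hk⟩ := hg
      refine ⟨-k, ?_⟩
      simp only [map_mul, map_inv] at hk ⊢
      rw [← hk, ← conj_zpow, hη, inv_zpow'])
    have hu1 : φ u * φ f * (φ u)⁻¹ = (φ f)⁻¹ := by
      simp only at hi
      rw [map_mul, ← hi] at hη
      calc _ = (φ f ^ i)⁻¹ * (φ f ^ i * φ u * φ f * (φ f ^ i * φ u)⁻¹) * φ f ^ i := by group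
        _ = _ := by rw [hη]; group
    obtain ⟨k, hk⟩ := mem_normalizer_conj hu (mem_zpowers f)
    simp only at hk
    have hu2 : u * f * u⁻¹ * f = 1 := by
      rw [← hk, ← zpow_add_one]
      exact h.f_ker f5 (by rw [zpow_add_one, hk, map_mul, map_mul, map_mul, map_inv, hu1,
        inv_mul_cancel])
    obtain ⟨x, hx, c, hc', e⟩ := h.ker_dec (p := u * u) (by rw [map_mul, h2 _ hu1])
    refine h.isotropy f5 (e ▸ hD x hx c (hF c hc' ?_)) (hu2 ▸ one_mem _)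
    have e2 : f * (u * u) = u * u * f := by
      have := eq_inv_of_mul_eq_one_left hu2
      calc _ = (u * f * u⁻¹)⁻¹ * (u * u) := by rw [this, inv_inv]
        _ = u * (f⁻¹ * u) := by group
        _ = _ := by rw [← this]; group
    have := h.QR (hc hx (by rw [e, e2])) (mul_mem (mem_normalizer_conj fN hc') (inv_mem hc'))
    rwa [mul_inv_eq_one, mul_inv_eq_iff_eq_mul] at this
  · have hE : ∀ p ∈ centralizer (R : Set H), φ p = 1 → p ∈ h.D := fun p hp e => by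
      obtain ⟨x, hx, c, hc', rfl⟩ := h.ker_dec e
      refine hD x hx c (h.Rcent c hc' fun y hy => ?_)
      have := h.QR (hc hx (hp y hy)) (mul_mem (mul_mem (mul_mem hy hc') (inv_mem hy)) (inv_mem hc'))
      rw [mul_inv_eq_one, mul_inv_eq_iff_eq_mul] at this
      exact this.symm
    have fE : f ∈ centralizer (R : Set H) := fun x hx => (hF x hx).symm
    rcases onto_or (L := centralizer (R : Set H)) h.N_onto (fun n hn l hl =>
      mem_normalizer_conj (normalizer_le_normalizer_centralizer R hn) hl) with k | k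
    · exact h.f_ne f5 (k f fE)
    obtain ⟨u, hu, rfl⟩ := k η
    exact h.isotropy f5 (hE _ (mul_mem hu hu) (by rw [map_mul, h2 _ hη]))
      (hE _ (mul_mem (mul_mem (mul_mem hu fE) (inv_mem hu)) fE) (by
        rw [map_mul, map_mul, map_mul, map_inv, hη, inv_mul_cancel]))

theorem inverts {c : H} (hc : f * c = c * f) (h2 : c * c ∈ h.D) (h1 : c ∉ h.D) {x : H}
    (hx : x ∈ Q) : c * x * c⁻¹ * x ∈ zpowers z := by
  let W : Subgroup H :=
    { carrier := {q | q ∈ Q ∧ ⁅c, q⁆ ∈ zpowers z}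
      one_mem' := ⟨one_mem _, by simp⟩
      mul_mem' := fun {a b} ha hb => ⟨mul_mem ha.1 hb.1, by
        rw [comm_mul_right, conj_zp_eq (h.zc a) hb.2]; exact mul_mem ha.2 hb.2⟩
      inv_mem' := fun {a} ha => ⟨inv_mem ha.1, by
        have := inv_mem ha.2
        rwa [← conj_zp_eq (h.zc a⁻¹) this, show a⁻¹ * ⁅c, a⁆⁻¹ * a⁻¹⁻¹ = ⁅c, a⁻¹⁆ by
          simp only [commutatorElement_def]; group] at this⟩ }
  have hW := (h.irr f5 (A := W) (fun j hj => ⟨h.Zq hj, by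
      rw [commutatorElement_eq_one_iff_mul_comm.2 (h.Zc hj c)]; exact one_mem _⟩)
    (fun q hq => hq.1) fun a ha => ⟨h.conjQ f ha.1, by
      have := ha.2
      rwa [← conj_zp_eq (h.zc f) this, conj_comm, hc, mul_inv_cancel_right] at this⟩).resolve_right
    fun e => h1 fun q hq => (e.ge hq).2
  have hx' := h.conjQ c hx
  obtain ⟨j, hj, e⟩ := h.D_conj h2 hx
  refine hW.le ⟨mul_mem hx' hx, ?_⟩
  rw [show ⁅c, c * x * c⁻¹ * x⁆ = c * c * x * (c * c)⁻¹ * (c * x * c⁻¹) * x⁻¹ * (c * x * c⁻¹)⁻¹ by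
    simp only [commutatorElement_def]; group, e, mul_assoc j, mul_assoc j, mul_assoc j]
  exact mul_mem hj (h.comm x hx _ hx')

include fN

theorem D_le {d : H} (hd : d ∈ h.D) : d ∈ Q := by
  obtain ⟨x, hx, c, hc, rfl⟩ := h.ker_dec (h.D_ker hd)
  have h1 : c ∈ h.D := (mul_mem_cancel_left (h.QD hx)).1 hd
  rcases h.Rcent c hc fun y hy => (h.Rcomm c hc y hy).resolve_right fun e => h.t_not fN f5 (by
    have := mul_mem h1 (inv_mem (h.nD.conj_mem c h1 y))
    rwa [show c * (y * c * y⁻¹)⁻¹ = c * y * c⁻¹ * y⁻¹ by group, e, mul_inv_cancel_right,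
      mul_inv_cancel_right] at this) with rfl | rfl
  · rwa [mul_one]
  · exact absurd h1 (h.t_not fN f5)

theorem centQ {g : H} (hg : ∀ x ∈ Q, g * x = x * g) : g ∈ zpowers z :=
  h.cent g (h.D_le fN f5 fun q hq => by
    rw [commutatorElement_eq_one_iff_mul_comm.2 (hg q hq)]; exact one_mem _) hg

theorem tinv {x : H} (hx : x ∈ Q) : t * x * t⁻¹ * x ∈ zpowers z :=
  h.inverts f5 (h.N_t fN) (h.t2 ▸ one_mem _) (h.t_not fN f5) hx

theorem cube {x : H} (hx : x ∈ Q) : x ^ 3 = 1 := by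
  have h1 := h.tinv fN f5 hx
  have h2 := h.cube_mem hx
  have h3 : x ^ 3 = (x ^ 3)⁻¹ := by
    rw [← inv_pow, ← one_mul (x⁻¹ ^ 3), ← h.Z3 h1, ← Commute.mul_pow (h.Zc h1 _).symm,
      mul_inv_cancel_right, conj_pow, conj_zp_eq (h.zc t) h2]
  exact mem_bot.1 (mem_of_sq (h.Z3 h2) (mul_eq_one_iff_eq_inv.2 h3 ▸ one_mem _))

theorem CQt {x : H} (hx : x ∈ Q) (e : x * t = t * x) : x ∈ zpowers z :=
  mem_of_sq (h.cube fN f5 hx) (by
    have := h.tinv fN f5 hx
    rwa [← e, mul_inv_cancel_right] at this)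

theorem cardK : Nat.card (centralizer ({t} : Set H)) = 5760 := by
  haveI := h.nQ
  have h1 := Solv.card_sup_mul_card_inf_of_normal (centralizer ({t} : Set H)) Q
  rw [show centralizer {t} ⊓ Q = zpowers z from le_antisymm
    (fun x hx => h.CQt fN f5 hx.2 (mem_centralizer_singleton_iff.1 hx.1))
    (le_inf (fun j hj => mem_centralizer_singleton_iff.2 (h.Zc hj t).symm) h.Zq),
    show centralizer {t} ⊔ Q = ⊤ from eq_top_iff.2 fun g _ => by
      obtain ⟨x, hx, n, hn, rfl⟩ := h.frat g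
      exact mul_mem (mem_sup_right hx)
        (mem_sup_left (mem_centralizer_singleton_iff.2 (h.N_t hn))),
    card_top, h.cardH, h.cardZ, h.cardQ] at h1
  omega

theorem ker {k : H} (hk : k * t = t * k) (e : φ k = 1) : ∃ j ∈ zpowers z, ∃ x ∈ R, k = j * x := by
  obtain ⟨q, hq, c, hc, rfl⟩ := h.ker_dec e
  refine ⟨q, h.CQt fN f5 hq (mul_right_cancel (b := c) ?_), c, hc, rfl⟩
  rw [mul_assoc, ← h.Rt c hc, ← mul_assoc, hk, mul_assoc]

theorem nR {k : H} (hk : k * t = t * k) {x : H} (hx : x ∈ R) : k * x * k⁻¹ ∈ R := by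
  obtain ⟨j, hj, y, hy, e⟩ := h.ker fN f5 (k := k * x * k⁻¹) (by
    have := Commute.mul_left (Commute.mul_left hk (h.Rt x hx)) (Commute.inv_left hk)
    exact this) (by rw [map_mul, map_mul, show φ x = 1 from h.kerR hx, mul_one, map_inv,
      mul_inv_cancel])
  have h1 : (k * x * k⁻¹) ^ 4 = 1 := by rw [conj_pow, h.R4 hx, mul_one, mul_inv_cancel]
  rw [e, Commute.mul_pow (h.Zc hj y).symm, h.R4 hy, mul_one, pow_succ, h.Z3 hj, one_mul] at h1
  rwa [e, h1, one_mul]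

theorem ffix : ∀ x ∈ R, f * x = x * f → x = 1 ∨ x = t := by
  refine (h.CRf fN f5).resolve_right fun hF => ?_
  obtain ⟨x, hx, x2, x1, xt⟩ := h.Rinv
  have h1 : t⁻¹ * x ∈ h.D := fun q hq => by
    have h2 := h.inverts f5 (hF x hx) (x2 ▸ one_mem _)
      (fun e => x1 (h.QR (h.D_le fN f5 e) hx)) hq
    have h3 := mul_mem h2 (inv_mem (h.tinv fN f5 hq))
    rwa [← conj_zp_eq (h.zc t⁻¹) h3, show t⁻¹ * (x * q * x⁻¹ * q * (t * q * t⁻¹ * q)⁻¹) * t⁻¹⁻¹ =
      ⁅t⁻¹ * x, q⁆ by simp only [commutatorElement_def]; group] at h3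
  exact xt (inv_mul_eq_one.1 (h.QR (h.D_le fN f5 h1) (mul_mem (inv_mem h.tR) hx))).symm

theorem act {k : H} (hk : k * t = t * k)
    (ha : ∀ x ∈ R, k * x * k⁻¹ = x ∨ k * x * k⁻¹ = x * t) : φ k = 1 := by
  let L : Subgroup H :=
    { carrier := {k | k * t = t * k ∧ ∀ x ∈ R, k * x * k⁻¹ = x ∨ k * x * k⁻¹ = x * t}
      one_mem' := ⟨by simp, fun x _ => Or.inl (by simp)⟩
      mul_mem' := fun {a b} ha hb => ⟨Commute.mul_left ha.1 hb.1, fun x hx => by
        rw [show a * b * x * (a * b)⁻¹ = a * (b * x * b⁻¹) * a⁻¹ by group]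
        rcases hb.2 x hx with e | e <;> rw [e]
        · exact ha.2 x hx
        · rw [← conj_mul, ha.1, mul_inv_cancel_right]
          rcases ha.2 x hx with e | e <;> rw [e]
          · exact Or.inr rfl
          · exact Or.inl (by rw [mul_assoc, h.t2, mul_one])⟩
      inv_mem' := fun {a} ha => ⟨Commute.inv_left ha.1, fun x hx => by
        rcases ha.2 x hx with e | e
        · exact Or.inl (by conv_lhs => rw [← e]
                           group)
        · refine Or.inr ?_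
          have : x = a * (x * t) * a⁻¹ := by
            rw [← conj_mul, e, ha.1, mul_inv_cancel_right, mul_assoc, h.t2, mul_one]
          conv_lhs => rw [this]
          group⟩ }
  rcases onto_or (L := L) h.N_onto (fun n hn l hl => ⟨Commute.mul_left
    (Commute.mul_left (h.N_t hn) hl.1) (Commute.inv_left (h.N_t hn)), fun x hx => by
      rw [show n * l * n⁻¹ * x * (n * l * n⁻¹)⁻¹ = n * (l * (n⁻¹ * x * n) * l⁻¹) * n⁻¹ by group]
      rcases hl.2 _ (mem_normalizer_conj' hn hx) with e | e <;> rw [e]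
      · exact Or.inl (by group)
      · exact Or.inr (by rw [← conj_mul, h.N_t hn]; group)⟩) with e | e
  · exact e k ⟨hk, ha⟩
  exfalso
  obtain ⟨l, hl, e⟩ := e (φ f)
  obtain ⟨j, hj, y, hy, e2⟩ := h.ker fN f5 (k := l⁻¹ * f)
    (Commute.mul_left (Commute.inv_left hl.1) (h.N_t fN)) (by rw [map_mul, map_inv, e, inv_mul_cancel])
  have h1 : f ∈ L := (mul_mem_cancel_left (inv_mem hl)).1 (e2 ▸ mul_mem
    ⟨(h.Zc hj t).symm, fun x _ => Or.inl (by rw [← h.Zc hj x, mul_inv_cancel_right])⟩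
    ⟨h.Rt y hy, fun x hx => (h.Rcomm y hy x hx).imp (fun e => by rw [e, mul_inv_cancel_right])
      fun e => by rw [e, mul_inv_cancel_right, h.Rt x hx]⟩)
  obtain ⟨x, hx, -, x1, xt⟩ := h.Rinv
  refine (h.ffix fN f5 x hx ?_).elim x1 xt
  rcases h1.2 x hx with e | e
  · exact mul_inv_eq_iff_eq_mul.1 e
  · exact h.f_fix f5 (e.trans (h.Rt x hx)) (h.N_t fN) (n := 2) (by rw [sq, h.t2]) (by norm_num)

end HA

end Cfsg.Lib.Co23.A1
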