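import Cfsg.Agent.Co23.Defs
import Cfsg.Agent.Co23.PartA1b

/-! The local structure of `C(z) = 3^(1+4).2^(1+4).A₅`. -/

set_option autoImplicit false

namespace Cfsg.Lib.Co23

open Subgroup Cfsg.Lib.Trans Cfsg.Lib.Mc3
open scoped commutatorElement

namespace A1

theorem two_facts {E : Type*} [Group E] [Finite E] (hE : IsExtraspecial 2 E) :
    ∃ t : E, t * t = 1 ∧ t ≠ 1 ∧ (∀ x, x * t = t * x) ∧
      (∀ x y, x * y = y * x ∨ x * y = t * y * x) ∧ ∀ x, (∀ y, x * y = y * x) → x = 1 ∨ x = t := by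
  obtain ⟨t, t1, ht⟩ := (Nat.card_eq_two_iff' (1 : center E)).1 hE.2
  have k : ∀ x ∈ center E, x = 1 ∨ x = t := fun x hx => by
    by_cases e : (⟨x, hx⟩ : center E) = 1
    · exact Or.inl (congrArg Subtype.val e)
    · exact Or.inr (congrArg Subtype.val (ht _ e))
  have t1' : (t : E) ≠ 1 := fun e => t1 (Subtype.ext e)
  refine ⟨t, (k _ (mul_mem t.2 t.2)).resolve_right fun e => t1' (mul_eq_left.1 e), t1',
    mem_center_iff.1 t.2, fun x y => ?_, fun x hx => k x (mem_center_iff.2 fun y => (hx y).symm)⟩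
  rcases k ⁅x, y⁆ (hE.1.2.2 ▸ commutator_mem_commutator (mem_top x) (mem_top y)) with e | e
  · exact Or.inl (commutatorElement_eq_one_iff_mul_comm.1 e)
  · exact Or.inr (by rw [← e, commutatorElement_def]; group)

theorem exists_ha {H : Type*} [Group H] [Finite H] {z : H} (z3 : orderOf z = 3)
    (zc : ∀ g, g * z = z * g) (hQ : IsExtraspecial 3 (pCore 3 H))
    (hQcard : Nat.card (pCore 3 H) = 3 ^ 5) (hR : IsExtraspecial 2 (pCore 2 (H ⧸ pCore 3 H)))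
    (hRcard : Nat.card (pCore 2 (H ⧸ pCore 3 H)) = 2 ^ 5)
    (e : (H ⧸ pCore 3 H) ⧸ pCore 2 (H ⧸ pCore 3 H) ≃* A5)
    (zS : ∃ S, IsSylowIn 3 S ⊤ ∧ ∀ x ∈ S, (∀ s ∈ S, s * x = x * s) → x ∈ zpowers z) :
    ∃ t R φ, HA z t (pCore 3 H) R φ := by
  haveI : Fact (Nat.Prime 3) := ⟨Nat.prime_three⟩
  have zQ : z ∈ pCore 3 H := Solv.le_pCore
    ⟨fun x hx g => by rwa [conj_zp_eq (zc g) hx]⟩
    (IsPGroup.of_card (n := 1) (by rw [Nat.card_zpowers, z3, pow_one])) (mem_zpowers z)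
  obtain ⟨h1, h2, -⟩ := extraspecial_facts z3 zQ (fun q _ => zc q) hQ
  let φ : H →* A5 := e.toMonoidHom.comp ((QuotientGroup.mk' _).comp (QuotientGroup.mk' _))
  have hφ : φ.ker = (pCore 2 (H ⧸ pCore 3 H)).comap (QuotientGroup.mk' _) := by
    ext x; simp [φ, MonoidHom.mem_ker]
  have hk : pCore 3 H ≤ φ.ker := fun x hx => by
    rw [hφ, mem_comap, QuotientGroup.mk'_apply, (QuotientGroup.eq_one_iff x).2 hx]
    exact one_mem _
  have hc : Nat.card φ.ker = 243 * 32 := by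
    have := relIndex_ker (QuotientGroup.mk' (pCore 3 H)) (K := φ.ker)
    rw [QuotientGroup.ker_mk'] at this
    rw [← Trans.card_mul_relIndex hk, this, hQcard, hφ,
      map_comap_eq_self_of_surjective (QuotientGroup.mk'_surjective _), hRcard]
    rfl
  obtain ⟨R0, hR0⟩ := Sylow.exists_subgroup_card_pow_prime 2 (n := 5) (G := φ.ker)
    (by rw [hc]; norm_num)
  have hR1 : Nat.card (R0.map φ.ker.subtype) = 32 := by
    rw [card_map_of_injective (subtype_injective _), hR0]; rfl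
  have hR2 : R0.map φ.ker.subtype ≤ φ.ker := map_subtype_le _
  generalize R0.map φ.ker.subtype = R at hR1 hR2
  let ψ : R →* pCore 2 (H ⧸ pCore 3 H) :=
    ((QuotientGroup.mk' _).comp R.subtype).codRestrict _ fun x => (hφ ▸ hR2 x.2 :)
  have hψ : Function.Bijective ψ := Function.Injective.bijective_of_nat_card_le
    ((injective_iff_map_eq_one ψ).2 fun x hx => Subtype.ext (mem_bot.1 ((inf_eq_bot_of_coprime
      (H := pCore 3 H) (K := R) (by rw [hQcard, hR1]; norm_num)) ▸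
        ⟨(QuotientGroup.eq_one_iff _).1 (congrArg Subtype.val hx), x.2⟩ : (x : H) ∈ ⊥)))
    (by rw [hRcard, hR1]; rfl)
  obtain ⟨t0, t2, t1, t3, t4, t5⟩ := two_facts hR
  obtain ⟨t, rfl⟩ := hψ.2 t0
  have v : ∀ {a b : R}, ψ a = ψ b → (a : H) = b := fun h => congrArg Subtype.val (hψ.1 h)
  refine ⟨t, R, φ, z3, zc, zQ, inferInstance, hQcard, h2, h1, fun g hg =>
    Agent.S0110.sup_centralizer_eq _ hQ g fun q hq =>
      ⟨zpowers_le.2 zQ (hg q hq), fun x _ => comm_zp (zc x) (hg q hq)⟩,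
    e.surjective.comp ((QuotientGroup.mk'_surjective _).comp (QuotientGroup.mk'_surjective _)),
    hk, hc, hR2, hR1, v (a := t * t) (b := 1) (by rw [map_mul, t2, map_one]),
    fun e => t1 (by rw [show t = 1 from Subtype.ext e, map_one]), t.2,
    fun x hx => v (a := ⟨x, hx⟩ * t) (b := t * ⟨x, hx⟩) (by rw [map_mul, map_mul, t3]),
    fun x hx y hy => (t4 (ψ ⟨x, hx⟩) (ψ ⟨y, hy⟩)).imp
      (fun e => v (a := ⟨x, hx⟩ * ⟨y, hy⟩) (b := ⟨y, hy⟩ * ⟨x, hx⟩) (by rw [map_mul, map_mul, e]))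
      fun e => v (a := ⟨x, hx⟩ * ⟨y, hy⟩) (b := t * ⟨y, hy⟩ * ⟨x, hx⟩)
        (by rw [map_mul, map_mul, map_mul, e]),
    fun x hx hc => (t5 (ψ ⟨x, hx⟩) fun y => ?_).imp
      (fun e => v (a := ⟨x, hx⟩) (b := 1) (by rw [e, map_one])) fun e => v e, zS⟩
  obtain ⟨y, rfl⟩ := hψ.2 y
  rw [← map_mul, ← map_mul]
  exact congrArg ψ (Subtype.ext (hc y y.2))

end A1

universe u

variable {G : Type u} [Group G] [Finite G]

theorem exists_la (S : Sylow 3 G) (Z : Subgroup G)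
    (hZ : Z = (S : Subgroup G) ⊓ centralizer ((S : Subgroup G) : Set G))
    (C : Subgroup G) (hCZ : C = centralizer (Z : Set G))
    (hQ : Cfsg.IsExtraspecial 3 (Cfsg.pCore 3 C)) (hQcard : Nat.card (Cfsg.pCore 3 C) = 3 ^ 5)
    (hR : Cfsg.IsExtraspecial 2 (Cfsg.pCore 2 (C ⧸ Cfsg.pCore 3 C)))
    (hRcard : Nat.card (Cfsg.pCore 2 (C ⧸ Cfsg.pCore 3 C)) = 2 ^ 5)
    (e : (C ⧸ Cfsg.pCore 3 C) ⧸ Cfsg.pCore 2 (C ⧸ Cfsg.pCore 3 C) ≃* alternatingGroup (Fin 5))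
    (hnwc : ¬ Cfsg.IsWeaklyClosed Z S) :
    ∃ (z t f : G) (Q R : Subgroup G) (φ : centralizer ({z} : Set G) →* alternatingGroup (Fin 5)),
      LA z t f Q R φ := by
  haveI : Fact (Nat.Prime 3) := ⟨Nat.prime_three⟩
  have hZS : Z ≤ S := hZ ▸ inf_le_left
  have hSC : (S : Subgroup G) ≤ C := hCZ ▸ fun s hs x hx =>
    ((hZ ▸ hx : x ∈ _ ⊓ centralizer _).2 s hs).symm
  have hCN : C ≤ normalizer (Z : Set G) := hCZ ▸ centralizer_le_normalizer _
  have hZ3 : Nat.card Z = 3 := by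
    have hZQ := Solv.le_map_pCore (hZS.trans hSC) hCN (S.isPGroup'.to_le hZS)
    have h1 : Z ≤ ((center (pCore 3 C)).map (pCore 3 C).subtype).map C.subtype := fun x hx => by
      obtain ⟨y, hy, rfl⟩ := hZQ hx
      exact ⟨y, ⟨⟨y, hy⟩, mem_center_iff.2 fun q => Subtype.ext (Subtype.ext
        ((hCZ.le q.1.2 : _ ∈ centralizer _) _ hx).symm), rfl⟩, rfl⟩
    have h2 := card_dvd_of_le h1
    rw [card_map_of_injective (subtype_injective _), card_map_of_injective (subtype_injective _),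
      hQ.2] at h2
    refine ((Nat.dvd_prime Nat.prime_three).mp h2).resolve_left fun e => hnwc ⟨hZS, fun g _ => ?_⟩
    rw [card_eq_one.1 e, Subgroup.map_bot]
  obtain ⟨z, rfl⟩ : ∃ z, zpowers z = Z := by
    haveI := isCyclic_of_prime_card hZ3
    exact (Subgroup.isCyclic_iff_exists_zpowers_eq_top Z).mp inferInstance
  have z3 : orderOf z = 3 := by rw [← Nat.card_zpowers, hZ3]
  rw [zpowers_eq_closure, centralizer_closure] at hCZ
  subst hCZ
  have mC : ∀ {g : G}, g ∈ centralizer ({z} : Set G) ↔ g * z = z * g :=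
    mem_centralizer_singleton_iff
  let z0 : centralizer ({z} : Set G) := ⟨z, mC.2 rfl⟩
  have mZ : ∀ {x : centralizer ({z} : Set G)}, x ∈ zpowers z0 ↔ (x : G) ∈ zpowers z :=
    fun {x} => ⟨by rintro ⟨k, rfl⟩; exact ⟨k, rfl⟩, fun ⟨k, hk⟩ => ⟨k, Subtype.ext hk⟩⟩
  obtain ⟨t, R, φ, h⟩ := A1.exists_ha (z := z0) (by rw [← orderOf_coe, z3])
    (fun g => Subtype.ext (mC.1 g.2)) hQ hQcard hR hRcard e
    ⟨_, (isSylowIn_of_le S hSC).subgroupOf_top, fun x hx hc => mZ.2 (hZ ▸ ⟨hx, fun s hs =>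
      congrArg Subtype.val (hc ⟨s, hSC hs⟩ hs)⟩)⟩
  obtain ⟨f, fN, f5⟩ := h.exists_f
  have mm : ∀ {A : Subgroup (centralizer ({z} : Set G))} {x : centralizer ({z} : Set G)},
      (x : G) ∈ A.map (Subgroup.subtype _) ↔ x ∈ A := fun {A x} =>
    mem_map_iff_mem (subtype_injective _)
  refine ⟨z, t, f, (pCore 3 _).map (Subgroup.subtype _), R.map (Subgroup.subtype _), φ, z3,
    mm.2 h.zQ, ?_, ?_, ?_, ?_, ?_, ?_, congrArg Subtype.val h.t2, fun e => h.t1 (Subtype.ext e),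
    mm.2 h.tR, ?_, ?_, ?_, ?_, ?_, ?_, ?_, ?_, ?_, h.surj, fun x hx => h.kerQ (mm.1 hx), h.cardKer,
    fun k hk => ⟨fun e => ?_, ?_⟩, fun k hk ha => h.act fN f5 (Subtype.ext hk) fun x hx =>
      (ha x (mm.2 hx)).imp Subtype.ext Subtype.ext, fun g hg => ?_, ?_,
    congrArg Subtype.val (h.f_pow f5), mC.1 f.2, congrArg Subtype.val (h.N_t fN), ?_, ?_, ?_⟩
  · rw [card_map_of_injective (subtype_injective _), h.cardQ]
  · rintro _ ⟨x, -, rfl⟩; exact mC.1 x.2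
  · intro g hg x hx
    refine mem_normalizer_conj (Solv.normalizer_le_normalizer_map_pCore 3 _ ?_) hx
    have := normalizer_le_normalizer_centralizer _ (mem_nz hg)
    rwa [zpowers_eq_closure, centralizer_closure] at this
  · rintro _ ⟨x, hx, rfl⟩ _ ⟨y, hy, rfl⟩; exact mZ.1 (h.comm x hx y hy)
  · intro g hg
    exact mZ.1 (h.centQ fN f5 (g := ⟨g, mC.2 (hg z (mm.2 h.zQ))⟩) fun x hx =>
      Subtype.ext (hg x (mm.2 hx)))
  · rintro _ ⟨x, hx, rfl⟩; exact congrArg Subtype.val (h.cube fN f5 hx)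
  · rintro _ ⟨x, hx, rfl⟩
    have := h.tinv fN f5 hx
    rw [inv_eq_of_mul_eq_one_right h.t2] at this
    exact mZ.1 this
  · rw [card_map_of_injective (subtype_injective _), h.cardR]
  · rintro _ ⟨x, -, rfl⟩; exact mC.1 x.2
  · rintro _ ⟨x, hx, rfl⟩; exact congrArg Subtype.val (h.Rt x hx)
  · rintro _ ⟨x, hx, rfl⟩ _ ⟨y, hy, rfl⟩
    exact (h.Rcomm x hx y hy).imp (congrArg Subtype.val) (congrArg Subtype.val)
  · rintro _ ⟨x, hx, rfl⟩; exact (h.Rsq hx).imp (congrArg Subtype.val) (congrArg Subtype.val)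
  · rintro _ ⟨x, hx, rfl⟩ hc
    exact (h.Rcent x hx fun y hy => Subtype.ext (hc y (mm.2 hy))).imp (congrArg Subtype.val)
      (congrArg Subtype.val)
  · obtain ⟨x, hx, x2, x1, xt⟩ := h.Rinv
    exact ⟨x, mm.2 hx, congrArg Subtype.val x2, fun e => x1 (Subtype.ext e),
      fun e => xt (Subtype.ext e)⟩
  · rintro k hk hkt _ ⟨x, hx, rfl⟩
    exact mm.2 (h.nR fN f5 (k := ⟨k, mC.2 hk⟩) (Subtype.ext hkt) hx)
  · obtain ⟨j, hj, x, hx, rfl⟩ := h.ker fN f5 (Subtype.ext hk) e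
    exact ⟨j, mZ.1 hj, x, mm.2 hx, rfl⟩
  · rintro ⟨j, hj, _, ⟨x, hx, rfl⟩, e⟩
    have hj' : (⟨j, hSC (hZS hj)⟩ : centralizer ({z} : Set G)) ∈ zpowers z0 := mZ.2 hj
    rw [show k = ⟨j, hSC (hZS hj)⟩ * x from Subtype.ext e, map_mul, h.kerQ (h.Zq hj'),
      h.kerR hx, one_mul]
  · obtain ⟨x, hx, n, hn, e⟩ := h.frat ⟨g, mC.2 hg⟩
    exact ⟨x, mm.2 hx, n, mC.1 n.2, congrArg Subtype.val (h.N_t hn), congrArg Subtype.val e⟩
  · rw [← h.cardK fN f5, ← card_map_of_injective (K := centralizer {t}) (subtype_injective _)]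
    congr 2
    ext g
    refine ⟨fun hg => (mm (x := ⟨g, hg.1⟩)).2 (mem_centralizer_singleton_iff.2
      (Subtype.ext (mem_centralizer_singleton_iff.1 hg.2))), ?_⟩
    rintro ⟨x, hx, rfl⟩
    exact ⟨x.2, mem_centralizer_singleton_iff.2
      (congrArg Subtype.val (mem_centralizer_singleton_iff.1 hx))⟩
  · rintro _ ⟨x, hx, rfl⟩ hc
    exact (h.ffix fN f5 x hx (Subtype.ext hc)).imp (congrArg Subtype.val) (congrArg Subtype.val)
  · intro h7
    have := (S.pow_dvd_card_of_pow_dvd_card h7).trans (card_dvd_of_le hSC)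
    rw [h.cardH] at this
    omega
  · by_contra hn
    push Not at hn
    refine hnwc ⟨hZS, fun g hg => ?_⟩
    rw [MonoidHom.map_zpowers] at hg ⊢
    exact eq_of_le_of_card_ge (zpowers_le.2 (hn _ (isConj_iff.2 ⟨g, rfl⟩)
      (mC.1 (hSC (hg (mem_zpowers _)))))) (by
        rw [Nat.card_zpowers, Nat.card_zpowers]
        exact ((MulAut.conj g).orderOf_eq z).ge)

end Cfsg.Lib.Co23
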