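import Cfsg.Agent.Recog.Mc3H
import Cfsg.Agent.Trans.SylowIn
import Mathlib.GroupTheory.SpecificGroups.Alternating.Simple

/-! The structure of a group of shape `3^(1+4).2^(1+4).A₅` with a Sylow 3-centre of order three. -/

set_option autoImplicit false
set_option linter.unusedSectionVars false

namespace Cfsg.Lib.Co23.A1

open Subgroup Cfsg.Lib.Trans Cfsg.Lib.Mc3
open scoped commutatorElement

/-- The alternating group of degree five. -/
abbrev A5 := alternatingGroup (Fin 5)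

theorem a5_inv : ∀ a : A5, a ^ 5 = 1 → a ≠ 1 →
    (∃ η, η * a * η⁻¹ = a⁻¹) ∧ ∀ η, η * a * η⁻¹ = a⁻¹ → η * η = 1 := by decide +kernel

theorem a5_three : ∃ a : A5, a ^ 3 = 1 ∧ a ≠ 1 := by decide +kernel

theorem a5_card : Nat.card A5 = 60 := by rw [nat_card_alternatingGroup]; simp; rfl

variable {H : Type*} [Group H]

theorem card_le_finset {A : Subgroup H} (s : Finset H) (h : ∀ a ∈ A, a ∈ s) :
    Nat.card A ≤ s.card := by
  rw [← Nat.card_eq_finsetCard s]
  exact Nat.card_le_card_of_injective (fun a : A => (⟨a, h a a.2⟩ : s))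
    fun a b e => Subtype.ext (congrArg (fun x : s => (x : H)) e)

/-- A normal subgroup of a subgroup mapping onto `A₅` maps trivially or onto. -/
theorem onto_or {φ : H →* A5} {N L : Subgroup H} (hN : ∀ a, ∃ n ∈ N, φ n = a)
    (hL : ∀ n ∈ N, ∀ l ∈ L, n * l * n⁻¹ ∈ L) : (∀ l ∈ L, φ l = 1) ∨ ∀ a, ∃ l ∈ L, φ l = a := by
  have : (L.map φ).Normal := ⟨by
    rintro _ ⟨l, hl, rfl⟩ a
    obtain ⟨n, hn, rfl⟩ := hN a
    exact ⟨_, hL n hn l hl, by simp⟩⟩
  rcases this.eq_bot_or_eq_top with e | e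
  · exact Or.inl fun l hl => mem_bot.1 (e ▸ mem_map_of_mem φ hl)
  · exact Or.inr fun a => (e ▸ mem_top a : a ∈ L.map φ)

/-- The hypotheses. -/
structure HA (z t : H) (Q R : Subgroup H) (φ : H →* A5) : Prop where
  z3 : orderOf z = 3
  zc : ∀ g, g * z = z * g
  zQ : z ∈ Q
  nQ : Q.Normal
  cardQ : Nat.card Q = 243
  comm : ∀ a ∈ Q, ∀ b ∈ Q, ⁅a, b⁆ ∈ zpowers z
  cent : ∀ g ∈ Q, (∀ q ∈ Q, g * q = q * g) → g ∈ zpowers z
  inn : ∀ g, (∀ q ∈ Q, ⁅g, q⁆ ∈ zpowers z) → ∃ e ∈ Q, e⁻¹ * g ∈ centralizer (Q : Set H)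
  surj : Function.Surjective φ
  kerQ : Q ≤ φ.ker
  cardKer : Nat.card φ.ker = 243 * 32
  kerR : R ≤ φ.ker
  cardR : Nat.card R = 32
  t2 : t * t = 1
  t1 : t ≠ 1
  tR : t ∈ R
  Rt : ∀ x ∈ R, x * t = t * x
  Rcomm : ∀ x ∈ R, ∀ y ∈ R, x * y = y * x ∨ x * y = t * y * x
  Rcent : ∀ x ∈ R, (∀ y ∈ R, x * y = y * x) → x = 1 ∨ x = t
  zS : ∃ S, IsSylowIn 3 S ⊤ ∧ ∀ x ∈ S, (∀ s ∈ S, s * x = x * s) → x ∈ zpowers z

/-- The elements acting trivially on `Q / ⟨z⟩`. -/
def DD (z : H) (Q : Subgroup H) (zc : ∀ g, g * z = z * g) : Subgroup H where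
  carrier := {g | ∀ q ∈ Q, ⁅g, q⁆ ∈ zpowers z}
  one_mem' q _ := by simp
  mul_mem' {a b} ha hb q hq := by
    rw [comm_mul_left]
    exact mul_mem (by rw [conj_zp_eq (zc a) (hb q hq)]; exact hb q hq) (ha q hq)
  inv_mem' {a} ha q hq := by
    have := inv_mem (ha q hq)
    rwa [← conj_zp_eq (zc a⁻¹) this, show a⁻¹ * ⁅a, q⁆⁻¹ * a⁻¹⁻¹ = ⁅a⁻¹, q⁆ by
      simp only [commutatorElement_def]; group] at this

variable [Finite H] {z t : H} {Q R : Subgroup H} {φ : H →* A5}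

namespace HA

variable (h : HA z t Q R φ)
include h

/-- The elements acting trivially on `Q / ⟨z⟩`. -/
abbrev D : Subgroup H := DD z Q h.zc

theorem mem_D {g : H} : g ∈ h.D ↔ ∀ q ∈ Q, ⁅g, q⁆ ∈ zpowers z := Iff.rfl

theorem conjQ (g : H) {x : H} (hx : x ∈ Q) : g * x * g⁻¹ ∈ Q := h.nQ.conj_mem x hx g

theorem Zc {j : H} (hj : j ∈ zpowers z) (g : H) : g * j = j * g := comm_zp (h.zc g) hj

theorem Zq : zpowers z ≤ Q := zpowers_le.2 h.zQ

theorem cardZ : Nat.card (zpowers z) = 3 := by rw [Nat.card_zpowers, h.z3]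

theorem Z3 {j : H} (hj : j ∈ zpowers z) : j ^ 3 = 1 := by
  have := pow_card_eq_one' (x := (⟨j, hj⟩ : zpowers z))
  rw [h.cardZ] at this
  exact congrArg Subtype.val this

theorem nD : h.D.Normal := ⟨fun d hd g q hq => by
  have := hd _ (h.conjQ g⁻¹ hq)
  rwa [← conj_zp_eq (h.zc g) this, conj_comm, show g * (g⁻¹ * q * g⁻¹⁻¹) * g⁻¹ = q by group]
    at this⟩

theorem QD : Q ≤ h.D := h.comm

theorem cardH : Nat.card H = 243 * 32 * 60 := by
  rw [← h.cardKer, ← a5_card, ← card_top (G := A5), ← MonoidHom.range_eq_top.2 h.surj,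
    ← Subgroup.card_mul_index φ.ker, index_ker]

theorem R2 : IsPGroup 2 R := IsPGroup.of_card (n := 5) h.cardR

theorem Q3 : IsPGroup 3 Q := IsPGroup.of_card (n := 5) h.cardQ

theorem QR {x : H} (h1 : x ∈ Q) (h2 : x ∈ R) : x = 1 :=
  mem_bot.1 ((inf_eq_bot_of_coprime (H := Q) (K := R)
    (by rw [h.cardQ, h.cardR]; norm_num)) ▸ ⟨h1, h2⟩ : x ∈ ⊥)

theorem ker_dec {p : H} (hp : φ p = 1) : ∃ x ∈ Q, ∃ c ∈ R, x * c = p := by
  haveI := h.nQ
  have h1 := Solv.card_sup_mul_card_inf_of_normal R Q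
  rw [show R ⊓ Q = ⊥ from eq_bot_iff.2 fun x hx => h.QR hx.2 hx.1, card_bot, h.cardR, h.cardQ,
    sup_comm] at h1
  have h2 : Q ⊔ R = φ.ker :=
    eq_of_le_of_card_ge (sup_le h.kerQ h.kerR) (by rw [h.cardKer]; omega)
  exact mem_sup_of_normal_left.1 (h2 ▸ hp : p ∈ Q ⊔ R)

theorem sylR : IsSylowIn 2 R φ.ker := ⟨h.kerR, h.R2, by
  have := Trans.card_mul_relIndex h.kerR
  rw [h.cardR, h.cardKer] at this
  omega⟩

theorem frat (g : H) : ∃ x ∈ Q, ∃ n ∈ normalizer (R : Set H), g = x * n := by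
  obtain ⟨k, hk, n, hn, rfl⟩ := h.sylR.frattini (g := g) (by rw [normalizer_eq_top]; trivial)
  obtain ⟨x, hx, c, hc, rfl⟩ := h.ker_dec hk
  exact ⟨x, hx, c * n, mul_mem (le_normalizer hc) hn, mul_assoc _ _ _⟩

theorem N_t {n : H} (hn : n ∈ normalizer (R : Set H)) : n * t = t * n := by
  rcases h.Rcent _ (mem_normalizer_conj hn h.tR) fun y hy => by
    have := h.Rt _ (mem_normalizer_conj' hn hy)
    calc _ = n * (t * (n⁻¹ * y * n)) * n⁻¹ := by group
      _ = _ := by rw [← this]; group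
    with e | e
  · exact absurd (conj_eq_one_iff.1 e) h.t1
  · exact mul_inv_eq_iff_eq_mul.1 e

theorem N_onto (a : A5) : ∃ n ∈ normalizer (R : Set H), φ n = a := by
  obtain ⟨g, rfl⟩ := h.surj a
  obtain ⟨x, hx, n, hn, rfl⟩ := h.frat g
  exact ⟨n, hn, by rw [map_mul, h.kerQ hx, one_mul]⟩

theorem Rsq {x : H} (hx : x ∈ R) : x * x = 1 ∨ x * x = t := by
  refine h.Rcent _ (mul_mem hx hx) fun y hy => ?_
  rcases h.Rcomm x hx y hy with e | e
  · rw [mul_assoc, e, ← mul_assoc, e, mul_assoc]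
  · rw [mul_assoc, e, ← mul_assoc, ← mul_assoc, h.Rt x hx, mul_assoc t, e, ← mul_assoc,
      ← mul_assoc, h.t2, one_mul, mul_assoc]

theorem R4 {x : H} (hx : x ∈ R) : x ^ 4 = 1 := by
  rw [show 4 = 2 * 2 from rfl, pow_mul, sq, sq]
  rcases h.Rsq hx with e | e <;> rw [e]
  exacts [one_mul _, h.t2]

theorem Rinv : ∃ x ∈ R, x * x = 1 ∧ x ≠ 1 ∧ x ≠ t := by
  classical
  by_contra hn
  push Not at hn
  have h1 : ∀ x ∈ R, x ≠ 1 → x ≠ t → x * x = t := fun x hx x1 xt =>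
    (h.Rsq hx).resolve_left fun e => xt (hn x hx e x1)
  obtain ⟨x, hx, x1, xt⟩ : ∃ x ∈ R, x ≠ 1 ∧ x ≠ t := by
    by_contra hc
    push Not at hc
    have := card_le_finset (A := R) {1, t} fun a ha => by simpa [or_iff_not_imp_left] using hc a ha
    have := Finset.card_le_two (a := 1) (b := t)
    have := h.cardR
    omega
  have h2 := FT.BG4.card_le_card_mul_card_inf_centralizer (H := R) (S := zpowers t) (v := x)
    fun y hy => by
      rcases h.Rcomm y hy x hx with e | e <;> rw [commutatorElement_def, e]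
      · simp
      · simp [mul_assoc]
  have h3 := card_le_finset (A := R ⊓ centralizer {x}) {1, t, x⁻¹, x⁻¹ * t} fun y hy => by
    by_cases y1 : y = 1
    · simp [y1]
    by_cases yt : y = t
    · simp [yt]
    have e : x * y * (x * y) = 1 := by
      rw [mul_assoc, ← mul_assoc y, mem_centralizer_singleton_iff.1 hy.2, mul_assoc,
        h1 y hy.1 y1 yt, ← mul_assoc, h1 x hx x1 xt, h.t2]
    by_cases e1 : x * y = 1
    · simp [eq_inv_of_mul_eq_one_right e1]
    · simp [eq_inv_mul_of_mul_eq (hn _ (mul_mem hx hy.1) e e1)]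
  have h4 := Finset.card_le_four (a := 1) (b := t) (c := x⁻¹) (d := x⁻¹ * t)
  rw [h.cardR, Nat.card_zpowers, orderOf_eq_prime (by rw [sq, h.t2]) h.t1] at h2
  omega

theorem D_ker {d : H} (hd : d ∈ h.D) : φ d = 1 := by
  haveI : Fact (Nat.Prime 3) := ⟨Nat.prime_three⟩
  haveI := h.nQ
  have nE : (centralizer (Q : Set H)).Normal := inferInstance
  obtain ⟨e, he, h1⟩ := h.inn d hd
  rcases onto_or (N := ⊤) (L := centralizer (Q : Set H))
    (fun a => (h.surj a).imp fun _ e => ⟨trivial, e⟩) fun n _ l hl => nE.conj_mem l hl n with k | k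
  · simpa [show φ e = 1 from h.kerQ he] using k _ h1
  exfalso
  obtain ⟨a, a3, a1⟩ := a5_three
  obtain ⟨c, hc, rfl⟩ := k a
  obtain ⟨m, n, hn, e⟩ := Nat.exists_eq_pow_mul_and_not_dvd (orderOf_pos c).ne' 3 (by norm_num)
  have c1 : φ (c ^ n) ≠ 1 := fun e => hn (by
    rw [map_pow, ← orderOf_dvd_iff_pow_eq_one, orderOf_eq_prime a3 a1] at e
    exact e)
  have c3 : IsPGroup 3 (zpowers (c ^ n)) := by
    refine IsPGroup.of_card_dvd_pow (n := m) ?_
    rw [Nat.card_zpowers, orderOf_dvd_iff_pow_eq_one, ← pow_mul, mul_comm, ← e, pow_orderOf_eq_one]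
  obtain ⟨S, hS, hZ⟩ := h.zS
  obtain ⟨g, -, hg⟩ := hS.exists_cj_le c3 le_top
  have y1 := cj_le_iff.1 hg _ (mem_zpowers _)
  have y2 := nE.conj_mem _ (pow_mem hc n) g
  have y3 : g * c ^ n * g⁻¹ ∉ Q := fun e => c1 (by
    have : φ _ = 1 := h.kerQ e
    rwa [map_mul, map_mul, map_inv, conj_eq_one_iff] at this)
  generalize g * c ^ n * g⁻¹ = y at y1 y2 y3
  have hQS : Q ≤ S := hS.le_of_normal h.Q3 le_top (by rw [normalizer_eq_top])
  have hA : Q ⊔ zpowers y ≤ S := sup_le hQS (zpowers_le.2 y1)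
  have h2 := Trans.card_lt_of_lt (left_lt_sup.2 fun e : zpowers y ≤ Q => y3 (e (mem_zpowers y)))
  obtain ⟨i, hi⟩ := IsPGroup.iff_card.1 (hS.isPGroup.to_le hA)
  obtain ⟨j, hj⟩ := IsPGroup.iff_card.1 hS.isPGroup
  have h3 : j ≤ 6 := by
    by_contra hc
    have := (pow_dvd_pow 3 (show 7 ≤ j by omega)).trans (hj ▸ card_subgroup_dvd_card S)
    rw [h.cardH] at this
    omega
  have h4 : 6 ≤ i := by
    rw [h.cardQ, hi] at h2
    exact (Nat.pow_lt_pow_iff_right (a := 3) (n := 5) (by norm_num)).1 h2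
  have h5 : Q ⊔ zpowers y = S := eq_of_le_of_card_ge hA (by
    rw [hi, hj]; exact Nat.pow_le_pow_right (by norm_num) (h3.trans h4))
  refine y3 (h.Zq (hZ y y1 fun s hs => mem_centralizer_singleton_iff.1
    ((sup_le (fun q hq => mem_centralizer_singleton_iff.2 (y2 q hq))
      (zpowers_le.2 (mem_centralizer_singleton_iff.2 rfl)) : Q ⊔ zpowers y ≤ centralizer {y})
      (h5 ▸ hs))))

theorem exists_f : ∃ f ∈ normalizer (R : Set H), orderOf f = 5 := by
  haveI : Fact (Nat.Prime 5) := ⟨Nat.prime_five⟩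
  have h1 := card_dvd_of_surjective (φ.comp (normalizer (R : Set H)).subtype) fun a => by
    obtain ⟨n, hn, e⟩ := h.N_onto a
    exact ⟨⟨n, hn⟩, e⟩
  obtain ⟨f, hf⟩ := exists_prime_orderOf_dvd_card' 5 (Dvd.dvd.trans (by rw [a5_card]; norm_num) h1)
  exact ⟨f, f.2, by rw [orderOf_coe, hf]⟩

theorem cube_mem {x : H} (hx : x ∈ Q) : x ^ 3 ∈ zpowers z := by
  refine h.cent _ (pow_mem hx 3) fun q hq => ?_
  have h1 := h.comm x hx q hq
  have h2 : ∀ n : ℕ, x ^ n * q = ⁅x, q⁆ ^ n * q * x ^ n := fun n => by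
    induction n with
    | zero => simp
    | succ n ih =>
      rw [pow_succ', mul_assoc, ih, ← mul_assoc, ← mul_assoc, h.Zc (pow_mem h1 n) x, pow_succ,
        commutatorElement_def]
      simp only [mul_assoc, inv_mul_cancel_left]
  rw [h2, h.Z3 h1, one_mul]

section f

variable {f : H} (fN : f ∈ normalizer (R : Set H)) (f5 : orderOf f = 5)
include f5

theorem f_pow : f ^ 5 = 1 := f5 ▸ pow_orderOf_eq_one f

theorem f_ker {k : ℤ} (e : φ (f ^ k) = 1) : f ^ k = 1 := by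
  have h1 : orderOf (f ^ k) ∣ 243 * 32 := h.cardKer ▸ orderOf_dvd_natCard _ (e : f ^ k ∈ φ.ker)
  have h2 : orderOf (f ^ k) ∣ 5 := by
    rw [← f5]; exact orderOf_dvd_of_mem_zpowers (zpow_mem_zpowers f k)
  exact orderOf_eq_one_iff.1 (Nat.eq_one_of_dvd_coprimes (by norm_num) h1 h2)

theorem f_ne : φ f ≠ 1 := fun e => by
  have := h.f_ker f5 (k := 1) (by rwa [zpow_one])
  rw [zpow_one] at this
  simp [this] at f5

omit h in
theorem mod5 {A : Subgroup H} (hA : ∀ a ∈ A, f * a * f⁻¹ ∈ A) :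
    Nat.card A ≡ Nat.card (A ⊓ centralizer ({f} : Set H) : Subgroup H) [MOD 5] := by
  have : Fact (Nat.Prime 5) := ⟨Nat.prime_five⟩
  have := Solv.card_modEq_card_inf_centralizer
    (IsPGroup.of_card (n := 1) (G := zpowers f) (by rw [Nat.card_zpowers, f5, pow_one]))
    (zpowers_le.mpr (mem_normalizer_fintype (S := (A : Set H)) hA))
  rwa [zpowers_eq_closure, centralizer_closure] at this

/-- An element of order five fixing `x` modulo a commuting element of order prime to five. -/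
theorem f_fix {x c : H} (e : f * x * f⁻¹ = c * x) (hc : f * c = c * f) {n : ℕ} (hn : c ^ n = 1)
    (h5 : n.Coprime 5) : f * x = x * f := by
  have h2 : ∀ k : ℕ, f ^ k * x * (f ^ k)⁻¹ = c ^ k * x := fun k => by
    induction k with
    | zero => simp
    | succ k ih =>
      rw [pow_succ', show f * f ^ k * x * (f * f ^ k)⁻¹ = f * (f ^ k * x * (f ^ k)⁻¹) * f⁻¹ by group,
        ih, ← mul_assoc, (Commute.pow_right hc k).eq, pow_succ, mul_assoc (c ^ k) c, ← e]
      group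
  have h3 := h2 5
  rw [h.f_pow f5, one_mul, inv_one, mul_one, eq_comm, mul_eq_right] at h3
  rw [orderOf_eq_one_iff.1 (Nat.eq_one_of_dvd_coprimes h5 (orderOf_dvd_of_pow_eq_one hn)
    (orderOf_dvd_of_pow_eq_one h3)), one_mul] at e
  exact mul_inv_eq_iff_eq_mul.1 e

theorem CQf : Q ⊓ centralizer {f} = zpowers z := by
  have h1 : zpowers z ≤ Q ⊓ centralizer {f} :=
    le_inf h.Zq fun j hj => mem_centralizer_singleton_iff.2 (h.Zc hj f).symm
  have h2 := mod5 f5 fun a ha => h.conjQ f ha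
  have h3 := card_dvd_243 (h.cardQ ▸ card_dvd_of_le (inf_le_left : Q ⊓ centralizer {f} ≤ Q))
  have h4 : Nat.card (Q ⊓ centralizer {f} : Subgroup H) ≠ 243 := fun e => by
    have := eq_of_le_of_card_ge (inf_le_left : Q ⊓ centralizer {f} ≤ Q) (by rw [e, h.cardQ])
    exact h.f_ne f5 (h.D_ker fun q hq => by
      rw [commutatorElement_eq_one_iff_mul_comm.2
        (mem_centralizer_singleton_iff.1 (this.ge hq).2).symm]
      exact one_mem _)
  rw [h.cardQ, Nat.ModEq] at h2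
  exact (eq_of_le_of_card_ge h1 (by rw [h.cardZ]; omega)).symm

theorem irr {A : Subgroup H} (h1 : zpowers z ≤ A) (h2 : A ≤ Q) (hA : ∀ a ∈ A, f * a * f⁻¹ ∈ A) :
    A = zpowers z ∨ A = Q := by
  have h3 := mod5 f5 hA
  rw [show A ⊓ centralizer {f} = zpowers z from le_antisymm
    ((inf_le_inf_right _ h2).trans (h.CQf f5).le) (le_inf h1 ((h.CQf f5).ge.trans inf_le_right)),
    h.cardZ, Nat.ModEq] at h3
  have h4 := card_dvd_243 (h.cardQ ▸ card_dvd_of_le h2)
  rcases (by omega : Nat.card A = 3 ∨ Nat.card A = 243) with e | e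
  · exact Or.inl (eq_of_le_of_card_ge h1 (by rw [e, h.cardZ])).symm
  · exact Or.inr (eq_of_le_of_card_ge h2 (by rw [e, h.cardQ]))

include fN in
theorem CRf : (∀ x ∈ R, f * x = x * f → x = 1 ∨ x = t) ∨ ∀ x ∈ R, f * x = x * f := by
  have h1 : zpowers t ≤ R ⊓ centralizer {f} :=
    zpowers_le.2 ⟨h.tR, mem_centralizer_singleton_iff.2 (h.N_t fN).symm⟩
  have ot : orderOf t = 2 := orderOf_eq_prime (by rw [sq, h.t2]) h.t1
  have h2 := mod5 f5 fun a ha => mem_normalizer_conj fN ha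
  obtain ⟨i, hi, h3⟩ := (Nat.dvd_prime_pow Nat.prime_two (m := 5)).1
    ((card_dvd_of_le (inf_le_left : R ⊓ centralizer {f} ≤ R)).trans (by rw [h.cardR]; norm_num))
  rw [h.cardR, Nat.ModEq] at h2
  have h4 : Nat.card (R ⊓ centralizer {f} : Subgroup H) = 2 ∨
      Nat.card (R ⊓ centralizer {f} : Subgroup H) = 32 := by
    interval_cases i <;> omega
  rcases h4 with e | e
  · classical
    refine Or.inl fun x hx hc => ?_
    have := (eq_of_le_of_card_ge h1 (by rw [e, Nat.card_zpowers, ot])).ge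
      ⟨hx, mem_centralizer_singleton_iff.2 hc.symm⟩
    obtain ⟨k, hk, rfl⟩ := (mem_zpowers_iff_mem_range_orderOf.1 this |> Finset.mem_image.1)
    rw [ot, Finset.mem_range] at hk
    interval_cases k <;> simp
  · exact Or.inr fun x hx => (mem_centralizer_singleton_iff.1 ((eq_of_le_of_card_ge
      (inf_le_left : R ⊓ centralizer {f} ≤ R) (by rw [e, h.cardR])).ge hx).2).symm

end f

end HA

end Cfsg.Lib.Co23.A1
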