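import Cfsg.Agent.Co23.A3a
import Cfsg.Agent.Co23.PartA1a

/-! Generators of `2^(1+4)` and of the normalizer of an element of order three. -/

set_option autoImplicit false
set_option maxRecDepth 100000
set_option linter.unusedSimpArgs false
set_option linter.unusedSectionVars false
set_option linter.unusedVariables false

namespace Cfsg.Lib.Co23

open Subgroup Cfsg.Lib.Spor Cfsg.Lib.Spor.Bulk Cfsg.Lib.Spor.PK Cfsg.Lib.Spor.WF Cfsg.Lib.Trans
open Cfsg.Lib.L3 Cfsg.Agent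

universe u

section facts

variable {G : Type*} [Group G] {i r s w : G}

theorem A2.hi (h : RRel i r s w) :
    ∀ y ∈ gen [i, r * i * r⁻¹, s, w], y * s = s * y → y * w = w * y → y * y = i * i → y * r * y * r * y
    * r = 1 → (y = i⁻¹ ∨ y = r * i⁻¹ * r⁻¹ ∨ y = r⁻¹ * i⁻¹ * r) := by
  have := PM.holds MR_ok MR_subs (MR_emb h) (p := (.all 1 40 (.imp (.eq [5,40] [40,5]) (.imp (.eq [6,40] [40,6]) (.imp (.eq [40,40] [1,1]) (.imp (.eq
      [3,40,3,40,3,40] []) (.or (.eq [40] [2]) (.or (.eq [40] [4,2,3]) (.eq [40] [3,2,4]))))))))) (by decide +kernel)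
  simp only [Fm.sem, wv_cons, wv_nil, one_mul, upd_apply, Nat.reduceEqDiff, ↓reduceIte, gMR_1, gMR_2, gMR_3, gMR_4, gMR_5, gMR_6, gMR_s0, gMR_s1, exists_eq_right'] at this
  exact this

theorem A2.invr (h : RRel i r s w) :
    ∀ y ∈ gen [i, r * i * r⁻¹, s, w], y * r = r * y → y * y = 1 → (y = 1 ∨ y = i * i ∨ y = s ∨ y = s * i
    * i ∨ y = w ∨ y = w * i * i) := by
  have := PM.holds MR_ok MR_subs (MR_emb h) (p := (.all 1 40 (.imp (.eq [3,40] [40,3]) (.imp (.eq [40,40] []) (.or (.eq [40] []) (.or (.eq [40] [1,1])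
      (.or (.eq [40] [5]) (.or (.eq [40] [1,1,5]) (.or (.eq [40] [6]) (.eq [40] [1,1,6])))))))))) (by decide +kernel)
  simp only [Fm.sem, wv_cons, wv_nil, one_mul, upd_apply, Nat.reduceEqDiff, ↓reduceIte, gMR_1, gMR_2, gMR_3, gMR_4, gMR_5, gMR_6, gMR_s0, gMR_s1, exists_eq_right'] at this
  exact this

theorem A2.inv (h : RRel i r s w) :
    ∀ y ∈ gen [i, r * i * r⁻¹, s, w], y * y = 1 → (y = 1 ∨ y = i * i ∨ y = s ∨ y = s * i * i ∨ y = w ∨ y
    = w * i * i ∨ y = s * w * i ∨ y = s * w * i⁻¹ ∨ y = s * w * r * i * r⁻¹ ∨ y = s * w * r * i⁻¹ *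
    r⁻¹ ∨ y = s * w * r⁻¹ * i * r ∨ y = s * w * r⁻¹ * i⁻¹ * r) := by
  have := PM.holds MR_ok MR_subs (MR_emb h) (p := (.all 1 40 (.imp (.eq [40,40] []) (.or (.eq [40] []) (.or (.eq [40] [1,1]) (.or (.eq [40] [5]) (.or
      (.eq [40] [1,1,5]) (.or (.eq [40] [6]) (.or (.eq [40] [1,1,6]) (.or (.eq [40] [1,6,5]) (.or
      (.eq [40] [2,6,5]) (.or (.eq [40] [4,1,3,6,5]) (.or (.eq [40] [4,2,3,6,5]) (.or (.eq [40]
      [3,1,4,6,5]) (.eq [40] [3,2,4,6,5]))))))))))))))) (by decide +kernel)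
  simp only [Fm.sem, wv_cons, wv_nil, one_mul, upd_apply, Nat.reduceEqDiff, ↓reduceIte, gMR_1, gMR_2, gMR_3, gMR_4, gMR_5, gMR_6, gMR_s0, gMR_s1, exists_eq_right'] at this
  exact this

end facts

namespace A2

open A1

theorem fix {α : Type*} [Finite α] {p : ℕ} [hp : Fact p.Prime] (σ : Equiv.Perm α)
    (hσ : σ ^ p = 1) {S : Set α} (hS : Set.MapsTo σ S S) (hf : ∀ x ∈ S, σ x ≠ x) :
    p ∣ S.ncard := by
  classical
  by_contra ho
  have := Fintype.ofFinite S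
  have hi : ∀ x, σ x ∈ S ↔ x ∈ S := fun x => ⟨fun h => by
    have h1 := hS.perm_pow (p - 1) h
    rwa [← Equiv.Perm.mul_apply, ← pow_succ, Nat.sub_add_cancel hp.out.one_le, hσ] at h1,
    fun h => hS h⟩
  obtain ⟨a, ha⟩ := Equiv.Perm.exists_fixed_point_of_prime (p := p) (n := 1) (α := S)
    (by rwa [← Nat.card_eq_fintype_card, Nat.card_coe_set_eq]) (σ := σ.subtypePerm hi)
    (by rw [pow_one, Equiv.Perm.subtypePerm_pow]; ext x; simp [hσ])
  exact hf a a.2 (congrArg Subtype.val ha)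

/-- an element of order three -/
def ρ : A5 := ⟨Equiv.swap 0 1 * Equiv.swap 1 2, Equiv.Perm.mem_alternatingGroup.2 (by decide)⟩

theorem ρ3 : ρ ^ 4 = ρ ∧ ρ ^ 3 = 1 ∧ ρ ≠ 1 ∧ ∃ η : A5, η * ρ⁻¹ * η⁻¹ * ρ⁻¹ = 1 := by decide +kernel

theorem max3 : ∀ η g : A5, η * ρ = ρ⁻¹ * η → (g * ρ = ρ * g ∨ g * ρ = ρ⁻¹ * g) ∨
    ∃ a ∈ [1, ρ, ρ⁻¹, η, ρ * η, ρ⁻¹ * η], (g * a) ^ 5 = 1 ∧ g * a ≠ 1 := by decide +kernel

theorem six : (Finset.univ.filter fun g : A5 => g * ρ = ρ * g ∨ g * ρ = ρ⁻¹ * g).card = 6 := by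
  decide +kernel

variable {H : Type*} [Group H] [Finite H]

theorem two_le {A B : Subgroup H} (h : A ≤ B) {x : H} (hx : x ∈ B) (hn : x ∉ A) :
    2 * Nat.card A ≤ Nat.card B := by
  obtain ⟨c, e⟩ := card_dvd_of_le h
  have h1 := card_lt_of_lt (lt_of_le_of_ne h fun e => hn (e ▸ hx))
  have h2 : 0 < Nat.card A := Nat.card_pos
  rw [e] at h1 ⊢
  rcases c with _ | _ | c
  · omega
  · omega
  · nlinarith

theorem card_split (ψ : H →* A5) (C : Subgroup H) :
    Nat.card C = Nat.card ↥(C ⊓ ψ.ker) * Nat.card (C.map ψ) := by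
  rw [← card_mul_relIndex (inf_le_left (a := C) (b := ψ.ker)), inf_relIndex_left, relIndex_ker]

/-- `C(z, t)` as an abstract group. -/
structure AK (z t f : H) (R : Subgroup H) (ψ : H →* A5) : Prop where
  z3 : z ^ 3 = 1
  zc : ∀ g, g * z = z * g
  tc : ∀ g, g * t = t * g
  t2 : t * t = 1
  t1 : t ≠ 1
  tR : t ∈ R
  cardR : Nat.card R = 32
  Rcomm : ∀ x ∈ R, ∀ y ∈ R, x * y = y * x ∨ x * y = t * y * x
  Rsq : ∀ x ∈ R, x * x = 1 ∨ x * x = t
  Rcent : ∀ x ∈ R, (∀ y ∈ R, x * y = y * x) → x = 1 ∨ x = t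
  Rinv : ∃ x ∈ R, x * x = 1 ∧ x ≠ 1 ∧ x ≠ t
  nR : ∀ k, ∀ x ∈ R, k * x * k⁻¹ ∈ R
  surj : Function.Surjective ψ
  ker : ∀ k, ψ k = 1 ↔ ∃ j ∈ zpowers z, ∃ x ∈ R, k = j * x
  act : ∀ k, (∀ x ∈ R, k * x = x * k) → ψ k = 1
  card : Nat.card H = 5760
  f5 : f ^ 5 = 1
  ffix : ∀ x ∈ R, f * x = x * f → x = 1 ∨ x = t

variable {z t f : H} {R : Subgroup H} {ψ : H →* A5} {i r s w h j x y : H}

/-- the non-central involutions -/
def NN (t : H) (R : Subgroup H) : Set H := {x | x ∈ R ∧ x * x = 1 ∧ x ≠ 1 ∧ x ≠ t}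

namespace AK

variable (K : AK z t f R ψ)
include K

theorem jc (hj : j ∈ zpowers z) (g : H) : g * j = j * g := A3.zc hj (K.zc g)

theorem j3 (hj : j ∈ zpowers z) : j ^ 3 = 1 := by
  rcases cube_cases K.z3 hj with rfl | rfl | rfl <;> simp [K.z3]

theorem R4 (hx : x ∈ R) : x ^ 4 = 1 := by
  have : x ^ 4 = x * x * (x * x) := by simp only [pow_succ, pow_zero]; group
  rcases K.Rsq x hx with e | e <;> rw [this, e]
  · simp
  · exact K.t2

theorem kerR (hx : x ∈ R) : ψ x = 1 := (K.ker x).2 ⟨1, one_mem _, x, hx, (one_mul x).symm⟩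

theorem kerZ (hj : j ∈ zpowers z) : ψ j = 1 := (K.ker j).2 ⟨j, hj, 1, one_mem _, (mul_one j).symm⟩

theorem tt (g : H) : t * (t * g) = g := by rw [← mul_assoc, K.t2, one_mul]

theorem tm (a g : H) : a * (t * g) = t * (a * g) := by rw [← mul_assoc, K.tc, mul_assoc]

theorem exists_r : ∃ r h, r * r * r = 1 ∧ ψ r = ρ ∧ h * r = r⁻¹ * h := by
  obtain ⟨r4, r3, -, η, hη⟩ := ρ3
  obtain ⟨g, hg⟩ := K.surj ρ
  obtain ⟨k, rfl⟩ := K.surj η
  obtain ⟨j, hj, x, hx, e⟩ := (K.ker (g ^ 3)).1 (by rw [map_pow, hg, r3])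
  have e1 : (g ^ 4) ^ 3 = j ^ 4 := by
    rw [← pow_mul, mul_comm, pow_mul, e, (show Commute j x from (K.jc hj x).symm).mul_pow,
      K.R4 hx, mul_one]
  generalize hr : g ^ 4 = r at e1
  have hρ : ψ r = ρ := by rw [← hr, map_pow, hg, r4]
  have hj4 := pow_mem hj 4
  generalize j ^ 4 = c at e1 hj4
  obtain ⟨j, hj, x, hx, e⟩ := (K.ker (k * r⁻¹ * k⁻¹ * r⁻¹)).1 (by simpa [hρ] using hη)
  have e2 : k * r⁻¹ * k⁻¹ = j * (x * r) := by rw [← mul_assoc, ← e]; group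
  have e3 : (x * r) ^ 3 = c⁻¹ := by
    have := congrArg (· ^ 3) e2
    simp only [conj_pow, inv_pow, e1] at this
    rw [(show Commute j _ from (K.jc hj _).symm).mul_pow, K.j3 hj, one_mul,
      K.jc (inv_mem hj4), mul_inv_cancel_right] at this
    exact this.symm
  have c1 : c = 1 := by
    have h1 := A3.cube_mem hx (K.nR r)
    rw [e3, e1] at h1
    have h2 := K.R4 h1
    have h3 : c⁻¹ ^ 8 = 1 := by rw [← h2, ← sq, ← pow_mul]
    exact inv_eq_one.1 (A3.one_of (by norm_num) h3 (K.j3 (inv_mem hj4)))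
  rw [c1] at e1 e3
  rw [inv_one] at e3
  rw [pow_three'] at e1 e3
  obtain ⟨d, -, hd⟩ := Co3M.conj_of_coset (D := R) (by rw [K.cardR]; norm_num) (K.nR r) e1 e3
    (by simpa using hx)
  have j3 := K.j3 hj
  have e4 : d⁻¹ * k * r⁻¹ = j * r * (d⁻¹ * k) := by
    have : k * r⁻¹ = j * (x * r) * k := by rw [← e2]; group
    rw [mul_assoc, this, mul_eq_of_eq_mul_inv (a := x * r) (b := 1) (c := d * r * d⁻¹)
      (by rw [hd]; group) |>.symm.trans (mul_one _) |>.symm]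
    rw [← mul_assoc, ← mul_assoc, K.jc hj d⁻¹]; group
  have cj : Commute (j * j) r := (K.jc (mul_mem hj hj) r).symm
  refine ⟨j * j * r, d⁻¹ * k, ?_, by simp [K.kerZ hj, hρ], ?_⟩
  · rw [← pow_three', cj.mul_pow, K.j3 (mul_mem hj hj), pow_three', e1, one_mul]
  · generalize d⁻¹ * k = h at e4
    have e5 : h * r = r⁻¹ * j⁻¹ * h := by
      rw [← mul_inv_rev, eq_inv_mul_iff_mul_eq, ← mul_assoc, ← e4]; group
    have ji : j * j = j⁻¹ := eq_inv_of_mul_eq_one_left (by rw [← pow_three', j3])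
    rw [ji, ← mul_assoc, K.jc (inv_mem hj) h, mul_assoc, e5, mul_inv_rev, inv_inv, ← mul_assoc,
      ← mul_assoc, ← K.jc (inv_mem hj) r⁻¹, mul_assoc r⁻¹, ← mul_inv_rev, ji, inv_inv]

theorem star (r3 : r * r * r = 1) (e : r * x = t * x * r) : False := by
  have e1 : ∀ g, r * (x * g) = t * (x * (r * g)) := fun g => by
    rw [← mul_assoc, e]; simp only [mul_assoc]
  have : r * (r * (r * (x * 1))) = t * (x * (r * (r * (r * 1)))) := by
    simp only [e1, K.tm r, K.tt]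
  simp only [mul_one, ← mul_assoc, r3, one_mul, mul_assoc x] at this
  exact K.t1 (by simpa using this)

theorem conjN (g : H) (hx : x ∈ NN t R) : g * x * g⁻¹ ∈ NN t R := by
  refine ⟨K.nR g x hx.1, by rw [conj_mul, hx.2.1]; simp, by simpa using hx.2.2.1, fun e => ?_⟩
  rw [mul_inv_eq_iff_eq_mul, ← K.tc] at e
  exact hx.2.2.2 (mul_left_cancel e)

theorem ten {S : Set H} (h1 : S ⊆ NN t R) (h2 : ∀ x ∈ S, f * x * f⁻¹ ∈ S)
    (h3 : ∀ x ∈ S, x * t ∈ S) : 10 ∣ S.ncard := by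
  have := Fact.mk Nat.prime_five
  refine Nat.Coprime.mul_dvd_of_dvd_of_dvd (m := 2) (n := 5) (by norm_num)
    (fix (Equiv.mulRight t) (by ext x; simp [sq, mul_assoc, K.t2]) h3 fun x _ e => ?_)
    (fix (MulAut.toPerm H (MulAut.conj f)) (by rw [← map_pow, ← map_pow, K.f5, map_one, map_one])
      h2 fun x hx e => ?_)
  · exact K.t1 (by simpa using e)
  · have hx' := h1 hx
    rcases K.ffix x hx'.1 (mul_inv_eq_iff_eq_mul.1 e) with e | e
    · exact hx'.2.2.1 e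
    · exact hx'.2.2.2 e

theorem mulN (hx : x ∈ NN t R) : x * t ∈ NN t R := by
  refine ⟨mul_mem hx.1 K.tR, ?_, fun e => hx.2.2.2 ?_, by simpa using hx.2.2.1⟩
  · rw [mul_assoc, ← mul_assoc t, ← K.tc x, mul_assoc, K.t2, mul_one, hx.2.1]
  · rw [← K.t2] at e; exact mul_right_cancel e

theorem exists_s (r3 : r * r * r = 1) : ∃ s ∈ NN t R, r * s = s * r := by
  refine A3.exists_fixed (by rw [pow_three', r3]) (fun w hw => K.conjN r hw) fun h3 => ?_
  have h10 := K.ten subset_rfl (fun x hx => K.conjN f hx) fun x hx => K.mulN hx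
  obtain ⟨x, hx⟩ := K.Rinv
  have h0 : 0 < (NN t R).ncard := (Set.ncard_pos (Set.toFinite _)).2 ⟨x, hx⟩
  obtain ⟨y, hy, y2⟩ : ∃ y ∈ R, y * y ≠ 1 := by
    by_contra! hc
    rcases K.Rcent x hx.1 fun y hy => by
      rw [← inv_eq_of_mul_eq_one_right (hc _ (mul_mem hx.1 hy)), mul_inv_rev,
        inv_eq_of_mul_eq_one_right (hc _ hy), inv_eq_of_mul_eq_one_right (hc _ hx.1)]
      with e | e
    · exact hx.2.2.1 e
    · exact hx.2.2.2 e
  have y1 : (1 : H) ≠ y := fun e => y2 (by simp [← e])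
  have yt : t ≠ y := fun e => y2 (e ▸ K.t2)
  have hs : insert 1 (insert t (insert y (NN t R))) ⊆ (R : Set H) := by
    rintro a (rfl | rfl | rfl | ha)
    exacts [one_mem R, K.tR, hy, ha.1]
  have := Set.ncard_le_ncard hs
  rw [Set.ncard_insert_of_notMem (by simp [NN, y1, K.t1.symm]),
    Set.ncard_insert_of_notMem (by simp [NN, yt]), Set.ncard_insert_of_notMem (by simp [NN, y2]),
    ← Nat.card_coe_set_eq (R : Set H)] at this
  have h32 : Nat.card (R : Set H) = 32 := K.cardR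
  omega

theorem exists_w (r3 : r * r * r = 1) (hs : s ∈ NN t R) (rs : r * s = s * r) :
    ∃ w ∈ R, w * w = 1 ∧ r * w = w * r ∧ s * w = t * w * s := by
  obtain ⟨x, hx, e⟩ : ∃ x ∈ R, s * x = t * x * s := by
    by_contra! hc
    rcases K.Rcent s hs.1 fun y hy => (K.Rcomm s hs.1 y hy).resolve_right (hc y hy) with e | e
    · exact hs.2.2.1 e
    · exact hs.2.2.2 e
  have cj : ∀ y, s * y = t * y * s → s * (r * y * r⁻¹) = t * (r * y * r⁻¹) * s := fun y e => by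
    have h1 : r⁻¹ * s = s * r⁻¹ := (show Commute r s from rs).inv_left
    calc _ = r * (s * y) * r⁻¹ := by rw [← mul_assoc, ← mul_assoc, ← rs]; group
      _ = _ := by rw [e, mul_assoc t, K.tm, mul_assoc, mul_assoc t, mul_assoc _ r⁻¹, h1]; group
  have e1 := cj x e
  have e2 := cj _ e1
  have hb := K.nR r x hx
  have hc := K.nR r _ hb
  have e3 : r * (r * (r * x * r⁻¹) * r⁻¹) * r⁻¹ = x := by
    calc _ = r * r * r * x * (r * r * r)⁻¹ := by group
      _ = x := by rw [r3]; simp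
  have e4 : r * (x * (r * x * r⁻¹ * (r * (r * x * r⁻¹) * r⁻¹))) =
      r * x * r⁻¹ * (r * (r * x * r⁻¹) * r⁻¹) * x * r := by
    conv_rhs => enter [1, 2]; rw [← e3]
    group
  generalize r * (r * x * r⁻¹) * r⁻¹ = c at e2 hc e4
  generalize r * x * r⁻¹ = b at e1 hb e4
  have e5 : s * (x * (b * c)) = t * (x * (b * c)) * s := by
    have a : ∀ y, s * y = t * y * s → ∀ g, s * (y * g) = t * (y * (s * g)) := fun y e g => by
      rw [← mul_assoc, e]; simp only [mul_assoc]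
    rw [a x e, a b e1, e2]
    simp only [mul_assoc, K.tm x, K.tm b, K.tt]
  have e6 : r * (x * (b * c)) = x * (b * c) * r := by
    rcases K.Rcomm _ (mul_mem hb hc) x hx with a | a <;> rw [a] at e4
    · exact e4
    · exact (K.star r3 (by rw [e4]; simp only [mul_assoc])).elim
  have hw := mul_mem hx (mul_mem hb hc)
  generalize x * (b * c) = w at e5 e6 hw
  rcases K.Rsq w hw with a | a
  · exact ⟨w, hw, a, e6, e5⟩
  · refine ⟨s * w, mul_mem hs.1 hw, ?_, ?_, ?_⟩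
    · rw [← mul_assoc, e5, mul_assoc _ s s, hs.2.1, mul_one, mul_assoc, a, K.t2]
    · rw [← mul_assoc, rs, mul_assoc, e6, mul_assoc]
    · conv_lhs => rw [e5]
      rw [mul_assoc t, K.tm]; simp only [mul_assoc]

theorem fixc {a b : H} (ha : a ∈ R) (e : a * b = t * b * a) (hy : y ∈ R) :
    ∃ d, (d = 1 ∨ d = b) ∧ y * d * a = a * (y * d) := by
  rcases K.Rcomm a ha y hy with c | c
  · exact ⟨1, Or.inl rfl, by simpa using c.symm⟩
  · refine ⟨b, Or.inr rfl, ?_⟩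
    rw [← mul_assoc, c, mul_assoc _ a, e]
    simp only [mul_assoc, K.tm y, K.tt]

theorem ws (sw : s * w = t * w * s) : w * s = t * s * w := by
  rw [mul_assoc, sw, mul_assoc, K.tt]

/-- an element commuting with `s`, `w` and `C_R(s, w)` centralizes `R`. -/
theorem dec (hs : s ∈ R) (hw : w ∈ R) (sw : s * w = t * w * s) {g : H} (gs : g * s = s * g)
    (gw : g * w = w * g) (hc : ∀ x ∈ R, x * s = s * x → x * w = w * x → g * x = x * g) :
    ∀ y ∈ R, g * y = y * g := fun y hy => by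
  obtain ⟨d, hd, e⟩ := K.fixc hs sw hy
  have d1 : d ∈ R ∧ Commute g d := by
    rcases hd with rfl | rfl
    exacts [⟨one_mem _, Commute.one_right _⟩, ⟨hw, gw⟩]
  obtain ⟨c, hc', e'⟩ := K.fixc hw (K.ws sw) (mul_mem hy d1.1)
  have c1 : c ∈ R ∧ Commute g c ∧ Commute c s := by
    rcases hc' with rfl | rfl
    exacts [⟨one_mem _, Commute.one_right _, Commute.one_left _⟩, ⟨hs, gs, Commute.refl _⟩]
  have := hc _ (mul_mem (mul_mem hy d1.1) c1.1)
    (Commute.mul_left (show Commute (y * d) s from e) c1.2.2) e'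
  have := ((show Commute g _ from this).mul_right c1.2.1.inv_right).mul_right d1.2.inv_right
  rwa [mul_inv_cancel_right, mul_inv_cancel_right] at this

theorem exists_i (r3 : r * r * r = 1) (hr : ψ r ≠ 1) (hs : s ∈ NN t R) (rs : r * s = s * r)
    (hw : w ∈ R) (rw' : r * w = w * r) (sw : s * w = t * w * s) :
    ∃ i ∈ R, i * i = t ∧ i * r⁻¹ * i * r⁻¹ * i * r⁻¹ = 1 ∧ s * i = i * s ∧ w * i = i * w := by
  classical
  obtain ⟨x, hx, xs, xw, xr⟩ : ∃ x ∈ R, x * s = s * x ∧ x * w = w * x ∧ r * x ≠ x * r := by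
    by_contra! hc
    exact hr (K.act r (K.dec hs.1 hw sw rs rw' hc))
  have cs : ∀ a, Commute a s → Commute (r⁻¹ * a * r) s := fun a h =>
    ((show Commute r s from rs).inv_left.mul_left h).mul_left rs
  have cw : ∀ a, Commute a w → Commute (r⁻¹ * a * r) w := fun a h =>
    ((show Commute r w from rw').inv_left.mul_left h).mul_left rw'
  have cR : ∀ a ∈ R, r⁻¹ * a * r ∈ R := fun a h => by simpa using K.nR r⁻¹ a h
  have st : ∀ a, r⁻¹ * a * r ≠ a * t := fun a e => K.star (x := a) r3 (by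
    have : a * r = r * (a * t) := by rw [← e]; group
    rw [mul_assoc, this, K.tc a, K.tm r, K.tt])
  have hi := mul_mem (inv_mem hx) (cR x hx)
  have is := (show Commute x s from xs).inv_left.mul_left (cs x xs)
  have iw := (show Commute x w from xw).inv_left.mul_left (cw x xw)
  have i3 : ∀ i, i = x⁻¹ * (r⁻¹ * x * r) → i * r⁻¹ * i * r⁻¹ * i * r⁻¹ = 1 := by
    rintro i rfl
    calc _ = x⁻¹ * (r * r * r)⁻¹ * x := by group
      _ = 1 := by rw [r3]; simp
  have i1 : x⁻¹ * (r⁻¹ * x * r) ≠ 1 := fun e => xr (by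
    rw [inv_mul_eq_one, mul_assoc, eq_inv_mul_iff_mul_eq] at e; exact e)
  have it : x⁻¹ * (r⁻¹ * x * r) ≠ t := fun e => st x (inv_mul_eq_iff_eq_mul.1 e)
  replace i3 := i3 _ rfl
  generalize x⁻¹ * (r⁻¹ * x * r) = i at *
  refine ⟨i, hi, (K.Rsq i hi).resolve_left fun i2 => ?_, i3, is.symm, iw.symm⟩
  have m : ∀ {a b : H}, a ∈ centralizer ({b} : Set H) ↔ a * b = b * a :=
    mem_centralizer_singleton_iff
  have nsw : s * w ≠ w * s := fun e => K.t1 (by simpa [e, mul_assoc] using sw)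
  obtain ⟨u, hu, us, uw, ui⟩ : ∃ u ∈ R, u * s = s * u ∧ u * w = w * u ∧ i * u ≠ u * i := by
    by_contra! hc
    exact (K.Rcent i hi (K.dec hs.1 hw sw is iw hc)).elim i1 it
  have h5 := two_le (inf_le_left (a := R) (b := centralizer {s})) hw fun h => nsw (m.1 h.2).symm
  have h4 := two_le (inf_le_left (a := R ⊓ centralizer {s}) (b := centralizer {w}))
    ⟨hs.1, m.2 rfl⟩ fun h => nsw (m.1 h.2)
  have h3 := two_le (inf_le_left (a := R ⊓ centralizer {s} ⊓ centralizer {w}) (b := centralizer {i}))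
    ⟨⟨hu, m.2 us⟩, m.2 uw⟩ fun h => ui (m.1 h.2).symm
  have cN : ∀ a ∈ NN t R, r⁻¹ * a * r ∈ NN t R := fun a h => by simpa using K.conjN r⁻¹ h
  have hb := cN i ⟨hi, i2, i1, it⟩
  have hc := cN _ hb
  have e1 : i * (r⁻¹ * i * r) * (r⁻¹ * (r⁻¹ * i * r) * r) = 1 := by
    calc _ = i * r⁻¹ * i * r⁻¹ * i * r⁻¹ * (r * r * r) := by group
      _ = 1 := by rw [i3, r3, one_mul]
  have bi : r⁻¹ * i * r ≠ i := fun e => i1 (by rwa [e, e, i2, one_mul] at e1)
  have bt := st i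
  have bs := cs i is
  have bw := cw i iw
  generalize r⁻¹ * (r⁻¹ * i * r) * r = c at hc e1
  generalize r⁻¹ * i * r = b at hb e1 bi bt bs bw
  have ib : b * i = i * b := by
    have h1 : i * b = c := by rw [← hc.2.1] at e1; exact mul_right_cancel e1
    have h2 : (i * b)⁻¹ = i * b := by rw [h1]; exact inv_eq_of_mul_eq_one_right hc.2.1
    rwa [mul_inv_rev, inv_eq_of_mul_eq_one_right i2, inv_eq_of_mul_eq_one_right hb.2.1] at h2
  have hit := K.mulN ⟨hi, i2, i1, it⟩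
  have h2 : ({1, t, i, i * t, b} : Set H) ⊆
      (R ⊓ centralizer {s} ⊓ centralizer {w} ⊓ centralizer {i} : Subgroup H) := by
    have ht : t ∈ R ⊓ centralizer {s} ⊓ centralizer {w} ⊓ centralizer {i} :=
      ⟨⟨⟨K.tR, m.2 (K.tc s).symm⟩, m.2 (K.tc w).symm⟩, m.2 (K.tc i).symm⟩
    have hi' : i ∈ R ⊓ centralizer {s} ⊓ centralizer {w} ⊓ centralizer {i} :=
      ⟨⟨⟨hi, m.2 is⟩, m.2 iw⟩, m.2 rfl⟩
    rintro a (rfl | rfl | rfl | rfl | rfl)
    exacts [one_mem _, ht, hi', mul_mem hi' ht, ⟨⟨⟨hb.1, m.2 bs⟩, m.2 bw⟩, m.2 ib⟩]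
  have h1 := Set.ncard_le_ncard h2
  rw [Set.ncard_insert_of_notMem (by simp [K.t1.symm, i1.symm, hit.2.2.1.symm, hb.2.2.1.symm]),
    Set.ncard_insert_of_notMem (by simp [it.symm, i1, hb.2.2.2.symm]),
    Set.ncard_insert_of_notMem (by simp [K.t1, bi.symm]), Set.ncard_pair bt.symm,
    ← Nat.card_coe_set_eq] at h1
  have h0 := K.cardR
  change _ ≤ Nat.card ↥(R ⊓ centralizer {s} ⊓ centralizer {w} ⊓ centralizer {i}) at h1
  omega

/-- The generators of `R`. -/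
structure BK (t : H) (R : Subgroup H) (ψ : H →* A5) (i r s w : H) : Prop extends RRel i r s w where
  ii : i * i = t
  eqR : R = gen [i, r * i * r⁻¹, s, w]
  ρr : ψ r = ρ
  sN : s ∈ NN t R
  wN : w ∈ NN t R
  iR : i ∈ R
  sw' : s * w = t * w * s

theorem exists_bk (r3 : r * r * r = 1) (hr : ψ r = ρ) : ∃ i s w, BK t R ψ i r s w := by
  obtain ⟨s, hs, rs⟩ := K.exists_s r3
  obtain ⟨w, hw, w2, rw', sw⟩ := K.exists_w r3 hs rs
  obtain ⟨i, hi, i2, i3, si, wi⟩ := K.exists_i r3 (hr ▸ ρ3.2.2.1) hs rs hw rw' sw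
  have h : RRel i r s w := ⟨r3, by rw [mul_assoc, i2, K.t2], i3, by rw [mul_assoc r, i2, K.tc],
    hs.2.1, w2, si, wi, rs.symm, rw'.symm,
    by rw [sw, mul_assoc _ s s, hs.2.1, mul_one, mul_assoc, w2, mul_one, i2], i2 ▸ K.t1⟩
  refine ⟨i, s, w, h, i2, (eq_of_le_of_card_ge (gen_le ?_) ?_).symm, hr, hs,
    ⟨hw, w2, fun e => K.t1 (by simpa [e] using sw), fun e => K.t1 ?_⟩, hi, sw⟩
  · simp [hi, K.nR r i hi, hs.1, hw]
  · rw [K.cardR, MR_card_R h]
  · rw [e, K.tc, K.t2] at sw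
    simpa using sw

theorem cardC (B : BK t R ψ i r s w) : Nat.card (centralizer ({s} : Set H)) = 576 := by
  classical
  have h1 := S1019.card_pre s fun _ => True
  have e : Nat.card {y // IsConj s y ∧ True} = {y | IsConj s y}.ncard := by
    rw [← Nat.card_coe_set_eq]; simp only [and_true]; rfl
  rw [e, Nat.card_congr (Equiv.subtypeUnivEquiv fun _ => trivial), K.card] at h1
  have h2 : {y | IsConj s y} ⊆ NN t R := fun y hy => by
    obtain ⟨c, rfl⟩ := isConj_iff.1 hy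
    exact K.conjN c B.sN
  have h3 := K.ten h2 (fun x hx => IsConj.trans hx (isConj_iff.2 ⟨f, rfl⟩)) fun x hx => by
    obtain ⟨c, rfl⟩ := isConj_iff.1 hx
    refine isConj_iff.2 ⟨c * w, ?_⟩
    rw [mul_assoc c, K.ws B.sw', K.tc]
    simp only [mul_assoc, K.tm c]; group
  have h4 : NN t R ⊆ ([s, s * i * i, w, w * i * i, s * w * i, s * w * i⁻¹, s * w * r * i * r⁻¹,
      s * w * r * i⁻¹ * r⁻¹, s * w * r⁻¹ * i * r, s * w * r⁻¹ * i⁻¹ * r].toFinset : Set H) :=
    fun y hy => by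
    rcases A2.inv B.toRRel y (B.eqR ▸ hy.1) hy.2.1 with e | e | e
    · exact absurd e hy.2.2.1
    · exact absurd (e.trans B.ii) hy.2.2.2
    · simpa only [List.coe_toFinset, List.mem_cons, List.not_mem_nil, or_false, Set.mem_ofPred_eq]
        using e
  have h5 := Set.ncard_le_ncard (h2.trans h4)
  rw [Set.ncard_coe_finset] at h5
  have h6 := h5.trans (List.toFinset_card_le _)
  obtain ⟨k, hk⟩ := h3
  rw [hk] at h1 h6
  simp only [List.length_cons, List.length_nil] at h6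
  obtain rfl | rfl : k = 0 ∨ k = 1 := by omega
  all_goals omega

theorem nofix (B : BK t R ψ i r s w) (hr : h * r = r⁻¹ * h) (hs : h * s = s * h) : False := by
  classical
  have m : ∀ {a : H}, a ∈ centralizer ({s} : Set H) ↔ a * s = s * a :=
    mem_centralizer_singleton_iff
  have hC := K.cardC B
  have h1 := card_split ψ (centralizer {s})
  have h2 := card_split ψ ⊤
  rw [card_top, K.card, top_inf_eq, ← MonoidHom.range_eq_map, MonoidHom.range_eq_top.2 K.surj,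
    card_top, a5_card] at h2
  have h3 := two_le (inf_le_right (a := centralizer {s}) (b := ψ.ker)) (K.kerR B.wN.1) fun h =>
    K.t1 (by simpa [(m.1 h.1).symm, mul_assoc] using B.sw')
  have e : ψ h * ρ = ρ⁻¹ * ψ h := by rw [← B.ρr, ← map_mul, hr, map_mul, map_inv]
  have h4 := card_le_finset (A := (centralizer {s}).map ψ)
    (Finset.univ.filter fun g : A5 => g * ρ = ρ * g ∨ g * ρ = ρ⁻¹ * g) fun g hg => by
    refine Finset.mem_filter.2 ⟨Finset.mem_univ _, (max3 _ g e).resolve_right ?_⟩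
    rintro ⟨a, ha, a5, a1⟩
    have hρ : ρ ∈ (centralizer {s}).map ψ := ⟨r, m.2 B.sr.symm, B.ρr⟩
    have hη : ψ h ∈ (centralizer {s}).map ψ := ⟨h, m.2 hs, rfl⟩
    have ha' : a ∈ (centralizer {s}).map ψ := by
      simp only [List.mem_cons, List.not_mem_nil, or_false] at ha
      rcases ha with rfl | rfl | rfl | rfl | rfl | rfl
      exacts [one_mem _, hρ, inv_mem hρ, hη, mul_mem hρ hη, mul_mem (inv_mem hρ) hη]
    have := Fact.mk Nat.prime_five
    have h5 := (orderOf_dvd_natCard _ (mul_mem hg ha')).trans (Dvd.intro_left _ h1.symm)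
    rw [orderOf_eq_prime a5 a1, hC] at h5
    norm_num at h5
  rw [six] at h4
  have := Nat.mul_le_mul_left (Nat.card ↥(centralizer {s} ⊓ ψ.ker)) h4
  omega

theorem cj_cases (B : BK t R ψ i r s w) (hr : h * r = r⁻¹ * h) (hx : x ∈ NN t R)
    (xr : x * r = r * x) : h * x = s * h ∨ h * x = s * t * h ∨ h * x = w * h ∨ h * x = w * t * h := by
  have h1 := K.conjN h hx
  have h2 : h * x * h⁻¹ * r = r * (h * x * h⁻¹) := by
    have a : r = h * r⁻¹ * h⁻¹ := by
      rw [← conj_inv, hr, mul_inv_cancel_right, inv_inv]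
    rw [a, conj_mul, conj_mul, (show Commute x r from xr).inv_right.eq]
  rcases A2.invr B.toRRel _ (B.eqR ▸ h1.1) h2 h1.2.1 with e | e | e
  · exact absurd e h1.2.2.1
  · exact absurd (e.trans B.ii) h1.2.2.2
  · simpa only [mul_assoc _ i, B.ii, mul_inv_eq_iff_eq_mul] using e

theorem exists_h1 (B : BK t R ψ i r s w) (hr : h * r = r⁻¹ * h) :
    ∃ h, h * r = r⁻¹ * h ∧ h * s = w * h ∧ h * w = s * h := by
  have ml : ∀ {a h : H}, a * r = r * a → h * r = r⁻¹ * h → a * h * r = r⁻¹ * (a * h) :=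
    fun {a h} e hr => by
      rw [mul_assoc, hr, ← mul_assoc, (show Commute a r from e).inv_right.eq, mul_assoc]
  have wst : w * (s * t) = s * w := by rw [← mul_assoc, K.tc, B.sw', mul_assoc]
  have swt : s * (w * t) = w * s := by rw [← mul_assoc, K.tc, K.ws B.sw', mul_assoc]
  have nsw : s * w ≠ w * s := fun e => K.t1 (by simpa [e, mul_assoc] using B.sw')
  obtain ⟨h, hr, hs⟩ : ∃ h, h * r = r⁻¹ * h ∧ h * s = w * h := by
    rcases K.cj_cases B hr B.sN B.sr with e | e | e | e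
    · exact (K.nofix B hr e).elim
    · exact (K.nofix B (ml B.wr hr) (by rw [mul_assoc, e, ← mul_assoc, wst, mul_assoc])).elim
    · exact ⟨h, hr, e⟩
    · exact ⟨s * h, ml B.sr hr, by rw [mul_assoc, e, ← mul_assoc, swt, mul_assoc]⟩
  rcases K.cj_cases B hr B.wN B.wr with e | e | e | e
  · exact ⟨h, hr, hs, e⟩
  · exact ⟨w * h, ml B.wr hr, by rw [mul_assoc, hs],
      by rw [mul_assoc, e, ← mul_assoc, wst, mul_assoc]⟩
  · exact absurd (by rw [mul_left_cancel (e.trans hs.symm)]) nsw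
  · rw [mul_assoc, ← K.tc, ← mul_assoc, ← hs, mul_assoc] at e
    exact absurd (by rw [mul_left_cancel e, ← mul_assoc, mul_assoc s t, ← K.tc, mul_assoc]) nsw

theorem exists_h2 (B : BK t R ψ i r s w) (hr : h * r = r⁻¹ * h) (hs : h * s = w * h)
    (hw : h * w = s * h) :
    ∃ h, h * r = r⁻¹ * h ∧ h * s = w * h ∧ h * w = s * h ∧ h * i = i⁻¹ * h := by
  have a : r = h * r⁻¹ * h⁻¹ := by rw [← conj_inv, hr, mul_inv_cancel_right, inv_inv]
  have b : s = h * w * h⁻¹ := by rw [hw, mul_inv_cancel_right]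
  have c : w = h * s * h⁻¹ := by rw [hs, mul_inv_cancel_right]
  have cs : Commute r s := B.sr.symm
  have cw : Commute r w := B.wr.symm
  have key : ∀ k, Commute k r⁻¹ → Commute k s → Commute k w → k * (h * i * h⁻¹) * k⁻¹ = i⁻¹ →
      ∃ h, h * r = r⁻¹ * h ∧ h * s = w * h ∧ h * w = s * h ∧ h * i = i⁻¹ * h :=
    fun k k1 k2 k3 e => ⟨k * h, by rw [mul_assoc, hr, ← mul_assoc, k1.eq, mul_assoc],
      by rw [mul_assoc, hs, ← mul_assoc, k3.eq, mul_assoc],
      by rw [mul_assoc, hw, ← mul_assoc, k2.eq, mul_assoc], by rw [← e]; group⟩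
  rcases A2.hi B.toRRel (h * i * h⁻¹) (B.eqR ▸ K.nR h i B.iR)
    (by rw [b, conj_mul, conj_mul, B.wi]) (by rw [c, conj_mul, conj_mul, B.si])
    (by rw [conj_mul, B.ii, K.tc, mul_inv_cancel_right])
    (by rw [a]; simp only [conj_mul, B.ir]; simp) with e | e | e
  · exact key 1 (.one_left _) (.one_left _) (.one_left _) (by simpa using e)
  · exact key r⁻¹ (.refl _) cs.inv_left cw.inv_left (by rw [e]; group)
  · exact key r (Commute.refl r).inv_right cs cw (by rw [e]; group)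

theorem exists_h3 (B : BK t R ψ i r s w) (hr : h * r = r⁻¹ * h) (hs : h * s = w * h)
    (hw : h * w = s * h) (hi : h * i = i⁻¹ * h) :
    ∃ h, h * r = r⁻¹ * h ∧ h * s = w * h ∧ h * w = s * h ∧ h * i = i⁻¹ * h ∧
      (h * h = 1 ∨ h * h = t) := by
  have iv : ∀ {a : H}, h * a = a⁻¹ * h → Commute (h * h) a := fun {a} e => by
    have e' : h * a⁻¹ = a * h := by
      rw [← mul_inv_eq_iff_eq_mul, ← conj_inv, e, mul_inv_cancel_right, inv_inv]
    exact (by rw [mul_assoc, e, ← mul_assoc, e', mul_assoc] : h * h * a = a * (h * h))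
  have hc : ∀ x ∈ R, h * h * x = x * (h * h) := fun x hx => by
    have : gen [i, r * i * r⁻¹, s, w] ≤ centralizer {h * h} := gen_le (by
      simp only [List.forall_mem_cons, mem_centralizer_singleton_iff, List.not_mem_nil,
        IsEmpty.forall_iff, implies_true, and_true]
      exact ⟨(iv hi).symm, (((iv hr).mul_right (iv hi)).mul_right (iv hr).inv_right).symm,
        by rw [mul_assoc, hs, ← mul_assoc, ← mul_assoc, hw], by
        rw [mul_assoc, hw, ← mul_assoc, ← mul_assoc, hs]⟩)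
    exact (mem_centralizer_singleton_iff.1 (this (B.eqR ▸ hx))).symm
  obtain ⟨j, hj, x, hx, e⟩ := (K.ker _).1 (K.act _ hc)
  have hx' := K.Rcent x hx fun y hy => by
    have := hc y hy
    rw [e, mul_assoc, ← mul_assoc y, K.jc hj y, mul_assoc] at this
    exact mul_left_cancel this
  have ml : ∀ {a b : H}, h * a = b * h → h * j * a = b * (h * j) := fun {a b} e => by
    rw [mul_assoc, ← K.jc hj a, ← mul_assoc, e, mul_assoc]
  refine ⟨h * j, ml hr, ml hs, ml hw, ml hi, ?_⟩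
  rwa [mul_assoc, ← mul_assoc j, ← K.jc hj h, ← mul_assoc, ← mul_assoc, e, ← K.jc hj x, mul_assoc,
    mul_assoc, ← mul_assoc j, ← pow_three', K.j3 hj, mul_one]

theorem main : ∃ i r s w h, BK t R ψ i r s w ∧ h * r = r⁻¹ * h ∧ h * s = w * h ∧ h * w = s * h ∧
    h * i = i⁻¹ * h ∧ (h * h = 1 ∨ h * h = t) := by
  obtain ⟨r, h, r3, hρ, hr⟩ := K.exists_r
  obtain ⟨i, s, w, B⟩ := K.exists_bk r3 hρ
  obtain ⟨h, hr, hs, hw⟩ := K.exists_h1 B hr
  obtain ⟨h, hr, hs, hw, hi⟩ := K.exists_h2 B hr hs hw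
  obtain ⟨h, hh⟩ := K.exists_h3 B hr hs hw hi
  exact ⟨i, r, s, w, h, B, hh⟩

end AK

end A2

variable {G : Type u} [Group G] [Finite G]

theorem LA.exists_lb {z t f : G} {Q R : Subgroup G}
    {φ : centralizer ({z} : Set G) →* alternatingGroup (Fin 5)} (h : LA z t f Q R φ) :
    ∃ i r s w h0, LB z t f Q R φ i r s w h0 := by
  have m : ∀ {a b : G}, a ∈ centralizer ({b} : Set G) ↔ a * b = b * a :=
    mem_centralizer_singleton_iff
  let K : Subgroup G := centralizer ({z} : Set G) ⊓ centralizer {t}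
  have RK : R ≤ K := fun x hx => ⟨m.2 (h.Rz x hx), m.2 (h.Rt x hx)⟩
  let z' : K := ⟨z, m.2 rfl, m.2 (h.Rz t h.tR).symm⟩
  let t' : K := ⟨t, RK h.tR⟩
  have A : A2.AK z' t' ⟨f, m.2 h.fz, m.2 h.ft⟩ (R.subgroupOf K)
      (φ.comp (inclusion inf_le_left)) :=
    { z3 := Subtype.ext (h.z3 ▸ pow_orderOf_eq_one z : z ^ 3 = 1)
      zc := fun g => Subtype.ext (m.1 g.2.1)
      tc := fun g => Subtype.ext (m.1 g.2.2)
      t2 := Subtype.ext h.t2
      t1 := fun e => h.t1 (congrArg Subtype.val e)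
      tR := h.tR
      cardR := (Nat.card_congr (subgroupOfEquivOfLe RK).toEquiv).trans h.cardR
      Rcomm := fun x hx y hy => (h.Rcomm x hx y hy).imp Subtype.ext Subtype.ext
      Rsq := fun x hx => (h.Rsq x hx).imp Subtype.ext Subtype.ext
      Rcent := fun x hx hc => (h.Rcent x hx fun y hy =>
        congrArg Subtype.val (hc ⟨y, RK hy⟩ hy)).imp Subtype.ext Subtype.ext
      Rinv := by
        obtain ⟨x, hx, a, b, c⟩ := h.Rinv
        exact ⟨⟨x, RK hx⟩, hx, Subtype.ext a, fun e => b (congrArg Subtype.val e),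
          fun e => c (congrArg Subtype.val e)⟩
      nR := fun k x hx => h.nR k (m.1 k.2.1) (m.1 k.2.2) x hx
      surj := fun a => by
        obtain ⟨g, rfl⟩ := h.surj a
        obtain ⟨x, hx, k, k1, k2, e⟩ := h.dec g (m.1 g.2)
        refine ⟨⟨k, m.2 k1, m.2 k2⟩, ?_⟩
        have : g = ⟨x, m.2 (h.Qz x hx)⟩ * ⟨k, m.2 k1⟩ := Subtype.ext e
        rw [this, map_mul, h.kerQ _ hx, one_mul]; rfl
      ker := fun k => (h.ker ⟨k, k.2.1⟩ (m.1 k.2.2)).trans ⟨by
        rintro ⟨_, ⟨n, rfl⟩, x, hx, e⟩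
        exact ⟨z' ^ n, ⟨n, rfl⟩, ⟨x, RK hx⟩, hx, Subtype.ext e⟩, by
        rintro ⟨_, ⟨n, rfl⟩, x, hx, e⟩
        exact ⟨z ^ n, ⟨n, rfl⟩, x, hx, congrArg Subtype.val e⟩⟩
      act := fun k hk => h.act ⟨k, k.2.1⟩ (m.1 k.2.2) fun x hx => Or.inl
        (mul_inv_eq_iff_eq_mul.2 (congrArg Subtype.val (hk ⟨x, RK hx⟩ hx)))
      card := h.cardK
      f5 := Subtype.ext h.f5
      ffix := fun x hx e => (h.ffix x hx (congrArg Subtype.val e)).imp Subtype.ext Subtype.ext }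
  obtain ⟨i, r, s, w, k, B, hr, hs, hw, hi, hh⟩ := A.main
  have v := fun {a b : K} (e : a = b) => congrArg Subtype.val e
  have hR : RRel (i : G) r s w := ⟨v B.r3, v B.i4, v B.ir, v B.iir, v B.s2, v B.w2, v B.si, v B.wi,
    v B.sr, v B.wr, v B.sw, fun e => B.ne (Subtype.ext e)⟩
  refine ⟨i, r, s, w, k, h, hR, v B.ii, (eq_of_le_of_card_ge (gen_le ?_) ?_).symm, m.1 r.2.1,
    m.1 k.2.1, v hr, v hs, v hw, v hi, hh.imp v v, ?_⟩
  · simp only [List.forall_mem_cons, List.not_mem_nil, IsEmpty.forall_iff, implies_true, and_true]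
    exact ⟨B.iR, A.nR r i B.iR, B.sN.1, B.wN.1⟩
  · rw [h.cardR, MR_card_R hR]
  · rw [← A.cardC B, ← Nat.card_congr (subgroupOfEquivOfLe (inf_le_left (a := K)
      (b := centralizer {(s : G)}))).toEquiv]
    congr 2
    ext g
    rw [mem_subgroupOf, mem_inf, m, mem_centralizer_singleton_iff, Subtype.ext_iff]
    simp

end Cfsg.Lib.Co23
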