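import Cfsg.Agent.Co23.A3b

/-! Standard generators of `C(z)`. -/

set_option autoImplicit false
set_option linter.unusedSectionVars false

namespace Cfsg.Lib.Co23

open Subgroup Cfsg.Lib.Spor Cfsg.Lib.Spor.Bulk Cfsg.Lib.Spor.PK Cfsg.Lib.Spor.WF Cfsg.Lib.Trans
open Cfsg.Lib.L3

variable {G : Type*} [Group G] {z t f i r s w h q p a b c x g k u : G} {Q R : Subgroup G}

/-- The centraliser of `z`, `t` and `s`. -/
abbrev KS (z t s : G) : Subgroup G := centralizer {z} ⊓ centralizer {t} ⊓ centralizer {s}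

/-- The elements of `KS` centralising `⟨z, a, b⟩`. -/
abbrev NS (z t s a b : G) : Subgroup G := KS z t s ⊓ centralizer (gen [z, a, b] : Set G)

theorem mem_KS : k ∈ KS z t s ↔ k * z = z * k ∧ k * t = t * k ∧ k * s = s * k := by
  simp only [mem_inf, mem_centralizer_singleton_iff, and_assoc]

theorem mem_NS : k ∈ NS z t s a b ↔ k ∈ KS z t s ∧ k * a = a * k ∧ k * b = b * k := by
  rw [mem_inf, centralizer_closure, mem_centralizer_iff]
  refine and_congr_right fun hk => ?_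
  simp only [List.mem_cons, List.not_mem_nil, or_false, Set.mem_ofPred_eq, forall_eq_or_imp, forall_eq,
    (mem_KS.1 hk).1, true_and]
  exact and_congr eq_comm eq_comm

theorem A3.conj_NS (hn : ∀ k ∈ KS z t s, ∀ x ∈ gen [z, a, b], k * x * k⁻¹ ∈ gen [z, a, b])
    (hk : k ∈ KS z t s) (hg : g ∈ NS z t s a b) : k * g * k⁻¹ ∈ NS z t s a b :=
  ⟨(KS z t s).mul_mem (mul_mem hk hg.1) (inv_mem hk), fun x hx => by
    have := hg.2 _ (hn _ (inv_mem hk) x hx)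
    calc _ = k * (k⁻¹ * x * k⁻¹⁻¹ * g) * k⁻¹ := by group
      _ = _ := by rw [this]; group⟩

theorem A3.cube_eq (h3 : u ^ 3 = 1) :
    (a * u) ^ 3 = a * (u * a * u⁻¹) * (u * (u * a * u⁻¹) * u⁻¹) := by
  rw [← mul_one (_ * (u * (u * a * u⁻¹) * u⁻¹)), ← h3]
  simp only [pow_succ, pow_zero]; group

namespace LD

variable (H : LD z t Q i r s w h q p)
include H

theorem n1 : ∀ k ∈ KS z t s, ∀ x ∈ gen [z, q, p], k * x * k⁻¹ ∈ gen [z, q, p] := fun k hk x hx => by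
  rw [H.eq1] at hx ⊢
  exact ⟨H.nQ' (mem_KS.1 hk).1 hx.1,
    (centralizer {s}).mul_mem (mul_mem hk.2 hx.2) ((centralizer {s}).inv_mem hk.2)⟩

theorem n2 : ∀ k ∈ KS z t s, ∀ x ∈ gen [z, w * q * w⁻¹, w * p * w⁻¹],
    k * x * k⁻¹ ∈ gen [z, w * q * w⁻¹, w * p * w⁻¹] := fun k hk x hx => by
  rw [H.eq2] at hx ⊢
  have : k ∈ centralizer {s * t} := mem_centralizer_singleton_iff.2
    (Commute.mul_right (mem_KS.1 hk).2.2 (mem_KS.1 hk).2.1)
  exact ⟨H.nQ' (mem_KS.1 hk).1 hx.1, (centralizer {s * t}).mul_mem (mul_mem this hx.2) (inv_mem this)⟩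

theorem iK : i ∈ KS z t s := mem_KS.2 ⟨H.iz, H.it, H.si.symm⟩

theorem rK : r ∈ KS z t s := mem_KS.2 ⟨H.rz, H.rt, H.sr.symm⟩

theorem ww : w * (w * x * w⁻¹) * w⁻¹ = x := by
  calc _ = w * w * x * (w * w)⁻¹ := by group
    _ = x := by rw [H.w2]; group

theorem wK (hk : k ∈ KS z t s) : w * k * w⁻¹ ∈ KS z t s := by
  obtain ⟨h1, h2, h3⟩ := mem_KS.1 hk
  refine mem_KS.2 ⟨Commute.mul_left (Commute.mul_left H.wz h1) (Commute.inv_left H.wz),
    Commute.mul_left (Commute.mul_left H.wt h2) (Commute.inv_left H.wt), ?_⟩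
  rw [← H.ww (x := s), H.wsw, conj_mul, conj_mul, (Commute.mul_right h3 h2).eq]

variable [Finite G]

theorem cent (h1 : g ∈ NS z t s q p) (h2 : g ∈ NS z t s (w * q * w⁻¹) (w * p * w⁻¹)) :
    g ∈ zpowers z := H.centQ g fun x hx =>
  (mem_centralizer_singleton_iff.1 (gen_le (H := centralizer {g}) (by
    simp only [List.forall_mem_cons, mem_centralizer_singleton_iff]
    exact ⟨(mem_KS.1 h1.1).1.symm, (mem_NS.1 h1).2.1.symm, (mem_NS.1 h1).2.2.symm,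
      (mem_NS.1 h2).2.1.symm, (mem_NS.1 h2).2.2.symm, by simp⟩) (H.eqQ.ge hx))).symm

theorem f1 (hg : g ∈ KS z t s) (e : g * q = q * g) {n : ℕ} (h2 : g ^ 2 ^ n = 1) :
    g ∈ NS z t s q p :=
  mem_NS.2 ⟨hg, e, H.x1.fix_b (H.n1 g hg _ (mem_gen (by simp))) (mem_KS.1 hg).1 e h2
    fun x hx => H.cube x (H.eq1.le hx).1⟩

theorem f2 (hg : g ∈ KS z t s) (e : g * (w * q * w⁻¹) = w * q * w⁻¹ * g) {n : ℕ}
    (h2 : g ^ 2 ^ n = 1) : g ∈ NS z t s (w * q * w⁻¹) (w * p * w⁻¹) :=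
  mem_NS.2 ⟨hg, e, H.x2.fix_b (H.n2 g hg _ (mem_gen (by simp))) (mem_KS.1 hg).1 e h2
    fun x hx => H.cube x (H.eq2.le hx).1⟩

theorem exists_i1 : ∃ u, u ∈ NS z t s (w * q * w⁻¹) (w * p * w⁻¹) ∧ i⁻¹ * u ∈ NS z t s q p ∧
    u ^ 4 = 1 := by
  have i4 : i ^ 2 ^ 2 = 1 := by rw [← H.i4]; norm_num [pow_succ]
  obtain ⟨T, hT, hi⟩ := exists_isSylowIn_ge (pgroup_zpowers i4) (zpowers_le.2 H.iK)
  have two : ∀ g ∈ T, ∃ n, g ^ 2 ^ n = 1 := fun g hg =>
    (hT.isPGroup ⟨g, hg⟩).imp fun _ e => congrArg Subtype.val e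
  have one : ∀ g ∈ T, g ∈ zpowers z → g = 1 := fun g hg e => by
    obtain ⟨n, hn⟩ := two g hg
    exact A3.one_of (Nat.Coprime.pow_left n (by norm_num)) hn (H.cube g (H.zQ' e))
  let S := {x | (x ∈ Q ∧ x * s = s * x ∧ II t x) ∧ x ≠ 1}
  have q1 : q ≠ 1 := fun e => by
    have := H.x1.ba
    rw [e, mul_one, mul_one, right_eq_mul] at this
    exact H.z1 this
  have m : ∀ k ∈ KS z t s, k * q * k⁻¹ ∈ S := fun k hk =>
    have := H.eq1.le (H.n1 k hk q (mem_gen (by simp)))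
    ⟨⟨this.1, mem_centralizer_singleton_iff.1 this.2,
      (H.ii ▸ H.x1.II_a : II t q).conj (mem_KS.1 hk).2.1⟩, by simpa using q1⟩
  have e2 : ∀ {a b : G}, w * a * w⁻¹ * q * (w * a * w⁻¹)⁻¹ = w * b * w⁻¹ * q * (w * b * w⁻¹)⁻¹ →
      b⁻¹ * a * (w * q * w⁻¹) = w * q * w⁻¹ * (b⁻¹ * a) := fun {a b} e => by
    rw [← H.ww (x := q), conj_inv, conj_inv, conj_mul, conj_mul, conj_mul, conj_mul, mul_left_inj,
      mul_right_inj] at e
    calc _ = b⁻¹ * (a * (w * q * w⁻¹) * a⁻¹) * a := by group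
      _ = _ := by rw [e]; group
  obtain ⟨⟨u, hu⟩, e⟩ := (Function.Injective.bijective_of_nat_card_le
    (f := fun g : T => ((⟨_, m g (hT.le g.2)⟩, ⟨_, m _ (H.wK (hT.le g.2))⟩) : S × S))
    (fun a b e => by
      have hg := mul_mem (inv_mem b.2) a.2
      obtain ⟨n, hn⟩ := two _ hg
      have e1 : a.1 * q * a.1⁻¹ = b * q * b.1⁻¹ := congrArg (fun x : S × S => x.1.1) e
      refine Subtype.ext (inv_mul_eq_one.1 (one _ hg (H.cent (H.f1 (hT.le hg) ?_ hn)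
        (H.f2 (hT.le hg) (e2 (congrArg (fun x : S × S => x.2.1) e)) hn)))).symm
      calc _ = b.1⁻¹ * (a * q * a.1⁻¹) * a := by group
        _ = _ := by rw [e1]; group)
    (by
      have := card_mul_relIndex hT.le
      have h2 := hT.not_dvd
      rw [Nat.card_prod, Nat.card_coe_set_eq, H.cardI]
      rw [H.cardKs] at this
      have h3 : 2 ^ 6 ∣ Nat.card T := (Nat.Coprime.pow_left 6
        ((Nat.Prime.coprime_iff_not_dvd Nat.prime_two).2 h2)).dvd_of_dvd_mul_right (by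
          rw [this]; norm_num)
      exact Nat.le_of_dvd Nat.card_pos h3)).2 (⟨_, m i H.iK⟩, ⟨_, m _ (H.wK (one_mem _))⟩)
  have hiu := mul_mem (inv_mem (hi (mem_zpowers i))) hu
  obtain ⟨n, hn⟩ := two _ hu
  obtain ⟨n', hn'⟩ := two _ hiu
  have e1 : u * q * u⁻¹ = i * q * i⁻¹ := congrArg (fun x : S × S => x.1.1) e
  have h1 := H.f2 (hT.le hu) (by simpa using e2 (congrArg (fun x : S × S => x.2.1) e)) hn
  have h2 := H.f1 (hT.le hiu) (by
    calc _ = i⁻¹ * (u * q * u⁻¹) * u := by group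
      _ = _ := by rw [e1]; group) hn'
  refine ⟨u, h1, h2, one _ (pow_mem hu 4) (H.cent ?_ (pow_mem h1 4))⟩
  have c := fun k hk => A3.conj_NS H.n1 (k := k) hk h2
  have := mul_mem (mul_mem (mul_mem (c _ H.iK) (c _ (pow_mem H.iK 2))) (c _ (pow_mem H.iK 3))) h2
  convert this using 1
  calc _ = u * u * u * (i ^ 2 ^ 2)⁻¹ * u := by rw [i4]; simp only [pow_succ, pow_zero]; group
    _ = _ := by simp only [pow_succ, pow_zero]; group

theorem eq_of (ha : a ^ 4 = 1) (hb : b ^ 4 = 1) (bz : b * z = z * b) (h1 : b⁻¹ * a ∈ NS z t s q p)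
    (h2 : b⁻¹ * a ∈ NS z t s (w * q * w⁻¹) (w * p * w⁻¹)) : a = b := by
  have hj := H.cent h1 h2
  rw [← mul_inv_cancel_left b a, (show Commute b _ from A3.zc hj bz).mul_pow, hb, one_mul] at ha
  exact (inv_mul_eq_one.1 (A3.one_of (by norm_num) ha (H.cube _ (H.zQ' hj)))).symm

theorem comm_NS (ha : a ∈ NS z t s (w * q * w⁻¹) (w * p * w⁻¹)) (hb : b ∈ NS z t s q p)
    (b4 : b ^ 4 = 1) : a * b = b * a :=
  A3.cj_eq.1 (H.eq_of (by rw [conj_pow, b4]; simp) b4 (mem_KS.1 hb.1).1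
    (mul_mem (inv_mem hb) (A3.conj_NS H.n1 ha.1 hb)) (by
      simpa only [mul_assoc, inv_inv] using mul_mem (A3.conj_NS H.n2 (inv_mem hb.1) ha) (inv_mem ha)))

theorem w21 (ha : a ∈ NS z t s (w * q * w⁻¹) (w * p * w⁻¹)) : w * a * w⁻¹ ∈ NS z t s q p := by
  obtain ⟨h1, h2, h3⟩ := mem_NS.1 ha
  exact mem_NS.2 ⟨H.wK h1, by rw [← H.ww (x := q), conj_mul, conj_mul, h2],
    by rw [← H.ww (x := p), conj_mul, conj_mul, h3]⟩

theorem w12 (ha : a ∈ NS z t s q p) : w * a * w⁻¹ ∈ NS z t s (w * q * w⁻¹) (w * p * w⁻¹) := by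
  obtain ⟨h1, h2, h3⟩ := mem_NS.1 ha
  exact mem_NS.2 ⟨H.wK h1, by rw [conj_mul, conj_mul, h2], by rw [conj_mul, conj_mul, h3]⟩

theorem xu (h1 : u ∈ NS z t s (w * q * w⁻¹) (w * p * w⁻¹)) (h2 : i⁻¹ * u ∈ NS z t s q p)
    (h4 : u ^ 4 = 1) : XRel z q p u r ∧ u * u = s * t := by
  have X := H.x1
  have h3 := H.w21 h1
  have v4 : (w * u * w⁻¹) ^ 4 = 1 := by rw [conj_pow, h4]; simp
  have c := H.comm_NS h1 h3 v4
  have i4 : i ^ 4 = 1 := by rw [← H.i4]; simp only [pow_succ, pow_zero]; group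
  have e : u * (w * u * w⁻¹) = i := H.eq_of (by rw [Commute.mul_pow c, h4, v4, one_mul]) i4 H.iz
    (mul_assoc i⁻¹ u _ ▸ mul_mem h2 h3) (by
      have := mul_mem (H.w12 h2) h1
      rwa [← conj_mul, ← conj_inv, A3.cj_eq.2 H.wi, mul_assoc i⁻¹, ← c] at this)
  have sK : s ∈ NS z t s q p :=
    mem_NS.2 ⟨mem_KS.2 ⟨H.sz, H.st, rfl⟩, H.arel.sq1, H.arel.sp1⟩
  have e' : u * u = s * t := H.eq_of (by rw [Commute.mul_pow rfl, h4, one_mul])
    (by rw [show 4 = 2 * 2 from rfl, pow_mul, sq (s * t), H.st2, one_pow]) H.stz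
    (by
      have := mul_mem (mul_mem (inv_mem (A3.conj_NS H.n1 (inv_mem (mul_mem H.iK H.iK)) sK))
        (A3.conj_NS H.n1 (inv_mem H.iK) h2)) h2
      convert this using 1
      rw [← H.ii]; group)
    (mul_mem (inv_mem (mem_NS.2 ⟨mem_KS.2 ⟨H.stz, Commute.mul_left H.st rfl,
      Commute.mul_left rfl H.st.symm⟩, (H.m2 (by simp)).2.symm, (H.m2 (by simp)).2.symm⟩))
      (mul_mem h1 h1))
  have r3 : r⁻¹ ^ 3 = 1 := by rw [inv_pow, pow_three', H.r3, inv_one]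
  have ir : (i * r⁻¹) ^ 3 = 1 := by rw [← H.ir]; simp only [pow_succ, pow_zero]; group
  have rK := inv_mem H.rK
  have hj : (u * r⁻¹) ^ 3 ∈ zpowers z := H.cent (by
    have := A3.cube_mem (inv_mem h3) fun y => A3.conj_NS H.n1 (mul_mem H.iK rK)
    rwa [ir, inv_one, mul_one, ← e, c, mul_assoc _ u r⁻¹, inv_mul_cancel_left] at this) (by
    simpa [r3] using A3.cube_mem h1 fun y => A3.conj_NS H.n2 rK)
  have hj' : (w * u * w⁻¹ * r⁻¹) ^ 3 = (u * r⁻¹) ^ 3 := by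
    rw [← A3.cj_eq.2 (A3.zc hj H.wz), ← conj_pow, ← conj_mul, ← conj_inv, A3.cj_eq.2 H.wr]
  have k : (u * r⁻¹) ^ 3 = 1 := H.one_of_sq (H.zQ' hj) (by
    nth_rewrite 2 [← hj']
    generalize w * u * w⁻¹ = v at h3 v4 e
    have a1 := A3.conj_NS H.n2 rK h1
    have a2 := A3.conj_NS H.n2 rK a1
    have c1 := H.comm_NS a1 h3 v4
    have c2 := H.comm_NS a2 h3 v4
    have c3 := H.comm_NS a2 (A3.conj_NS H.n1 rK h3) (by rw [conj_pow, v4]; simp)
    rw [← ir, ← e, A3.cube_eq r3, A3.cube_eq r3, A3.cube_eq r3, ← conj_mul (a := u), ← conj_mul (c := r⁻¹ * v * r⁻¹⁻¹)]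
    generalize r⁻¹ * u * r⁻¹⁻¹ = a at c1 c2 c3 ⊢
    generalize r⁻¹ * v * r⁻¹⁻¹ = b at c3 ⊢
    generalize r⁻¹ * a * r⁻¹⁻¹ = a' at c2 c3 ⊢
    calc _ = u * a * (a' * v) * b * (r⁻¹ * b * r⁻¹⁻¹) := by group
      _ = u * (a * v) * (a' * b) * (r⁻¹ * b * r⁻¹⁻¹) := by rw [c2]; group
      _ = _ := by rw [c1, c3]; group)
  obtain ⟨-, k1, k2⟩ := mem_NS.1 h2
  refine ⟨{ X with
    i4 := by rw [← h4]; simp only [pow_succ, pow_zero]; group
    zi := (mem_KS.1 h1.1).1.symm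
    ia := by rw [← mul_inv_cancel_left i u, mul_assoc, k1, ← mul_assoc, X.ia, mul_assoc]
    ib := by rw [← mul_inv_cancel_left i u, mul_assoc, k2, ← mul_assoc, X.ib, mul_assoc]
    ir := by rw [← k]; simp only [pow_succ, pow_zero]; group
    iir := by rw [mul_assoc r, e']; exact Commute.mul_left H.sr H.rt.symm }, e'⟩

theorem decK (h1 : u ∈ NS z t s (w * q * w⁻¹) (w * p * w⁻¹)) (X : XRel z q p u r) (h4 : u ^ 4 = 1)
    (hk : k ∈ KS z t s) :
    ∃ a ∈ gen [u, r * u * r⁻¹], ∃ b ∈ gen [z, w * u * w⁻¹, r], k = a * b := by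
  have Y := H.map_x X
  have h3 := H.w21 h1
  have v4 : (w * u * w⁻¹) ^ 4 = 1 := by rw [conj_pow, h4]; simp
  have l1 : gen [u, r * u * r⁻¹] ≤ NS z t s (w * q * w⁻¹) (w * p * w⁻¹) :=
    gen_le (by simp only [List.forall_mem_cons]; exact ⟨h1, A3.conj_NS H.n2 H.rK h1, by simp⟩)
  have l2 : gen [z, w * u * w⁻¹, r] ≤ KS z t s := gen_le (by
    simp only [List.forall_mem_cons]
    exact ⟨mem_KS.2 ⟨rfl, H.tz.symm, H.sz.symm⟩, h3.1, H.rK, by simp⟩)
  have n : gen [z, w * u * w⁻¹, r] ≤ normalizer (gen [u, r * u * r⁻¹] : Set G) := gen_le (by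
    simp only [List.forall_mem_cons]
    refine ⟨mem_norm_gen fun x hx => ?_, mem_norm_gen fun x hx => ?_, mem_norm_gen ?_, by simp⟩
    · rw [← (mem_KS.1 (l1 (mem_gen hx)).1).1, mul_inv_cancel_right]; exact mem_gen hx
    · rw [← H.comm_NS (l1 (mem_gen hx)) h3 v4, mul_inv_cancel_right]; exact mem_gen hx
    · simp only [List.forall_mem_cons]
      exact ⟨mem_gen (by simp), by simpa only [mul_assoc] using A3.rK X, by simp⟩)
  have c := Local.CD.card_sup_mul_card_inf_of_le_normalizer n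
  have e : gen [z, w * u * w⁻¹, r] ⊓ gen [u, r * u * r⁻¹] = ⊥ := eq_bot_iff.2 fun y hy => by
    have h5 : y ^ 4 = 1 := by rw [← A3.K4 X y hy.2]; simp only [pow_succ, pow_zero]; group
    refine mem_bot.2 (A3.one_of (by norm_num) h5 (H.cube _ (H.zQ' ?_)))
    rcases A3.cU Y y hy.1 (mem_NS.1 (l1 hy.2)).2.1 (mem_NS.1 (l1 hy.2)).2.2 with e | e | e <;>
      simp [e]
  rw [e, card_bot, MX_card_U Y, MX_card_K X] at c
  have := (eq_of_le_of_card_ge (sup_le l2 (l1.trans inf_le_left)) (by rw [H.cardKs]; omega)).ge hk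
  rw [sup_comm, ← SetLike.mem_coe, coe_mul_of_right_le_normalizer_left _ _ n] at this
  obtain ⟨a, ha, b, hb, e⟩ := this
  exact ⟨a, ha, b, hb, e.symm⟩

theorem exists_ca : ∃ k u, CA z q (w * q * w⁻¹) r p (w * p * w⁻¹) s w k u (w * u * w⁻¹) := by
  obtain ⟨k, B⟩ := H.exists_brel
  obtain ⟨u, h1, h2, h4⟩ := H.exists_i1
  obtain ⟨X, uu⟩ := H.xu h1 h2 h4
  have h3 := H.w21 h1
  have m := @mem_centralizer_singleton_iff G _
  refine ⟨k, u, B, X, H.map_x X, (mem_NS.1 h1).2.1, (mem_NS.1 h1).2.2, (mem_NS.1 h3).2.1,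
    (mem_NS.1 h3).2.2, H.comm_NS h1 h3 (by rw [conj_pow, h4]; simp),
    by rw [conj_mul, uu, ← H.wsw, H.ww], by group, fun g gz gq => ?_, fun g gz gs => ?_,
    H.eqQ.symm ▸ H.nQ, ⟨le_top, IsPGroup.of_card (n := 6) (MA_card_S H.arel), fun e => H.syl ?_⟩,
    H.eqQ.symm ▸ H.five, H.nwc⟩
  · obtain ⟨x, hx, c, cz, ct, rfl⟩ := H.dec g gz
    have hq := (H.m1 (x := q) (by simp)).1
    have qI : II t q := H.ii ▸ H.x1.II_a
    have e1 : c * q * c⁻¹ = q * (q⁻¹ * x⁻¹ * q⁻¹⁻¹ * x⁻¹⁻¹) := by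
      calc _ = x⁻¹ * (x * c * q) * c⁻¹ := by group
        _ = _ := by rw [gq]; group
    have e2 := H.uniqI hq qI (H.comm _ (inv_mem hq) _ (inv_mem hx)) (e1 ▸ qI.conj ct)
    rw [e2, mul_one, A3.cj_eq] at e1
    have e3 : x * q = q * x := by
      rwa [mul_assoc, e1, ← mul_assoc, ← mul_assoc, mul_left_inj] at gq
    have e4 : c * s * c⁻¹ * q = q * (c * s * c⁻¹) :=
      Commute.mul_left (Commute.mul_left e1 B.sq1) (Commute.inv_left e1)
    obtain ⟨d, hd, e5⟩ := A3.decR H.toRRel _ (H.nR c cz ct)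
    have dK : d ∈ KS z t s := gen_le (by
      simp only [List.forall_mem_cons]
      exact ⟨H.iK, mul_mem (mul_mem H.rK H.iK) (inv_mem H.rK), by simp⟩) hd
    have nw : w * d * q ≠ q * (w * d) := fun e => by
      have k1 := m.1 (H.eq1.le (H.n1 d dK q (mem_gen (by simp)))).2
      have k2 : d * q * d⁻¹ = w * q * w⁻¹ := by
        rw [← H.ww (x := d * q * d⁻¹)]
        congr 2
        calc _ = w * d * q * (w * d)⁻¹ := by group
          _ = q := by rw [e]; group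
      rw [k2, B.sq2, mul_left_inj] at k1
      have := B.pq2
      rw [H.one_of_sq (H.m2 (x := w * q * w⁻¹) (by simp)).1 (mul_eq_one_iff_eq_inv.2 k1), mul_one,
        mul_one, right_eq_mul] at this
      exact H.z1 this
    have sc : ∀ {y}, s * y * q = q * (s * y) → y * q = q * y := fun {y} e => by
      rwa [← mul_assoc, ← B.sq1, mul_assoc, mul_assoc, mul_right_inj] at e
    have e6 : c * s * c⁻¹ = s := by
      rcases e5 with e5 | e5 | e5 | e5 <;> rw [e5] at e4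
      · rw [A3.cK H.x1 d hd e4, conj_eq_one_iff] at e5
        have := H.sw
        rw [e5, one_mul, mul_one, H.w2] at this
        exact absurd this.symm H.ne
      · rw [e5, A3.cK H.x1 d hd (sc e4), mul_one]
      · exact absurd e4 nw
      · exact absurd (sc (mul_assoc s w d ▸ e4)) nw
    obtain ⟨a, ha, b, hb, rfl⟩ := H.decK h1 X h4 (mem_KS.2 ⟨cz, ct, A3.cj_eq.1 e6⟩)
    have bq : b * q = q * b := m.1 (gen_le (H := centralizer {q})
      (by simp only [List.forall_mem_cons, m]; exact ⟨X.za, (mem_NS.1 h3).2.1, X.ra, by simp⟩) hb)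
    rw [A3.cK X a ha (by rwa [mul_assoc, bq, ← mul_assoc, ← mul_assoc, mul_left_inj] at e1), one_mul]
    exact mul_mem (gen_le (fun y hy => mem_gen (by simp at hy ⊢; tauto))
      (A3.cq H.arel x (H.eqQ.ge hx) e3)) (gen_le (fun y hy => mem_gen (by simp at hy ⊢; tauto)) hb)
  · obtain ⟨x, hx, c, cz, ct, rfl⟩ := H.dec g gz
    have e1 : c * s * c⁻¹ * s⁻¹ = x⁻¹ * (s * x * s⁻¹) := by
      calc _ = x⁻¹ * (x * c * s) * c⁻¹ * s⁻¹ := by group
        _ = _ := by rw [gs]; group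
    have e2 := A3.one_of (by norm_num)
      (H.R4 _ (mul_mem (H.nR c cz ct) (inv_mem (mem_gen (x := s) (by simp)))))
      (H.cube _ (e1 ▸ mul_mem (inv_mem hx) (H.nQ' H.sz hx)))
    rw [e2, eq_comm, inv_mul_eq_one, eq_comm, A3.cj_eq] at e1
    obtain ⟨a, ha, b, hb, rfl⟩ := H.decK h1 X h4
      (mem_KS.2 ⟨cz, ct, A3.cj_eq.1 (mul_inv_eq_one.1 e2)⟩)
    have mu : u ∈ gen [z, q, p, u, r, w * u * w⁻¹] := mem_gen (by simp)
    have mr : r ∈ gen [z, q, p, u, r, w * u * w⁻¹] := mem_gen (by simp)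
    refine mul_mem (gen_le (fun y hy => mem_gen (by simp at hy ⊢; tauto))
      (H.eq1.ge ⟨hx, m.2 e1.symm⟩)) (mul_mem (gen_le ?_ ha)
        (gen_le (fun y hy => mem_gen (by simp at hy ⊢; tauto)) hb))
    simp only [List.forall_mem_cons]
    exact ⟨mu, mul_mem (mul_mem mr mu) (inv_mem mr), by simp⟩
  · rw [← card_top, ← card_mul_relIndex (le_top (a := gen [z, q, p, w * q * w⁻¹, w * p * w⁻¹, r])),
      MA_card_S H.arel]
    exact Nat.mul_dvd_mul_left 729 e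

end LD

theorem LB.exists_ca [Finite G] {h0 : G} {φ : centralizer ({z} : Set G) →* alternatingGroup (Fin 5)}
    (h : LB z t f Q R φ i r s w h0) :
    ∃ z' q1 q2 p1 p2 h1 i1 i2 : G, CA z' q1 q2 r p1 p2 s w h1 i1 i2 := by
  obtain ⟨z', q, p, H⟩ := h.lc.exists_ld
  obtain ⟨k, u, H⟩ := H.exists_ca
  exact ⟨_, _, _, _, _, _, _, _, H⟩

end Cfsg.Lib.Co23
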