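import Cfsg.Agent.Co23.FactB1

/-! Fusion in `J = 3⁴`. -/

set_option autoImplicit false
set_option linter.unusedSectionVars false

namespace Cfsg.Lib.Co23

open Subgroup Cfsg.Lib.Spor Cfsg.Lib.Spor.Bulk Cfsg.Lib.Spor.PK Cfsg.Lib.Spor.WF Cfsg.Lib.Trans
open Cfsg.Lib.L3 (mem_gen gen_le cube_cases mem_norm_gen norm_le_norm_cent exists_conj_mem)
open scoped Pointwise commutatorElement

universe u

variable {G : Type u} [Group G] [Finite G] {z q1 q2 r p1 p2 s w h0 i1 i2 : G}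

namespace B1

theorem gen_comm {l l' : List G} (h : ∀ a ∈ l, ∀ b ∈ l', a * b = b * a) :
    ∀ x ∈ gen l, ∀ y ∈ gen l', x * y = y * x := fun x hx y hy =>
  (gen_le (H := centralizer (gen l' : Set G))
    (fun a ha => by rw [centralizer_closure]; exact fun b hb => (h a ha b hb).symm) hx y hy).symm

theorem gen_comm1 {l : List G} {y : G} (h : ∀ a ∈ l, a * y = y * a) : ∀ x ∈ gen l, x * y = y * x :=
  fun _ hx => mem_centralizer_singleton_iff.1
    (gen_le (fun a ha => mem_centralizer_singleton_iff.2 (h a ha)) hx)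

theorem gen_mono {l l' : List G} (h : ∀ a ∈ l, a ∈ l') : gen l ≤ gen l' :=
  gen_le fun a ha => mem_gen (h a ha)

theorem split {H : Subgroup G} {x c : G} (hc : c ∈ normalizer (H : Set G))
    (hx : x ∈ H ⊔ zpowers c) : ∃ y ∈ H, ∃ d ∈ zpowers c, x = y * d := by
  have : x ∈ (H : Set G) * (zpowers c : Set G) := by
    rw [← coe_mul_of_right_le_normalizer_left _ _ (zpowers_le.2 hc)]; exact hx
  obtain ⟨y, hy, d, hd, rfl⟩ := this
  exact ⟨y, hy, d, hd, rfl⟩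

theorem cos3 {l : List G} {x c : G} (hc : c ∈ normalizer (gen l : Set G)) (h3 : c * c * c = 1)
    (hx : x ∈ gen (l ++ [c])) : x ∈ gen l ∨ x * c⁻¹ ∈ gen l ∨ x * c ∈ gen l := by
  obtain ⟨y, hy, d, hd, rfl⟩ := split hc (gen_le (fun a ha => (List.mem_append.1 ha).elim
    (fun e => mem_sup_left (mem_gen e)) fun e => mem_sup_right
      (List.mem_singleton.1 e ▸ mem_zpowers c)) hx)
  rcases cube_cases (by rw [pow_three', h3]) hd with rfl | rfl | rfl <;> simp [hy]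

theorem zp {x : G} (h : x = 1 ∨ x = z ∨ x = z⁻¹) : x ∈ zpowers z := by
  rcases h with rfl | rfl | rfl <;> simp

theorem comm_zp {g x : G} (h : g * z = z * g) (hx : x ∈ zpowers z) : g * x = x * g := by
  obtain ⟨k, rfl⟩ := hx
  exact Commute.zpow_right h k

theorem conj_of {c x y : G} (h : c * x = y * c) : IsConj x y :=
  isConj_iff.2 ⟨c, mul_inv_eq_iff_eq_mul.2 h⟩

theorem conj_inv' {x y : G} (h : IsConj x y) : IsConj x⁻¹ y⁻¹ :=
  let ⟨c, e⟩ := isConj_iff.1 h; isConj_iff.2 ⟨c, by rw [← e]; group⟩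

set_option hygiene false in
local notation "𝐐" => gen [z, q1, p1, q2, p2]
set_option hygiene false in
local notation "𝐒" => gen [z, q1, p1, q2, p2, r]
set_option hygiene false in
local notation "𝐉" => gen [z, q1, q2, r]
set_option hygiene false in
local notation "𝐀" => gen [z, q1, q2]

section A

variable (h : ARel z q1 q2 r p1 p2 s w)
include h

theorem Sz : ∀ x ∈ 𝐒, x * z = z * x :=
  gen_comm1 (by simp [h.zq1, h.zq2, h.zp1, h.zp2, h.zr])

omit h in
theorem QS : 𝐐 ≤ 𝐒 := gen_mono (by simp)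

omit h in
theorem JS : 𝐉 ≤ 𝐒 := gen_mono (by simp)

omit h in
theorem AQ : 𝐀 ≤ 𝐐 := gen_mono (by simp)

omit h in
theorem AJ : 𝐀 ≤ 𝐉 := gen_mono (by simp)

omit h in
theorem rJ : r ∈ 𝐉 := mem_gen (by simp)

theorem Jc : ∀ x ∈ 𝐉, ∀ y ∈ 𝐉, x * y = y * x :=
  gen_comm (by simp [h.zq1, h.zq2, h.zr, h.q12, h.rq1, h.rq2])

theorem J3 {x : G} (hx : x ∈ 𝐉) : x ^ 3 = 1 := by
  induction hx using closure_induction with
  | mem x hx =>
    have : ∀ a ∈ [z, q1, q2, r], a ^ 3 = 1 := by simp [pow_three', h.z3, h.q13, h.q23, h.r3]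
    exact this x hx
  | one => simp
  | mul x y a b c d => rw [Commute.mul_pow (Jc h x a y b), c, d, mul_one]
  | inv x _ a => rw [inv_pow, a, inv_one]

theorem z3 : z ^ 3 = 1 := by rw [pow_three', h.z3]

theorem cmA {y a : G} (hy : y ∈ 𝐐) (ha : a ∈ 𝐀) : ⁅y, a⁆ ∈ zpowers z := by
  obtain ⟨e1, e2, e3⟩ := b1_cm h y hy
  have e : ∀ b, y * b * y * y * b⁻¹ = ⁅y, b⁆ := fun b => by
    rw [commutatorElement_def, ← eq_inv_of_mul_eq_one_left e3, mul_assoc (y * b)]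
  induction ha using closure_induction with
  | mem x hx =>
    have : ∀ a ∈ [z, q1, q2], ⁅y, a⁆ ∈ zpowers z := by
      simp only [List.forall_mem_cons, ← e]
      refine ⟨?_, zp e1, zp e2, by simp⟩
      rw [e, commutatorElement_eq_one_iff_mul_comm.2 (Sz h y (QS hy))]
      exact one_mem _
    exact this x hx
  | one => simp
  | mul a b ha _ c d =>
    rw [show ⁅y, a * b⁆ = ⁅y, a⁆ * (a * ⁅y, b⁆ * a⁻¹) by simp only [commutatorElement_def]; group,
      comm_zp (Sz h a (QS (AQ ha))) d, mul_inv_cancel_right]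
    exact mul_mem c d
  | inv a ha c =>
    rw [show ⁅y, a⁻¹⁆ = (a⁻¹ * (⁅y, a⁆ * a))⁻¹ by simp only [commutatorElement_def]; group,
      ← comm_zp (Sz h a (QS (AQ ha))) c, inv_mul_cancel_left]
    exact inv_mem c

theorem J_cases {x : G} (hx : x ∈ 𝐉) : x ∈ 𝐀 ∨ x * r⁻¹ ∈ 𝐀 ∨ x * r ∈ 𝐀 :=
  cos3 (centralizer_le_normalizer _ fun a ha => Jc h a (AJ ha) r rJ) h.r3 hx

theorem cQ {x y : G} (hx : x * r⁻¹ ∈ 𝐀) (hy : y ∈ 𝐐) (e : x * y = y * x) : y ∈ 𝐀 := by
  have k : y * r = ⁅y, (x * r⁻¹)⁻¹⁆ * r * y := by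
    calc y * r = y * r * x⁻¹ * y⁻¹ * (y * x) := by group
      _ = _ := by rw [← e, commutatorElement_def]; group
  refine b1_cs h y hy ?_
  rcases cube_cases (z3 h) (cmA h hy (inv_mem hx)) with a | a | a <;> rw [a] at k
  · exact .inl (by simpa using k)
  · exact .inr (.inl k)
  · exact .inr (.inr k)

end A

variable (h : CA z q1 q2 r p1 p2 s w h0 i1 i2)
include h

theorem nQ {g x : G} (hg : g * z = z * g) (hx : x ∈ 𝐐) : g * x * g⁻¹ ∈ 𝐐 :=
  h.nQ g (by rw [hg]; simp) x hx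

theorem S_cases {x : G} (hx : x ∈ 𝐒) : x ∈ 𝐐 ∨ x * r⁻¹ ∈ 𝐐 ∨ x * r ∈ 𝐐 :=
  cos3 (mem_normalizer_fintype fun _ ha => nQ h h.zr.symm ha) h.r3 hx

theorem three {x : G} (hx : x ∈ 𝐒) (h3 : x ^ 3 = 1) : x ∈ 𝐐 ∨ x ∈ 𝐉 := by
  refine (S_cases h hx).imp_right fun e => e.elim (fun e => ?_) fun e => ?_
  · exact (mul_mem_cancel_right (inv_mem rJ)).1
      (AJ (b1_three h.toARel _ e (.inl (by simpa [mul_assoc, pow_three] using h3))))
  · exact (mul_mem_cancel_right rJ).1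
      (AJ (b1_three h.toARel _ e (.inr (by simpa [mul_assoc, pow_three] using h3))))

theorem cS {x y : G} (hx : x ∈ 𝐉) (hQ : x ∉ 𝐐) (hy : y ∈ 𝐒) (e : x * y = y * x) : y ∈ 𝐉 := by
  have k : ∀ y ∈ 𝐐, x * y = y * x → y ∈ 𝐉 := fun y hy e => by
    rcases J_cases h.toARel hx with a | a | a
    · exact absurd (AQ a) hQ
    · exact AJ (cQ h.toARel a hy e)
    · exact AJ (cQ h.toARel (x := x⁻¹)
        (by rw [← mul_inv_rev, ← Jc h.toARel x hx r rJ]; exact inv_mem a) hy (Commute.inv_left e))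
  have c : Commute x r := Jc h.toARel x hx r rJ
  rcases S_cases h hy with a | a | a
  · exact k y a e
  · exact (mul_mem_cancel_right (inv_mem rJ)).1 (k _ a (Commute.mul_right e c.inv_right))
  · exact (mul_mem_cancel_right rJ).1 (k _ a (Commute.mul_right e c))

theorem cent_B {a b i a' b' : G} (x : XRel z a' b' i2 r ∨ XRel z a' b' i1 r)
    (k : ∀ c ∈ [z, a, b, i], ∀ d ∈ [z, a', b'], c * d = d * c) :
    ∀ c ∈ gen [z, a, b, i, r * i * r⁻¹], ∀ d ∈ gen [z, a', b'], c * d = d * c := by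
  have k1 : ∀ c ∈ [z, a, b, i], c ∈ centralizer (gen [z, a', b'] : Set G) := fun c hc d hd =>
    (gen_comm k c (mem_gen hc) d hd).symm
  have e : z * r = r * z ∧ r * a' = a' * r ∧ r * b' = b' * a' * z * r := by
    rcases x with x | x <;> exact ⟨x.zr, x.ra, x.rb⟩
  have k2 : r ∈ normalizer (gen [z, a', b'] : Set G) := mem_norm_gen (by
    simp only [List.forall_mem_cons, ← e.1, e.2.1, e.2.2, mul_inv_cancel_right]
    exact ⟨mem_gen (by simp), mem_gen (by simp),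
      mul_mem (mul_mem (mem_gen (by simp)) (mem_gen (by simp))) (mem_gen (by simp)), by simp⟩)
  refine fun c hc d hd => (gen_le (H := centralizer (gen [z, a', b'] : Set G)) ?_ hc d hd).symm
  simp only [List.forall_mem_cons] at k1 ⊢
  exact ⟨k1.1, k1.2.1, k1.2.2.1, k1.2.2.2.1,
    (mem_normalizer_iff.1 (norm_le_norm_cent _ k2) i).1 k1.2.2.2.1, by simp⟩

theorem trQ {x : G} (hx : x ∈ 𝐐) (hz : x ∉ zpowers z) : ∃ c, c * z = z * c ∧ c * q1 = x * c := by
  have c12 := cent_B h (a := q1) (b := p1) (i := i1) (.inl h.x2)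
    (by simp [h.zq1, h.zq2, h.zp1, h.zp2, h.q12, h.p2q1, h.p1q2, h.p12, h.x1.zi, h.i1q2, h.i1p2])
  have c21 := cent_B h (a := q2) (b := p2) (i := i2) (.inr h.x1)
    (by simp [h.zq1, h.zq2, h.zp1, h.zp2, h.q12, h.p2q1, h.p1q2, h.p12, h.x2.zi, h.i2q1, h.i2p1])
  have m1 : z ∈ gen [z, q1, p1] := mem_gen (by simp)
  have m2 : z ∈ gen [z, q2, p2] := mem_gen (by simp)
  obtain ⟨a, ha, b, hb, rfl⟩ : x ∈ (gen [z, q1, p1] : Set G) * (gen [z, q2, p2] : Set G) := by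
    rw [← coe_mul_of_right_le_normalizer_left _ _ fun b hb => centralizer_le_normalizer _
      fun a ha => (c21 b (gen_mono (by simp) hb) a ha).symm]
    refine gen_le (H := gen [z, q1, p1] ⊔ gen [z, q2, p2]) ?_ hx
    simp only [List.forall_mem_cons]
    exact ⟨mem_sup_left m1, mem_sup_left (mem_gen (by simp)), mem_sup_left (mem_gen (by simp)),
      mem_sup_right (mem_gen (by simp)), mem_sup_right (mem_gen (by simp)), by simp⟩
  change a * b ∉ _ at hz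
  change ∃ c, c * z = z * c ∧ c * q1 = a * b * c
  rcases b1_tr h.x2 b hb with eb | ⟨c2, hc2, e2⟩
  · obtain ⟨c, hc, e⟩ := (b1_tr h.x1 _ (mul_mem ha (zpowers_le.2 m1 (zp eb)))).resolve_left
      fun e => hz (zp e)
    exact ⟨c, c12 c hc z m2, e⟩
  rcases b1_tr h.x1 a ha with ea | ⟨c1, hc1, e1⟩
  · obtain ⟨c, hc, e⟩ := (b1_tr h.x2 _ (mul_mem (zpowers_le.2 m2 (zp ea)) hb)).resolve_left
      fun e => hz (zp e)
    exact ⟨c * w, Commute.mul_left (c21 c hc z m1) h.wz, by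
      rw [mul_assoc, h.wq1, ← mul_assoc, e, mul_assoc _ c]⟩
  · refine ⟨c1 * c2 * h0, Commute.mul_left (Commute.mul_left (c12 c1 hc1 z m2) (c21 c2 hc2 z m1))
      h.hz, ?_⟩
    calc c1 * c2 * h0 * q1 = c1 * (c2 * q1) * q2 * h0 := by rw [mul_assoc _ h0, h.hq1]; group
      _ = c1 * q1 * (c2 * q2) * h0 := by rw [c21 c2 hc2 q1 (mem_gen (by simp))]; group
      _ = a * (c1 * b) * c2 * h0 := by rw [e1, e2]; group
      _ = _ := by rw [c12 c1 hc1 b hb]; group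

theorem trQ' {x : G} (hx : x ∈ 𝐐) (hz : x ∉ zpowers z) : IsConj q1 x :=
  let ⟨_, _, e⟩ := trQ h hx hz; conj_of e

theorem sylC : IsSylowIn 3 𝐒 (centralizer {z}) :=
  h.syl.mono (fun x hx => mem_centralizer_singleton_iff.2 (Sz h.toARel x hx)) le_top

theorem nc : p2 * q2 ≠ q2 * p2 := fun e =>
  h.ne (mul_right_cancel (b := q2 * p2) (by rw [← mul_assoc, ← h.pq2, e, one_mul]))

theorem nzq : ¬ IsConj z q1 := fun hc => by
  have : Fact (Nat.Prime 3) := ⟨Nat.prime_three⟩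
  obtain ⟨g, hg⟩ := isConj_iff.1 hc
  have ES : gen [z, q1, q2, p2] ≤ 𝐒 := gen_mono (by simp)
  have Eq : ∀ y ∈ gen [z, q1, q2, p2], y * q1 = q1 * y := gen_comm1 (by simp [h.zq1, h.q12, h.p2q1])
  obtain ⟨c, hc, le⟩ := (sylC h).exists_cj_le (Q := cj g⁻¹ (gen [z, q1, q2, p2]))
    (isPGroup_cj (h.syl.isPGroup.to_le ES) _) (cj_le_iff.2 fun y hy =>
      mem_centralizer_singleton_iff.2 (by
        rw [show z = g⁻¹ * q1 * g⁻¹⁻¹ by rw [← hg]; group, conj_mul, conj_mul, Eq y hy]))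
  replace hc := mem_centralizer_singleton_iff.1 hc
  rw [cj_cj] at le
  have m := fun y (hy : y ∈ [z, q1, q2, p2]) => cj_le_iff.1 le y (mem_gen hy)
  have x3 : (c * g⁻¹ * z * (c * g⁻¹)⁻¹) ^ 3 = 1 := by rw [conj_pow, z3 h.toARel]; simp
  have xQ : c * g⁻¹ * z * (c * g⁻¹)⁻¹ ∈ 𝐐 := by
    by_contra hn
    have xJ := (three h (m z (by simp)) x3).resolve_left hn
    have a := cS h xJ hn (m p2 (by simp)) (by rw [conj_mul, conj_mul, h.zp2])
    have b := cS h xJ hn (m q2 (by simp)) (by rw [conj_mul, conj_mul, h.zq2])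
    have := Jc h.toARel _ a _ b
    rw [conj_mul, conj_mul] at this
    exact nc h (by simpa using this)
  have xZ : c * g⁻¹ * z * (c * g⁻¹)⁻¹ ∉ zpowers z := fun e => by
    have e1 : c * g⁻¹ * q1 * (c * g⁻¹)⁻¹ = z := by
      rw [← hg]
      calc _ = c * z * c⁻¹ := by group
        _ = z := by rw [hc]; group
    obtain ⟨k, hk⟩ := e
    refine (b1_ne h.toARel).2.2.1 (cube_cases (by rw [pow_three', h.q13]) ⟨k, ?_⟩)
    have : c * g⁻¹ * q1 ^ k * (c * g⁻¹)⁻¹ = c * g⁻¹ * z * (c * g⁻¹)⁻¹ := by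
      rw [← conj_zpow, e1]; exact hk
    simpa using this
  obtain ⟨d, hd, e⟩ := trQ h xQ xZ
  obtain ⟨k, k1, k2⟩ : ∃ k, k * z * k⁻¹ = q1 ∧ k * q1 * k⁻¹ = z := by
    refine ⟨g * c⁻¹ * d, ?_, ?_⟩
    · calc _ = g * (c⁻¹ * (d * z * d⁻¹) * c) * g⁻¹ := by group
        _ = q1 := by rw [hd, mul_inv_cancel_right, mul_assoc c⁻¹, ← hc, inv_mul_cancel_left, hg]
    · calc _ = g * c⁻¹ * (d * q1) * d⁻¹ * c * g⁻¹ := by group
        _ = z := by rw [e]; group
  have qX : ∀ y ∈ gen [z, q2, p2, i2, r], y * q1 = q1 * y :=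
    gen_comm1 (by simp [h.zq1, h.q12, h.p2q1, h.i2q1, h.rq1])
  have dec : ∀ y, y * z = z * y → y * q1 = q1 * y → ∃ x ∈ gen [z, q2, p2, i2, r],
      ∃ a ∈ zpowers q1, k * y * k⁻¹ = x * a := fun y a b =>
    split (centralizer_le_normalizer _ qX) (gen_le (by
      simp only [List.forall_mem_cons]
      exact ⟨mem_sup_left (mem_gen (by simp)), mem_sup_right (mem_zpowers _),
        mem_sup_left (mem_gen (by simp)), mem_sup_left (mem_gen (by simp)),
        mem_sup_left (mem_gen (by simp)), mem_sup_left (mem_gen (by simp)), by simp⟩)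
      (h.cz1 _ (by rw [← k2, conj_mul, conj_mul, b]) (by rw [← k1, conj_mul, conj_mul, a])))
  obtain ⟨x, hx, a, ha, e1⟩ := dec p2 h.zp2.symm h.p2q1
  obtain ⟨y, hy, b, hb, e2⟩ := dec q2 h.zq2.symm h.q12.symm
  have qm : q1 ∈ gen [z, q2, p2, i2, r] := by
    have e3 : q1 * (y * b) * (x * a) = x * a * (y * b) := by
      rw [← e1, ← e2, ← k1, conj_mul, conj_mul, conj_mul, h.pq2]
    have c1 := comm_zp (qX x hx) hb
    have c2 := comm_zp (qX y hy) ha
    have c3 : a * b = b * a := comm_zp (comm_zp rfl ha).symm hb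
    have : q1 = x * y * x⁻¹ * y⁻¹ := by
      calc q1 = q1 * (y * b) * (x * a) * (y * (b * x) * a)⁻¹ := by group
        _ = x * (a * y) * b * (y * x * (b * a))⁻¹ := by rw [e3, ← c1]; group
        _ = _ := by rw [← c2, ← c3]; group
    rw [this]
    exact mul_mem (mul_mem (mul_mem hx hy) (inv_mem hx)) (inv_mem hy)
  exact (b1_ne h.toARel).2.2.2.1 (b1_cen h.x2 q1 qm h.q12 h.p2q1.symm)

theorem nzQ {x : G} (hx : x ∈ 𝐐) (hz : x ∉ zpowers z) : ¬ IsConj z x ∧ ¬ IsConj z⁻¹ x := by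
  refine ⟨fun e => nzq h (e.trans (trQ' h hx hz).symm), fun e => nzq h ?_⟩
  have := conj_inv' e
  rw [inv_inv] at this
  exact this.trans (trQ' h (inv_mem hx) (by simpa using hz)).symm

theorem uniqJ {K : Subgroup G} (hK : K ≤ 𝐒) (hc : ∀ x ∈ K, ∀ y ∈ K, x * y = y * x)
    (h3 : ∀ x ∈ K, x ^ 3 = 1) (hn : Nat.card K = 81) : K = 𝐉 := by
  by_cases k : K ≤ 𝐐
  · exfalso
    obtain ⟨y, hy, hz⟩ : ∃ y ∈ K, y ∉ zpowers z := by
      by_contra a
      push Not at a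
      have := Subgroup.card_le_of_le a
      rw [hn, Nat.card_zpowers] at this
      have := Nat.le_of_dvd (by norm_num) (orderOf_dvd_of_pow_eq_one (z3 h.toARel))
      omega
    obtain ⟨c, c1, c2⟩ := trQ h (k hy) hz
    have le : cj c⁻¹ K ≤ gen [z, q1, q2, p2] := cj_le_iff.2 fun x hx => by
      have m : p2 ∈ gen [z, q1, q2, p2] := mem_gen (by simp)
      have le : 𝐀 ≤ gen [z, q1, q2, p2] := gen_mono (by simp)
      rcases b1_cq h.toARel _ (nQ h (Commute.inv_left c1) (k hx)) (by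
        rw [show q1 = c⁻¹ * y * c⁻¹⁻¹ by rw [mul_assoc, inv_inv, ← c2]; group, conj_mul, conj_mul,
          hc x hx y hy]) with a | a | a
      exacts [le a, (mul_mem_cancel_right m).1 (le a), (mul_mem_cancel_right (inv_mem m)).1 (le a)]
    have e := eq_of_le_of_card_ge le (by rw [card_cj, hn, b1_cardE h.toARel])
    have := hc _ (mem_cj_inv.1 (e.ge (mem_gen (x := p2) (by simp)))) _
      (mem_cj_inv.1 (e.ge (mem_gen (x := q2) (by simp))))
    rw [conj_mul, conj_mul] at this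
    exact nc h (by simpa using this)
  · obtain ⟨y, hy, hQ⟩ := SetLike.not_le_iff_exists.1 k
    exact eq_of_le_of_card_ge (fun x hx => cS h ((three h (hK hy) (h3 y hy)).resolve_left hQ) hQ
      (hK hx) (hc y hy x hx)) (by rw [hn, MA_card_J h.toARel])

theorem fus {x : G} (hx : x ∈ 𝐉) (e : IsConj z x) :
    ∃ n ∈ normalizer (𝐉 : Set G), n * z * n⁻¹ = x := by
  have : Fact (Nat.Prime 3) := ⟨Nat.prime_three⟩
  obtain ⟨g, rfl⟩ := isConj_iff.1 e
  have h1 : IsSylowIn 3 (cj g 𝐒) (centralizer {g * z * g⁻¹}) :=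
    (h.syl.cj_of_mem (mem_top g)).mono (cj_le_iff.2 fun y hy =>
      mem_centralizer_singleton_iff.2 (by rw [conj_mul, conj_mul, Sz h.toARel y hy])) le_top
  obtain ⟨c, hc, le⟩ := h1.exists_cj_le (h.syl.isPGroup.to_le JS) fun y hy =>
    mem_centralizer_singleton_iff.2 (Jc h.toARel y hy _ hx)
  have e := uniqJ h (K := cj (g⁻¹ * c) 𝐉) (by rw [← cj_cj, cj_le_iff_le_cj_inv, inv_inv]; exact le)
    (by
      rintro _ ⟨a, ha, rfl⟩ _ ⟨b, hb, rfl⟩
      rw [← map_mul, ← map_mul, Jc h.toARel a ha b hb])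
    (by
      rintro _ ⟨a, ha, rfl⟩
      rw [← map_pow, J3 h.toARel ha, map_one]) (by rw [card_cj, MA_card_J h.toARel])
  refine ⟨_, inv_mem (cj_eq_self_iff.1 e), ?_⟩
  calc _ = c⁻¹ * (g * z * g⁻¹ * c) := by group
    _ = _ := by rw [← mem_centralizer_singleton_iff.1 hc]; group

theorem idx {x y : G} (hx : x ∈ 𝐉) (hA : x ∉ 𝐀) (hy : y ∈ 𝐉) : ∃ k : ℤ, y * x ^ k ∈ 𝐀 := by
  have key : ∀ x ∈ 𝐉, x * r⁻¹ ∈ 𝐀 → ∃ k : ℤ, y * x ^ k ∈ 𝐀 := fun x hx a => by
    rcases J_cases h.toARel hy with b | b | b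
    · exact ⟨0, by simpa using b⟩
    · exact ⟨-1, by simpa [mul_assoc] using mul_mem b (inv_mem a)⟩
    · refine ⟨1, ?_⟩
      have := mul_mem b a
      rw [Jc h.toARel x hx _ (inv_mem rJ)] at this
      simpa [mul_assoc] using this
  rcases J_cases h.toARel hx with a | a | a
  · exact absurd a hA
  · exact key x hx a
  · obtain ⟨k, hk⟩ := key x⁻¹ (inv_mem hx)
      (by rw [← mul_inv_rev, ← Jc h.toARel x hx r rJ]; exact inv_mem a)
    exact ⟨-k, by simpa using hk⟩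

/-- The conjugate of `A` attached to a conjugate of `z` in `J`. -/
theorem exists_H {y : G} (hy : y ∈ 𝐉) (e : IsConj z y) (hz : ¬ (z = 1 ∨ z = y ∨ z = y * y)) :
    ∃ H : Subgroup G, y ∈ H ∧ (∃ a ∈ gen [z], q1 * a ∈ H) ∧ (∃ b ∈ gen [z], q2 * b ∈ H) ∧
      ∀ x ∈ H, ¬ (x = 1 ∨ x = y ∨ x = y * y) → ¬ IsConj z x ∧ ¬ IsConj z⁻¹ x := by
  obtain ⟨n, hn, rfl⟩ := fus h hy e
  have key : ∀ x ∈ cj n 𝐀, ¬ (x = 1 ∨ x = n * z * n⁻¹ ∨ x = n * z * n⁻¹ * (n * z * n⁻¹)) →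
      ¬ IsConj z x ∧ ¬ IsConj z⁻¹ x := by
    rintro _ ⟨a, ha, rfl⟩ k
    have c : IsConj a (n * a * n⁻¹) := isConj_iff.2 ⟨n, rfl⟩
    have := nzQ h (AQ ha) fun m => k (by
      rcases cube_cases (z3 h.toARel) m with rfl | rfl | e
      · simp
      · exact .inr (.inl rfl)
      · exact .inr (.inr (by rw [conj_mul, eq_inv_of_mul_eq_one_left h.z3, e]; rfl)))
    exact ⟨fun e => this.1 (e.trans c.symm), fun e => this.2 (e.trans c.symm)⟩
  have cJ : ∀ {x : G}, x ∈ 𝐉 → n⁻¹ * x * n ∈ 𝐉 := fun {x} hx => by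
    simpa using (mem_normalizer_iff.1 (inv_mem hn) x).1 hx
  have zA : n⁻¹ * z * n ∉ 𝐀 := fun a => (key z (mem_cj.2 a) hz).1 (IsConj.refl z)
  have k : ∀ x ∈ 𝐉, ∃ a ∈ gen [z], x * a ∈ cj n 𝐀 := fun x hx => by
    obtain ⟨k, hk⟩ := idx h (cJ (mem_gen (by simp))) zA (cJ hx)
    refine ⟨z ^ k, zpow_mem (mem_gen (by simp)) k, mem_cj.2 ?_⟩
    have e : (n⁻¹ * z * n) ^ k = n⁻¹ * z ^ k * n := by simpa using conj_zpow (a := n⁻¹) (b := z) (i := k)
    rw [e] at hk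
    simpa [mul_assoc] using hk
  exact ⟨cj n 𝐀, ⟨z, mem_gen (by simp), rfl⟩, k q1 (mem_gen (by simp)), k q2 (mem_gen (by simp)), key⟩

theorem hzr : IsConj (z⁻¹ * r) (z * r)⁻¹ ∧ IsConj (z * r) (z⁻¹ * r)⁻¹ := by
  have c : Commute z r := h.zr
  refine ⟨conj_of (c := h0) ?_, conj_of (c := h0) ?_⟩
  · rw [← mul_assoc, (Commute.inv_right h.hz).eq, mul_assoc, h.hr, c.eq, mul_inv_rev, mul_assoc]
  · rw [← mul_assoc, h.hz, mul_assoc, h.hr, c.inv_left.eq, mul_inv_rev, inv_inv, mul_assoc]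

theorem nze : ¬ IsConj z (z * r) := fun e => by
  obtain ⟨H, hy, ⟨a, ha, ma⟩, ⟨b, hb, mb⟩, key⟩ := exists_H h (mul_mem (mem_gen (by simp)) rJ) e
    (by simpa only [mul_assoc] using (b1_ne h.toARel).1)
  have fin : ∀ x ∈ H, ¬ (x = 1 ∨ x = z * r ∨ x = z * r * z * r) →
      (∃ c ∈ gen [p1, p2], c * z * r = x * c ∨ c * z⁻¹ * r = x * c) → False := by
    rintro x hx k ⟨c, -, d | d⟩ <;> rw [mul_assoc] at d
    · exact (key x hx (by simpa only [mul_assoc] using k)).1 (e.trans (conj_of d))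
    · exact (key x hx (by simpa only [mul_assoc] using k)).2
        ((conj_inv' e).trans ((hzr h).1.symm.trans (conj_of d)))
  rcases b1_hy h.toBRel a ha b hb with k | k | k | k | k <;> refine fin _ ?_ k.1 k.2
  · simpa only [mul_assoc] using mul_mem hy ma
  · simpa only [mul_assoc] using mul_mem (mul_mem hy ma) ma
  · simpa only [mul_assoc] using mul_mem hy mb
  · simpa only [mul_assoc] using mul_mem (mul_mem hy mb) mb
  · simpa only [mul_assoc] using mul_mem (mul_mem hy ma) mb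

theorem nze' : ¬ IsConj z (z⁻¹ * r) := fun e => by
  obtain ⟨H, hy, ⟨a, ha, ma⟩, ⟨b, hb, mb⟩, key⟩ := exists_H h
    (mul_mem (inv_mem (mem_gen (by simp))) rJ) e
    (by simpa only [mul_assoc] using (b1_ne h.toARel).2.1)
  have fin : ∀ x ∈ H, ¬ (x = 1 ∨ x = z⁻¹ * r ∨ x = z⁻¹ * r * z⁻¹ * r) →
      (∃ c ∈ gen [p1, p2], c * z * r = x * c ∨ c * z⁻¹ * r = x * c) → False := by
    rintro x hx k ⟨c, -, d | d⟩ <;> rw [mul_assoc] at d
    · exact (key x hx (by simpa only [mul_assoc] using k)).2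
        ((conj_inv' e).trans ((hzr h).2.symm.trans (conj_of d)))
    · exact (key x hx (by simpa only [mul_assoc] using k)).1 (e.trans (conj_of d))
  rcases b1_hy2 h.toBRel a ha b hb with k | k | k | k | k <;> refine fin _ ?_ k.1 k.2
  · simpa only [mul_assoc] using mul_mem hy ma
  · simpa only [mul_assoc] using mul_mem (mul_mem hy ma) ma
  · simpa only [mul_assoc] using mul_mem hy mb
  · simpa only [mul_assoc] using mul_mem (mul_mem hy mb) mb
  · simpa only [mul_assoc] using mul_mem (mul_mem hy ma) mb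

theorem zr_of {x : G} (hx : x * r⁻¹ ∈ 𝐀) (e : IsConj z x) : IsConj z r := by
  obtain ⟨c, -, d | d | d⟩ := b1_cls h.toBRel _ hx <;> rw [inv_mul_cancel_right] at d
  · exact e.trans (conj_of d).symm
  · exact absurd (e.trans (conj_of (by rwa [← mul_assoc])).symm) (nze h)
  · exact absurd (e.trans (conj_of (by rwa [← mul_assoc])).symm) (nze' h)

theorem ex : ∃ n ∈ normalizer (𝐉 : Set G), n * z = r⁻¹ * n := by
  have : Fact (Nat.Prime 3) := ⟨Nat.prime_three⟩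
  obtain ⟨x, e, xz, hz⟩ := h.nwc
  have x3 : ∀ {x : G}, IsConj z x → x ^ 3 = 1 := fun e => by
    obtain ⟨g, rfl⟩ := isConj_iff.1 e
    rw [conj_pow, z3 h.toARel]; simp
  obtain ⟨c, hc, m⟩ := exists_conj_mem (k := 1) (sylC h) (mem_centralizer_singleton_iff.2 xz) (x3 e)
  replace hc := mem_centralizer_singleton_iff.1 hc
  have e' : IsConj z (c * x * c⁻¹) := e.trans (isConj_iff.2 ⟨c, rfl⟩)
  have hz' : c * x * c⁻¹ ∉ zpowers z := fun a => hz (by
    have := comm_zp hc a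
    rwa [show x = c * x * c⁻¹ from mul_left_cancel (a := c) (by rw [this]; group)])
  have hQ : c * x * c⁻¹ ∉ 𝐐 := fun a => (nzQ h a hz').1 e'
  have hJ := (three h m (x3 e')).resolve_left hQ
  generalize c * x * c⁻¹ = y at *
  have zr : IsConj z r := by
    rcases J_cases h.toARel hJ with a | a | a
    · exact absurd (AQ a) hQ
    · exact zr_of h a e'
    · refine zr_of h (x := h0 * y * h0⁻¹) ?_ (e'.trans (isConj_iff.2 ⟨h0, rfl⟩))
      have n : h0 ∈ normalizer (𝐀 : Set G) := mem_norm_gen (by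
        simp only [List.forall_mem_cons, h.hz, h.hq1, h.hq2, mul_inv_cancel_right]
        exact ⟨mem_gen (by simp), mul_mem (mem_gen (by simp)) (mem_gen (by simp)),
          mul_mem (mem_gen (by simp)) (inv_mem (mem_gen (by simp))), by simp⟩)
      have := (mem_normalizer_iff.1 n _).1 a
      rwa [← conj_mul, h.hr, mul_inv_cancel_right] at this
  obtain ⟨n, hn, k⟩ := fus h (inv_mem rJ) (zr.trans (conj_of h.hr))
  exact ⟨n, hn, mul_inv_eq_iff_eq_mul.1 k⟩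

end B1

theorem CA.cf (h : CA z q1 q2 r p1 p2 s w h0 i1 i2) : CF z q1 q2 r p1 p2 s w h0 i1 i2 :=
  { h with nzq := B1.nzq h, nze := B1.nze h, nze' := B1.nze' h, ex := B1.ex h }

end Cfsg.Lib.Co23
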