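import Cfsg.Agent.Co23.B2Fact

/-! Generators of the normalizer of `J = 3⁴`. -/

set_option autoImplicit false

namespace Cfsg.Lib.Co23

open Subgroup Cfsg.Lib.Spor Cfsg.Lib.Spor.Bulk Cfsg.Lib.Spor.PK Cfsg.Lib.Spor.WF Cfsg.Lib.L3
open Cfsg.Lib.Odd3 (conj_mem_of_norm conj_mem_of_norm')

variable {G : Type*} [Group G] {z q1 q2 r p1 p2 s w h0 i1 i2 io m x x' y g : G}

namespace B2

local notation "J" => gen [z, q1, q2, r]
local notation "uJ" => sg (gMB z q1 q2 r p1 p2 s w h0) [[], [1], [3], [5], [7]]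

/-- The singular vectors. -/
def Sg (z r p1 p2 x : G) : Prop :=
  x = z ∨ x = z⁻¹ ∨ ∃ c ∈ gen [p1, p2], c * r = x * c ∨ c * r⁻¹ = x * c

theorem mz : z ∈ J := mem_gen (by simp)
theorem mq1 : q1 ∈ J := mem_gen (by simp)
theorem mq2 : q2 ∈ J := mem_gen (by simp)
theorem mr : r ∈ J := mem_gen (by simp)
theorem u1 : uJ 1 = z := one_mul z
theorem u2 : uJ 2 = q1 := one_mul q1
theorem u3 : uJ 3 = q2 := one_mul q2
theorem u4 : uJ 4 = r := one_mul r

theorem cj_of {a b c : G} (e : c * a = b * c) : IsConj a b :=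
  isConj_iff.2 ⟨c, mul_inv_eq_iff_eq_mul.2 e⟩

theorem inv3 (e : x * x * x = 1) : x⁻¹ = x * x := inv_eq_of_mul_eq_one_left e

theorem mkAct {W1 W2 W3 W4 : List ℕ} (h1 : x * z * x⁻¹ = wv uJ W1) (h2 : x * q1 * x⁻¹ = wv uJ W2)
    (h3 : x * q2 * x⁻¹ = wv uJ W3) (h4 : x * r * x⁻¹ = wv uJ W4) :
    Act uJ x [[], W1, W2, W3, W4] :=
  Act.of_lt le_rfl fun l hl => by
    change l < 5 at hl
    interval_cases l
    · simp [sg]
    exacts [u1 (G := G) ▸ h1, u2 (G := G) ▸ h2, u3 (G := G) ▸ h3, u4 (G := G) ▸ h4]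

theorem cJ [Finite G] (h : CA z q1 q2 r p1 p2 s w h0 i1 i2) (h1 : g * z = z * g)
    (h2 : g * q1 = q1 * g) (h3 : g * q2 = q2 * g) : g ∈ J := by
  have k : g ∈ zpowers q1 ⊔ gen [z, q2, p2, i2, r] := by
    refine gen_le (fun x hx => ?_) (h.cz1 g h1 h2)
    by_cases e : x = q1
    · exact mem_sup_left (e ▸ mem_zpowers q1)
    · exact mem_sup_right (mem_gen (by simpa [e] using hx))
  rw [← SetLike.mem_coe, coe_mul_of_right_le_normalizer_left _ _ (gen_le (by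
    simp only [List.forall_mem_cons, List.not_mem_nil, IsEmpty.forall_iff, implies_true, and_true]
    exact ⟨mem_norm_of_comm h.zq1, mem_norm_of_comm h.q12.symm, mem_norm_of_comm h.p2q1,
      mem_norm_of_comm h.i2q1, mem_norm_of_comm h.rq1⟩))] at k
  obtain ⟨_, ⟨n, rfl⟩, b, hb, rfl⟩ := k
  have c : Commute (q1 ^ n) q2 := Commute.zpow_left h.q12 n
  refine mul_mem (zpow_mem mq1 n) (gen_le ?_ (B2_ca h.x2 b hb ?_))
  · simp only [List.forall_mem_cons, List.not_mem_nil, IsEmpty.forall_iff, implies_true, and_true]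
    exact ⟨mz, mq2, mr⟩
  · exact mul_left_cancel (a := q1 ^ n) (by rw [← mul_assoc, ← mul_assoc, c.eq, mul_assoc q2]; exact h3)

theorem cJ' [Finite G] (h : CA z q1 q2 r p1 p2 s w h0 i1 i2) (k : ∀ y ∈ J, g * y * g⁻¹ = y) : g ∈ J :=
  cJ h (mul_inv_eq_iff_eq_mul.1 (k _ mz)) (mul_inv_eq_iff_eq_mul.1 (k _ mq1))
    (mul_inv_eq_iff_eq_mul.1 (k _ mq2))

theorem nL [Finite G] (h : BRel z q1 q2 r p1 p2 s w h0) :
    gen [p1, p2, s, w, h0] ≤ normalizer (J : Set G) := by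
  have := Co3M.norm_of_dec MB_ok MB_subs (Co3M.Hm.of_emb (MB_emb h)) (MB.W 5) 1 (by decide +kernel)
  rwa [gMB_s5, gMB_s1] at this

theorem act (h : BRel z q1 q2 r p1 p2 s w h0) (l : ℕ) (W : List (List ℕ))
    (hd : W.length ≤ 5 ∧ MB.dec (actFm [[], [1], [3], [5], [7]] [l] W) = true) :
    Act uJ (gMB z q1 q2 r p1 p2 s w h0 l) W := by
  simpa only [wv_cons, wv_nil, one_mul] using PM.act MB_ok MB_subs (MB_emb h) [l] hd

theorem le_L {l : List G} (k : l ⊆ [p1, p2, s, w, h0]) : gen l ≤ gen [p1, p2, s, w, h0] :=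
  gen_le fun _ hx => mem_gen (k hx)

theorem inv_of_act (h : BRel z q1 q2 r p1 p2 s w h0)
    (a : Act uJ x [[], [1, 1], [2, 2], [3, 3], [4, 4]]) : ∀ y ∈ J, x * y * x⁻¹ = y⁻¹ := by
  have k : ∀ l, ∀ y ∈ J, uJ l = y → x * uJ l * x⁻¹ = wv uJ [l, l] → x * y * x⁻¹ = y⁻¹ :=
    fun l y hy e1 e2 => by
      rw [inv3 (B2_J h y hy).1, ← e1, e2, wv_cons, wv_cons, wv_nil, one_mul]
  intro y hy
  induction hy using closure_induction with
  | mem y hy =>
    simp only [List.mem_cons, List.not_mem_nil, or_false, Set.mem_ofPred_eq] at hy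
    rcases hy with rfl | rfl | rfl | rfl
    exacts [k 1 _ mz u1 (a 1), k 2 _ mq1 u2 (a 2), k 3 _ mq2 u3 (a 3), k 4 _ mr u4 (a 4)]
  | one => simp
  | mul a b ha hb iha ihb =>
    rw [(B2_J h a ha).2 b hb, mul_inv_rev, ← iha, ← ihb, ← (B2_J h a ha).2 b hb]; group
  | inv a _ ih => rw [← conj_inv, ih]

theorem one_of (h : BRel z q1 q2 r p1 p2 s w h0) (hio : ∀ y ∈ J, io * y * io⁻¹ = y⁻¹) (hx : x ∈ J)
    (c : Commute io x) : x = 1 := by
  have e := hio x hx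
  rw [c.eq, mul_inv_cancel_right, inv3 (B2_J h x hx).1] at e
  exact left_eq_mul.1 e

variable [Finite G] (h : CF z q1 q2 r p1 p2 s w h0 i1 i2)
include h

theorem eq_of (hio : ∀ y ∈ J, io * y * io⁻¹ = y⁻¹) {W : List (List ℕ)} (a : Act uJ x W)
    (b : Act uJ x' W) (c : Commute io x) (c' : Commute io x') : x = x' :=
  (inv_mul_eq_one.1 (one_of h.toBRel hio (cJ h.toCA (by simpa only [u1] using (a.comm b 1).symm)
    (by simpa only [u2] using (a.comm b 2).symm) (by simpa only [u3] using (a.comm b 3).symm))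
    (c'.inv_right.mul_right c))).symm

theorem inv_comm (hio : ∀ y ∈ J, io * y * io⁻¹ = y⁻¹) (hn : g ∈ normalizer (J : Set G)) :
    g⁻¹ * (io * g * io⁻¹) ∈ J := cJ' h.toCA fun y hy => by
  have e1 := hio _ (inv_mem hy)
  have e2 := hio _ (conj_mem_of_norm hn (inv_mem hy))
  calc _ = g⁻¹ * (io * (g * (io⁻¹ * y * io) * g⁻¹) * io⁻¹) * g := by group
    _ = _ := by rw [show io⁻¹ * y * io = y⁻¹ by nth_rw 1 [← inv_inv y]; rw [← e1]; group, e2]; group

omit [Finite G] in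
theorem conj_sg (k : Sg z r p1 p2 x) : IsConj z x := by
  obtain ⟨n, -, e⟩ := h.ex
  have a := cj_of e
  have b := (cj_of h.hr).symm
  rcases k with rfl | rfl | ⟨c, -, k | k⟩
  · exact IsConj.refl _
  · exact (a.trans b).trans (cj_of (c := n⁻¹) (by
      rw [eq_mul_inv_iff_mul_eq, mul_assoc, inv_mul_eq_iff_eq_mul, eq_mul_inv_iff_mul_eq, mul_assoc, e,
        mul_inv_cancel_left]))
  · exact (a.trans b).trans (cj_of k)
  · exact a.trans (cj_of k)

omit [Finite G] in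
theorem sg_of (hx : x ∈ J) (c : IsConj z x) : Sg z r p1 p2 x := by
  rcases B2_cls h.toBRel x hx with rfl | k | ⟨d, -, k | k | k⟩
  · exact absurd (isConj_one_left.1 c) h.ne
  · exact k
  · exact absurd (c.trans (cj_of k).symm) h.nzq
  · exact absurd (c.trans (cj_of ((mul_assoc _ _ _).symm.trans k)).symm) h.nze
  · exact absurd (c.trans (cj_of ((mul_assoc _ _ _).symm.trans k)).symm) h.nze'

theorem exists_m1 : ∃ m ∈ normalizer (J : Set G), m * z * m⁻¹ = r⁻¹ ∧ m * r * m⁻¹ = z⁻¹ := by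
  obtain ⟨n, hn, e⟩ := h.ex
  obtain ⟨r1, r2, -, -, cP⟩ := B2_rel h.toBRel
  have nP := (le_L (l := [p1, p2]) (by simp)).trans (nL h.toBRel)
  have k : ∀ c ∈ normalizer (J : Set G), c * z = z * c → c * r⁻¹ = n⁻¹ * z * n * c →
      ∃ m ∈ normalizer (J : Set G), m * z * m⁻¹ = r⁻¹ ∧ m * r * m⁻¹ = z⁻¹ := fun c hc e1 e2 =>
    ⟨n * c, mul_mem hn hc, by rw [mul_assoc n, e1, ← mul_assoc, e]; group, by
      rw [← inv_inv r, conj_inv.symm, mul_assoc n, e2]; group⟩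
  rcases sg_of h (conj_mem_of_norm' hn mz) (cj_of (c := n⁻¹) (by group)) with
    k1 | k1 | ⟨c, hc, k1 | k1⟩
  · rw [mul_assoc, inv_mul_eq_iff_eq_mul, e] at k1
    exact absurd (mul_right_cancel k1) r1
  · refine absurd (inv_injective (mul_right_cancel (b := n) ?_)) r2
    rw [← e, inv_mul_eq_iff_eq_mul, ← mul_assoc, inv_mul_eq_iff_eq_mul.1 ((mul_assoc _ _ _).symm.trans k1),
      inv_mul_cancel_right]
  · refine k (c * h0) (mul_mem (nP hc) (nL h.toBRel (mem_gen (by simp)))) ?_ ?_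
    · rw [mul_assoc, h.hz, ← mul_assoc, cP c hc, mul_assoc]
    · rw [← mul_assoc, ← k1, mul_assoc, mul_assoc, mul_right_inj, mul_inv_eq_iff_eq_mul, mul_assoc, h.hr,
        mul_inv_cancel_left]
  · exact k c (nP hc) (cP c hc) k1

theorem exists_m2 : ∃ m : G, m * z * m⁻¹ = r⁻¹ ∧ m * q1 * m⁻¹ = q1 ∧ m * q2 * m⁻¹ = q2 ∧
    m * r * m⁻¹ = z⁻¹ := by
  obtain ⟨m, hm, e1, e2⟩ := exists_m1 h
  have k : ∀ y, Sg z r p1 p2 y → y ∈ J → Sg z r p1 p2 (MulAut.conj m y) := fun y k hy =>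
    sg_of h (conj_mem_of_norm hm hy) ((conj_sg h k).trans (isConj_iff.2 ⟨m, rfl⟩))
  obtain ⟨s1, s2, s3, s4, s5, s6, s7, s8⟩ := B2_sing h.toBRel
  have a := mul_mem (mz (z := z) (q1 := q1) (q2 := q2) (r := r)) mr
  have b := mul_mem (mul_mem (mz (z := z) (q1 := q1) (q2 := q2) (r := r)) (inv_mem mr)) mq1
  have t1 := k _ s1 (mul_mem a mq1)
  have t2 := k _ s2 (mul_mem (mul_mem a mq1) mq1)
  have t3 := k _ s3 (mul_mem a mq2)
  have t4 := k _ s4 (mul_mem (mul_mem a mq2) mq2)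
  have t5 := k _ s5 (mul_mem b mq2)
  have t6 := k _ s6 (mul_mem (mul_mem b mq2) mq2)
  have t7 := k _ s7 (mul_mem (mul_mem b mq1) mq2)
  have t8 := k _ s8 (mul_mem (mul_mem (mul_mem b mq1) mq2) mq2)
  simp only [map_mul, map_inv, show MulAut.conj m z = r⁻¹ from e1, show MulAut.conj m r = z⁻¹ from e2,
    inv_inv] at t1 t2 t3 t4 t5 t6 t7 t8
  obtain ⟨d, -, d1, d2, d3, d4⟩ := B2_m h.toBRel _ (conj_mem_of_norm hm mq1) t1 t2 _
    (conj_mem_of_norm hm mq2) t3 t4 t5 t6 t7 t8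
  have c : ∀ x, d⁻¹ * m * x * (d⁻¹ * m)⁻¹ = d⁻¹ * (m * x * m⁻¹ * d) := fun x => by group
  refine ⟨d⁻¹ * m, ?_, ?_, ?_, ?_⟩ <;> rw [c]
  · rw [e1, ← (Commute.inv_right d4).eq, inv_mul_cancel_left]
  · rw [← d1, inv_mul_cancel_left]
  · rw [← d2, inv_mul_cancel_left]
  · rw [e2, ← (Commute.inv_right d3).eq, inv_mul_cancel_left]

omit [Finite G] in
theorem act_m (e1 : m * z * m⁻¹ = r⁻¹) (e2 : m * q1 * m⁻¹ = q1) (e3 : m * q2 * m⁻¹ = q2)
    (e4 : m * r * m⁻¹ = z⁻¹) : Act uJ m [[], [4, 4], [2], [3], [1, 1]] :=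
  mkAct (by simp only [wv_cons, wv_nil, one_mul, u4, e1, inv3 h.r3])
    (by simp only [wv_cons, wv_nil, one_mul, u2, e2]) (by simp only [wv_cons, wv_nil, one_mul, u3, e3])
    (by simp only [wv_cons, wv_nil, one_mul, u1, e4, inv3 h.z3])

omit [Finite G] in
theorem act_h : Act uJ h0 [[], [1], [2, 3], [2, 3, 3], [4, 4]] :=
  act h.toBRel 15 _ (by decide +kernel)

theorem exists_io : ∃ io : G, (∀ y ∈ J, io * y * io⁻¹ = y⁻¹) ∧ Commute io s ∧ Commute io w ∧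
    Commute io h0 := by
  obtain ⟨m, e1, e2, e3, e4⟩ := exists_m2 h
  have am := act_m h e1 e2 e3 e4
  have a := inv_of_act h.toBRel (PM.red MB_ok MB_subs (MB_emb h.toBRel)
    ((((act_h h).mul am).mul (act_h h)).mul am) _ (by decide +kernel))
  generalize h0 * m * h0 * m = u at a
  have nD := (le_L (l := [s, w, h0]) (by simp)).trans (nL h.toBRel)
  obtain ⟨io, k1, k2⟩ := Co3M.exists_fixed (Co3M.isPGroup_of_card (n := 4) (MB_card_D h.toBRel))
    (S := {g | ∀ y ∈ J, g * y * g⁻¹ = y⁻¹}) (fun k hk g hg y hy => by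
      calc _ = k * (g * (k⁻¹ * y * k) * g⁻¹) * k⁻¹ := by group
        _ = _ := by rw [hg _ (conj_mem_of_norm' (nD hk) hy)]; group) (by
      rw [show {g | ∀ y ∈ J, g * y * g⁻¹ = y⁻¹} = (fun j => u * j) '' (J : Set G) from ?_,
        Set.ncard_image_of_injective _ (mul_right_injective u), ← Nat.card_coe_set_eq]
      · exact (MB_card_J h.toBRel).symm ▸ (by decide : ¬ 2 ∣ 81)
      refine Set.ext fun g => ⟨fun hg => ⟨u⁻¹ * g, cJ' h.toCA fun y hy => ?_, by simp⟩, ?_⟩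
      · calc _ = u⁻¹ * (g * y * g⁻¹) * u := by group
          _ = _ := by rw [hg y hy, ← a y hy]; group
      · rintro ⟨j, hj, rfl⟩ y hy
        rw [← a y hy, mul_assoc u, (B2_J h.toBRel j hj).2 y hy]; group)
  exact ⟨io, k1, (k2 s (mem_gen (by simp))).symm, (k2 w (mem_gen (by simp))).symm,
    (k2 h0 (mem_gen (by simp))).symm⟩

theorem io_p1 (hio : ∀ y ∈ J, io * y * io⁻¹ = y⁻¹) (cs : Commute io s) (cw : Commute io w)
    (ch : Commute io h0) : Commute io p1 := by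
  obtain ⟨-, -, r1, r2, -⟩ := B2_rel h.toBRel
  have hc := inv_comm h hio (nL h.toBRel (mem_gen (by simp : p1 ∈ _)))
  have e : MulAut.conj io p1 = p1 * (p1⁻¹ * (io * p1 * io⁻¹)) := (mul_inv_cancel_left _ _).symm
  generalize p1⁻¹ * (io * p1 * io⁻¹) = c at hc e
  replace r1 := congrArg (MulAut.conj io) r1
  replace r2 := congrArg (MulAut.conj io) r2
  simp only [map_mul, map_inv, map_one, e, show MulAut.conj io s = s from cs.mul_inv_cancel,
    show MulAut.conj io w = w from cw.mul_inv_cancel, show MulAut.conj io h0 = h0 from ch.mul_inv_cancel,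
    ← mul_assoc] at r1 r2
  rw [B2_io h.toBRel c hc r1 r2, mul_one] at e
  exact mul_inv_eq_iff_eq_mul.1 e

theorem io_i1 (hio : ∀ y ∈ J, io * y * io⁻¹ = y⁻¹) (io2 : io * io = 1) (c1 : Commute io p1)
    (c2 : Commute io p2) : io * i1 = i1⁻¹ * io := by
  have e : ∀ x, io * i1 * io * i1 * x * (io * i1 * io * i1)⁻¹ =
      io * (i1 * (io * (i1 * x * i1⁻¹) * io⁻¹) * i1⁻¹) * io⁻¹ := fun x => by group
  have a1 := mul_inv_eq_iff_eq_mul.2 h.x1.zi.symm
  have a2 := mul_inv_eq_iff_eq_mul.2 h.x1.ia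
  have a3 := mul_inv_eq_iff_eq_mul.2 h.x1.ib
  have a4 := mul_inv_eq_iff_eq_mul.2 h.i1q2
  have a5 := mul_inv_eq_iff_eq_mul.2 h.i1p2
  have k := B2_cq h.toBRel (io * i1 * io * i1) (cJ h.toCA (mul_inv_eq_iff_eq_mul.1 (by
      rw [e, a1, hio _ mz, ← conj_inv, a1, ← conj_inv, hio _ mz, inv_inv]))
    (mul_inv_eq_iff_eq_mul.1 (by rw [e, a2, c1.mul_inv_cancel, a3, ← conj_inv, hio _ mq1, inv_inv]))
    (mul_inv_eq_iff_eq_mul.1 (by rw [e, a4, hio _ mq2, ← conj_inv, a4, ← conj_inv, hio _ mq2, inv_inv])))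
    (mul_inv_eq_iff_eq_mul.1 (by rw [e, a3, ← conj_inv, hio _ mq1, inv_inv, a2, c1.mul_inv_cancel]))
    (mul_inv_eq_iff_eq_mul.1 (by rw [e, a5, c2.mul_inv_cancel, a5, c2.mul_inv_cancel]))
  have i4 : i1 ^ 4 = 1 := by rw [← h.x1.i4, pow_succ, pow_three, mul_assoc i1 i1 i1]
  have k1 : ∀ j, Commute j i1 → j ^ 3 = 1 → io * i1 * io * i1 = j → io * i1 * io * i1 = 1 :=
    fun j c j3 e => by
      have e1 : (io * i1 * io⁻¹) ^ 4 = (j * i1⁻¹) ^ 4 := by
        rw [← e, inv_eq_of_mul_eq_one_right io2, mul_inv_cancel_right]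
      rw [conj_pow, c.inv_right.mul_pow, inv_pow, i4, pow_succ, j3] at e1
      simpa [e] using e1.symm
  have z3 : z ^ 3 = 1 := by rw [← h.z3, pow_three, mul_assoc]
  have k2 : io * i1 * io * i1 = 1 := by
    rcases k with k | k | k
    exacts [k, k1 _ h.x1.zi z3 k, k1 _ (Commute.inv_left h.x1.zi) (by rw [inv_pow, z3, inv_one]) k]
  rw [inv_eq_of_mul_eq_one_left k2, mul_assoc, io2, mul_one]

end B2

open B2 in
theorem CF.exists_cb [Finite G] (h : CF z q1 q2 r p1 p2 s w h0 i1 i2) :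
    ∃ io m, CB z q1 q2 r p1 p2 s w h0 i1 i2 io m := by
  obtain ⟨io, hio, cs, cw, ch⟩ := exists_io h
  have he := MB_emb h.toBRel
  have io2 : io * io = 1 := one_of h.toBRel hio (cJ' h.toCA fun y hy => by
    calc _ = io * (io * y * io⁻¹) * io⁻¹ := by group
      _ = _ := by rw [hio y hy, hio _ (inv_mem hy), inv_inv]) ((Commute.refl io).mul_right (.refl io))
  have c1 := io_p1 h hio cs cw ch
  have c2 : Commute io p2 := mul_inv_eq_iff_eq_mul.2 h.wp1 ▸ (cw.mul_right c1).mul_right cw.inv_right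
  have i1 := io_i1 h hio io2 c1 c2
  obtain ⟨m, cm, e1, e2, e3, e4⟩ : ∃ m : G, Commute io m ∧ m * z * m⁻¹ = r⁻¹ ∧ m * q1 * m⁻¹ = q1 ∧
      m * q2 * m⁻¹ = q2 ∧ m * r * m⁻¹ = z⁻¹ := by
    obtain ⟨m, e1, e2, e3, e4⟩ := exists_m2 h
    have hj := inv_comm h hio (g := m) (mem_norm_gen (by
      simp only [List.forall_mem_cons, List.not_mem_nil, IsEmpty.forall_iff, implies_true, and_true,
        e1, e2, e3, e4]
      exact ⟨inv_mem mr, mq1, mq2, inv_mem mz⟩))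
    have e : io * m * io⁻¹ = m * (m⁻¹ * (io * m * io⁻¹)) := (mul_inv_cancel_left _ _).symm
    generalize m⁻¹ * (io * m * io⁻¹) = j at hj e
    have k : ∀ y ∈ gen [z, q1, q2, r], m * j⁻¹ * y * (m * j⁻¹)⁻¹ = m * y * m⁻¹ := fun y hy => by
      rw [mul_assoc m, (B2_J h.toBRel _ (inv_mem hj)).2 y hy]; group
    refine ⟨m * j⁻¹, mul_inv_eq_iff_eq_mul.1 ?_, (k _ mz).trans e1, (k _ mq1).trans e2,
      (k _ mq2).trans e3, (k _ mr).trans e4⟩
    rw [← conj_mul, e, hio _ (inv_mem hj), inv_inv, inv3 (B2_J h.toBRel j hj).1, mul_assoc]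
  have am := act_m h e1 e2 e3 e4
  have ah := act_h h
  have as : Act _ s [[], [1], [2], [3, 3], [4]] :=
    act h.toBRel 13 _ (by decide +kernel)
  have aw : Act _ w [[], [1], [3], [2], [4]] :=
    act h.toBRel 14 _ (by decide +kernel)
  have ap : Act _ p1 [[], [1], [1, 2], [3], [1, 2, 2, 4]] :=
    act h.toBRel 9 _ (by decide +kernel)
  have a1 := PM.act MB_ok MB_subs he (D := [[], [1], [3], [5], [7]]) (W := [[], [1], [2], [3], [4]])
    [] (by decide +kernel)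
  have ai : Act _ io [[], [1, 1], [2, 2], [3, 3], [4, 4]] :=
    mkAct (z := z) (q1 := q1) (q2 := q2) (r := r) (p1 := p1) (p2 := p2) (s := s) (w := w) (h0 := h0)
      (by simp only [wv_cons, wv_nil, one_mul, u1, hio _ mz, inv3 h.z3])
      (by simp only [wv_cons, wv_nil, one_mul, u2, hio _ mq1, inv3 h.q13])
      (by simp only [wv_cons, wv_nil, one_mul, u3, hio _ mq2, inv3 h.q23])
      (by simp only [wv_cons, wv_nil, one_mul, u4, hio _ mr, inv3 h.r3])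
  have aa := PM.red MB_ok MB_subs he (((am.mul ap).mul ai).mul as)
    [[], [4], [2, 2, 4], [3], [1, 2, 4]] (by decide +kernel)
  have ca := ((cm.mul_right c1).mul_right (.refl io)).mul_right cs
  refine ⟨io, m, h, ⟨h.toBRel, io2, mul_inv_eq_iff_eq_mul.1 (hio _ mz),
    mul_inv_eq_iff_eq_mul.1 (hio _ mq1), mul_inv_eq_iff_eq_mul.1 (hio _ mq2),
    mul_inv_eq_iff_eq_mul.1 (hio _ mr),
    eq_of h hio (PM.red MB_ok MB_subs he (am.mul am) _ (by decide +kernel)) a1 (cm.mul_right cm)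
      (.one_right io), mul_inv_eq_iff_eq_mul.1 e1, mul_inv_eq_iff_eq_mul.1 e2,
    mul_inv_eq_iff_eq_mul.1 e3, c1, c2, cs, cw, ch, cm,
    eq_of h hio (PM.red MB_ok MB_subs he (am.mul as) _ (by decide +kernel)) (as.mul am)
      (cm.mul_right cs) (cs.mul_right cm),
    eq_of h hio (PM.red MB_ok MB_subs he (am.mul aw) _ (by decide +kernel)) (aw.mul am)
      (cm.mul_right cw) (cw.mul_right cm),
    eq_of h hio (PM.red MB_ok MB_subs he (((ah.mul am).mul ah).mul am) _ (by decide +kernel)) ai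
      (((ch.mul_right cm).mul_right ch).mul_right cm) (.refl io), ?_⟩, i1, ?_⟩
  · simpa only [← mul_assoc, wv_nil] using eq_of h hio (PM.red MB_ok MB_subs he ((aa.mul aa).mul aa) _
      (by decide +kernel)) a1 ((ca.mul_right ca).mul_right ca) (.one_right io)
  · rw [← mul_inv_eq_iff_eq_mul.2 h.wi, ← mul_assoc, ← mul_assoc, cw.eq, mul_assoc w, i1, mul_assoc,
      mul_assoc, mul_assoc, cw.inv_right.eq]
    group

end Cfsg.Lib.Co23
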