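import Cfsg.Agent.Co23.PartD1a
import Cfsg.Agent.Co23.FactW
import Cfsg.Agent.Co23.PartP

/-! The centralizer of `q₁` is `3 × W(E₆)`. -/

set_option autoImplicit false

namespace Cfsg.Lib.Co23

open Cfsg.Agent

universe u

theorem CB.cd {G : Type u} [Group G] [Finite G] {z q1 q2 r p1 p2 s w h0 i1 i2 io m : G}
    [Gate.S3342.{u, 0, 0}] [Gate.S3342.{0, 0, 0}]
    (h : CB z q1 q2 r p1 p2 s w h0 i1 i2 io m) : CD z q1 q2 r p1 p2 s w h0 i1 i2 io m :=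
  h.cd_of fun _ _ _ _ _ _ _ _ _ _ F => F.out.2.symm.imp (fun ⟨_, hx, _⟩ => S_five_e hx)
    fun ht => ⟨W_cent_u F.out.1 ht, W_comm_i F.out.1, W_five_m F.out.1⟩

end Cfsg.Lib.Co23
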