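import Cfsg.Agent.Co23.Defs

/-! Finite facts for the centralizer of `q₁`. -/

set_option autoImplicit false
set_option maxRecDepth 100000
set_option linter.unusedSimpArgs false
set_option linter.unusedSectionVars false
set_option linter.unusedVariables false
set_option maxHeartbeats 1000000

namespace Cfsg.Lib.Co23

open Subgroup Cfsg.Lib.Spor Cfsg.Lib.Spor.Bulk Cfsg.Lib.Spor.PK Cfsg.Lib.Spor.WF

variable {G : Type*} [Group G] {z a b i r n m s w h0 q p u x q1 q2 p1 p2 io : G}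

/-- more subgroups -/
@[reducible] def MAd : PM := { MA with
  SW := [([[1],[7]],
    [⟨0, [128, 64], [[1]]⟩,
     ⟨3, [320, 256], []⟩]),
   ([[1],[5]],
    [⟨0, [128, 64], [[1]]⟩,
     ⟨6, [512, 448], []⟩]),
   ([[1],[3]],
    [⟨0, [128, 64], [[1]]⟩,
     ⟨12, [896, 832], []⟩]),
   ([[3],[5]],
    [⟨12, [896, 832], [[1]]⟩,
     ⟨6, [512, 448], []⟩]),
   ([[9],[11]],
    [⟨0, [768, 385, 1344, 1729, 577, 1153, 1537, 961], []⟩]),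
   ([[1],[3],[5],[7]],
    [⟨0, [128, 64], [[1], [2], [3]]⟩,
     ⟨12, [896, 832], [[0, 0, 2], [1]]⟩,
     ⟨6, [512, 448], [[0, 0, 1]]⟩,
     ⟨3, [256, 320], []⟩]),
   ([[1],[3],[9],[5],[11]],
    [⟨0, [128, 770, 388, 64, 898, 516, 1346, 1732, 580, 834, 452, 1474, 1796, 708, 1409, 1156, 1540, 643, 1860,
    1220, 1604, 1284, 964, 1667, 1028, 1092], [[3], [2, 1, 2, 1, 2]]⟩,
     ⟨12, [833, 897], [[0]]⟩,
     ⟨6, [512, 448], []⟩])] }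

instance : NeZero MAd.n := ⟨by decide⟩

theorem MAd_ok : MAd.ok = true := MA_ok

theorem MAd_subs : MAd.subsOK = true := by decide +kernel

theorem MAd_s0 : sub (gMA z q1 q2 r p1 p2 s w) (MAd.W 0) = gen [z, r] := by
  change gen (List.map (wv _) [[1],[7]]) = _
  simp only [List.map_cons, List.map_nil, wv_cons, wv_nil, one_mul, gMA_1, gMA_2, gMA_3, gMA_4, gMA_5, gMA_6, gMA_7, gMA_8, gMA_9, gMA_10, gMA_11, gMA_12, gMA_13, gMA_14]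

theorem MAd_s1 : sub (gMA z q1 q2 r p1 p2 s w) (MAd.W 1) = gen [z, q2] := by
  change gen (List.map (wv _) [[1],[5]]) = _
  simp only [List.map_cons, List.map_nil, wv_cons, wv_nil, one_mul, gMA_1, gMA_2, gMA_3, gMA_4, gMA_5, gMA_6, gMA_7, gMA_8, gMA_9, gMA_10, gMA_11, gMA_12, gMA_13, gMA_14]

theorem MAd_s2 : sub (gMA z q1 q2 r p1 p2 s w) (MAd.W 2) = gen [z, q1] := by
  change gen (List.map (wv _) [[1],[3]]) = _
  simp only [List.map_cons, List.map_nil, wv_cons, wv_nil, one_mul, gMA_1, gMA_2, gMA_3, gMA_4, gMA_5, gMA_6, gMA_7, gMA_8, gMA_9, gMA_10, gMA_11, gMA_12, gMA_13, gMA_14]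

theorem MAd_s3 : sub (gMA z q1 q2 r p1 p2 s w) (MAd.W 3) = gen [q1, q2] := by
  change gen (List.map (wv _) [[3],[5]]) = _
  simp only [List.map_cons, List.map_nil, wv_cons, wv_nil, one_mul, gMA_1, gMA_2, gMA_3, gMA_4, gMA_5, gMA_6, gMA_7, gMA_8, gMA_9, gMA_10, gMA_11, gMA_12, gMA_13, gMA_14]

theorem MAd_s4 : sub (gMA z q1 q2 r p1 p2 s w) (MAd.W 4) = gen [p1, p2] := by
  change gen (List.map (wv _) [[9],[11]]) = _
  simp only [List.map_cons, List.map_nil, wv_cons, wv_nil, one_mul, gMA_1, gMA_2, gMA_3, gMA_4, gMA_5, gMA_6, gMA_7, gMA_8, gMA_9, gMA_10, gMA_11, gMA_12, gMA_13, gMA_14]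

theorem MAd_s5 : sub (gMA z q1 q2 r p1 p2 s w) (MAd.W 5) = gen [z, q1, q2, r] := by
  change gen (List.map (wv _) [[1],[3],[5],[7]]) = _
  simp only [List.map_cons, List.map_nil, wv_cons, wv_nil, one_mul, gMA_1, gMA_2, gMA_3, gMA_4, gMA_5, gMA_6, gMA_7, gMA_8, gMA_9, gMA_10, gMA_11, gMA_12, gMA_13, gMA_14]

theorem MAd_s6 : sub (gMA z q1 q2 r p1 p2 s w) (MAd.W 6) = gen [z, q1, p1, q2, p2] := by
  change gen (List.map (wv _) [[1],[3],[9],[5],[11]]) = _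
  simp only [List.map_cons, List.map_nil, wv_cons, wv_nil, one_mul, gMA_1, gMA_2, gMA_3, gMA_4, gMA_5, gMA_6, gMA_7, gMA_8, gMA_9, gMA_10, gMA_11, gMA_12, gMA_13, gMA_14]

theorem d1_c1 (h : ARel z q1 q2 r p1 p2 s w) : Nat.card (gen [z, r] : Subgroup G) = 9 :=
  MAd_s0 (G := G) ▸ (PM.card_of_emb MAd_ok MAd_subs (show Emb MAd.m _ from (MA_emb h)) 0).trans (by decide +kernel)

theorem d1_c2 (h : ARel z q1 q2 r p1 p2 s w) : Nat.card (gen [z, q2] : Subgroup G) = 9 :=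
  MAd_s1 (G := G) ▸ (PM.card_of_emb MAd_ok MAd_subs (show Emb MAd.m _ from (MA_emb h)) 1).trans (by decide +kernel)

theorem d1_c3 (h : ARel z q1 q2 r p1 p2 s w) : Nat.card (gen [z, q1] : Subgroup G) = 9 :=
  MAd_s2 (G := G) ▸ (PM.card_of_emb MAd_ok MAd_subs (show Emb MAd.m _ from (MA_emb h)) 2).trans (by decide +kernel)

theorem d1_J (h : ARel z q1 q2 r p1 p2 s w) :
    ∀ x ∈ gen [z, q1, q2, r], x * x * x = 1 ∧ (∀ y ∈ gen [z, q1, q2, r], x * y = y * x) := by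
  have := PM.holds MAd_ok MAd_subs (show Emb MAd.m _ from (MA_emb h)) (p := (.all 5 40 (.and (.eq [40,40,40] []) (.all 5 41 (.eq [41,40] [40,41]))))) (by decide +kernel)
  simp only [Fm.sem, wv_cons, wv_nil, one_mul, upd_apply, Nat.reduceEqDiff, ↓reduceIte, gMA_1, gMA_2, gMA_3, gMA_4, gMA_5, gMA_6, gMA_7, gMA_8, gMA_9, gMA_10, gMA_11, gMA_12, gMA_13, gMA_14, MAd_s0, MAd_s1, MAd_s2, MAd_s3, MAd_s4, MAd_s5, MAd_s6, exists_eq_right'] at this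
  exact this

theorem d1_Q (h : ARel z q1 q2 r p1 p2 s w) :
    ∀ x ∈ gen [z, q1, p1, q2, p2], x * x * x = 1 := by
  have := PM.holds MAd_ok MAd_subs (show Emb MAd.m _ from (MA_emb h)) (p := (.all 6 40 (.eq [40,40,40] []))) (by decide +kernel)
  simp only [Fm.sem, wv_cons, wv_nil, one_mul, upd_apply, Nat.reduceEqDiff, ↓reduceIte, gMA_1, gMA_2, gMA_3, gMA_4, gMA_5, gMA_6, gMA_7, gMA_8, gMA_9, gMA_10, gMA_11, gMA_12, gMA_13, gMA_14, MAd_s0, MAd_s1, MAd_s2, MAd_s3, MAd_s4, MAd_s5, MAd_s6, exists_eq_right'] at this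
  exact this

theorem d1_b (h : ARel z q1 q2 r p1 p2 s w) :
    ∀ x ∈ gen [z, r], x = 1 ∨ (∃ y ∈ gen [q1, q2], ∃ c ∈ gen [p1, p2], c * x * y = z * c ∨ c * x * y =
    z⁻¹ * c ∨ c * x * y = r * c ∨ c * x * y = r⁻¹ * c) := by
  have := PM.holds MAd_ok MAd_subs (show Emb MAd.m _ from (MA_emb h)) (p := (.all 0 40 (.or (.eq [40] []) (.ex 3 41 (.ex 4 42 (.or (.eq [41,40,42] [42,1]) (.or (.eq [41,40,42]
      [42,2]) (.or (.eq [41,40,42] [42,7]) (.eq [41,40,42] [42,8]))))))))) (by decide +kernel)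
  simp only [Fm.sem, wv_cons, wv_nil, one_mul, upd_apply, Nat.reduceEqDiff, ↓reduceIte, gMA_1, gMA_2, gMA_3, gMA_4, gMA_5, gMA_6, gMA_7, gMA_8, gMA_9, gMA_10, gMA_11, gMA_12, gMA_13, gMA_14, MAd_s0, MAd_s1, MAd_s2, MAd_s3, MAd_s4, MAd_s5, MAd_s6, exists_eq_right'] at this
  exact this

theorem d1_c (h : ARel z q1 q2 r p1 p2 s w) :
    ∀ x ∈ gen [z, q2], x = 1 ∨ x = z ∨ x = z⁻¹ ∨ (∃ c ∈ gen [p1, p2], c * q1 = q1 * c ∧ (c * x = q2 * c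
    ∨ c * x = q2⁻¹ * c)) := by
  have := PM.holds MAd_ok MAd_subs (show Emb MAd.m _ from (MA_emb h)) (p := (.all 1 40 (.or (.eq [40] []) (.or (.eq [40] [1]) (.or (.eq [40] [2]) (.ex 4 41 (.and (.eq [3,41]
      [41,3]) (.or (.eq [40,41] [41,5]) (.eq [40,41] [41,6]))))))))) (by decide +kernel)
  simp only [Fm.sem, wv_cons, wv_nil, one_mul, upd_apply, Nat.reduceEqDiff, ↓reduceIte, gMA_1, gMA_2, gMA_3, gMA_4, gMA_5, gMA_6, gMA_7, gMA_8, gMA_9, gMA_10, gMA_11, gMA_12, gMA_13, gMA_14, MAd_s0, MAd_s1, MAd_s2, MAd_s3, MAd_s4, MAd_s5, MAd_s6, exists_eq_right'] at this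
  exact this

theorem d1_d (h : ARel z q1 q2 r p1 p2 s w) :
    ∀ x ∈ gen [z, q1], x = 1 ∨ x = z ∨ x = z⁻¹ ∨ (∃ c ∈ gen [p1, p2], c * x = q1 * c ∨ c * x = q1⁻¹ * c) := by
  have := PM.holds MAd_ok MAd_subs (show Emb MAd.m _ from (MA_emb h)) (p := (.all 2 40 (.or (.eq [40] []) (.or (.eq [40] [1]) (.or (.eq [40] [2]) (.ex 4 41 (.or (.eq [40,41]
      [41,3]) (.eq [40,41] [41,4])))))))) (by decide +kernel)
  simp only [Fm.sem, wv_cons, wv_nil, one_mul, upd_apply, Nat.reduceEqDiff, ↓reduceIte, gMA_1, gMA_2, gMA_3, gMA_4, gMA_5, gMA_6, gMA_7, gMA_8, gMA_9, gMA_10, gMA_11, gMA_12, gMA_13, gMA_14, MAd_s0, MAd_s1, MAd_s2, MAd_s3, MAd_s4, MAd_s5, MAd_s6, exists_eq_right'] at this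
  exact this

theorem d1_n (h : ARel z q1 q2 r p1 p2 s w) :
    p1 * z * p1⁻¹ ∈ gen [z, q1, q2, r] ∧ p1 * q1 * p1⁻¹ ∈ gen [z, q1, q2, r] ∧ p1 * q2 * p1⁻¹ ∈ gen [z,
    q1, q2, r] ∧ p1 * r * p1⁻¹ ∈ gen [z, q1, q2, r] ∧ p2 * z * p2⁻¹ ∈ gen [z, q1, q2, r] ∧ p2 * q1 *
    p2⁻¹ ∈ gen [z, q1, q2, r] ∧ p2 * q2 * p2⁻¹ ∈ gen [z, q1, q2, r] ∧ p2 * r * p2⁻¹ ∈ gen [z, q1,
    q2, r] := by
  have := PM.holds MAd_ok MAd_subs (show Emb MAd.m _ from (MA_emb h)) (p := (.and (.ex 5 40 (.eq [10,1,9] [40])) (.and (.ex 5 40 (.eq [10,3,9] [40])) (.and (.ex 5 40 (.eq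
      [10,5,9] [40])) (.and (.ex 5 40 (.eq [10,7,9] [40])) (.and (.ex 5 40 (.eq [12,1,11] [40]))
      (.and (.ex 5 40 (.eq [12,3,11] [40])) (.and (.ex 5 40 (.eq [12,5,11] [40])) (.ex 5 40 (.eq
      [12,7,11] [40])))))))))) (by decide +kernel)
  simp only [Fm.sem, wv_cons, wv_nil, one_mul, upd_apply, Nat.reduceEqDiff, ↓reduceIte, gMA_1, gMA_2, gMA_3, gMA_4, gMA_5, gMA_6, gMA_7, gMA_8, gMA_9, gMA_10, gMA_11, gMA_12, gMA_13, gMA_14, MAd_s0, MAd_s1, MAd_s2, MAd_s3, MAd_s4, MAd_s5, MAd_s6, exists_eq_right'] at this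
  exact this

theorem d1_y (h : ARel z q1 q2 r p1 p2 s w) :
    q1 * r * q1 * r * q1 * r = 1 ∧ q1 * r * z = z * q1 * r ∧ ¬ (q1 * r ∈ gen [z, q1, p1, q2, p2]) ∧ p1 *
    q1 * p1⁻¹ = z * q1 ∧ ¬ (z = 1 ∨ z = q1 ∨ z = q1⁻¹) := by
  have := PM.holds MAd_ok MAd_subs (show Emb MAd.m _ from (MA_emb h)) (p := (.and (.eq [7,3,7,3,7,3] []) (.and (.eq [1,7,3] [7,3,1]) (.and (.not (.ex 6 40 (.eq [7,3] [40])))
      (.and (.eq [10,3,9] [3,1]) (.not (.or (.eq [1] []) (.or (.eq [1] [3]) (.eq [1] [4]))))))))) (by decide +kernel)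
  simp only [Fm.sem, wv_cons, wv_nil, one_mul, upd_apply, Nat.reduceEqDiff, ↓reduceIte, gMA_1, gMA_2, gMA_3, gMA_4, gMA_5, gMA_6, gMA_7, gMA_8, gMA_9, gMA_10, gMA_11, gMA_12, gMA_13, gMA_14, MAd_s0, MAd_s1, MAd_s2, MAd_s3, MAd_s4, MAd_s5, MAd_s6, exists_eq_right'] at this
  exact this

theorem d1_X (h : XRel z a b i r) :
    ∀ y ∈ gen [z, z⁻¹, a, a⁻¹, b, b⁻¹, i, i⁻¹, r, r⁻¹], y * a = a * y → y * y * y = 1 := by
  have := PM.holds MX_ok MX_subs (MX_emb h) (p := (.all 0 40 (.imp (.eq [3,40] [40,3]) (.eq [40,40,40] [])))) (by decide +kernel)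
  simp only [Fm.sem, wv_cons, wv_nil, one_mul, upd_apply, Nat.reduceEqDiff, ↓reduceIte, gMX_1, gMX_2, gMX_3, gMX_4, gMX_5, gMX_6, gMX_7, gMX_8, gMX_9, gMX_10, gMX_s0, gMX_s1, gMX_s2, gMX_s3, gMX_s4, gMX_s5, gMX_s6, gMX_s7, exists_eq_right'] at this
  exact this

theorem d1_F (h : MRel z q1 q2 r p1 p2 s w h0 io m) :
    io * w * s * w * io * w * s * w = 1 ∧ io * w * s * w * z = z⁻¹ * io * w * s * w ∧ io * w * s * w *
    q2 = q2⁻¹ * io * w * s * w ∧ io * w * s * w * r = r⁻¹ * io * w * s * w ∧ io * w * s * w * p2 =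
    p2 * io * w * s * w ∧ m * io * w * s * w = io * w * s * w * m ∧ m * p2 * io * w * s * w * m * p2
    * io * w * s * w * m * p2 * io * w * s * w = 1 ∧ io * w * s * w * q1 = q1 * io * w * s * w ∧ io
    * w * s * w * s = io * s * w * s * w := by
  have := PM.holds MM_ok MM_subs (MM_emb h) (p := (.and (.eq [14,13,14,17,14,13,14,17] []) (.and (.eq [1,14,13,14,17] [14,13,14,17,2]) (.and (.eq
      [5,14,13,14,17] [14,13,14,17,6]) (.and (.eq [7,14,13,14,17] [14,13,14,17,8]) (.and (.eq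
      [11,14,13,14,17] [14,13,14,17,11]) (.and (.eq [14,13,14,17,18] [18,14,13,14,17]) (.and (.eq
      [14,13,14,17,11,18,14,13,14,17,11,18,14,13,14,17,11,18] []) (.and (.eq [3,14,13,14,17]
      [14,13,14,17,3]) (.eq [13,14,13,14,17] [14,13,14,13,17])))))))))) (by decide +kernel)
  simp only [Fm.sem, wv_cons, wv_nil, one_mul, upd_apply, Nat.reduceEqDiff, ↓reduceIte, gMM_1, gMM_2, gMM_3, gMM_4, gMM_5, gMM_6, gMM_7, gMM_8, gMM_9, gMM_10, gMM_11, gMM_12, gMM_13, gMM_14, gMM_15, gMM_16, gMM_17, gMM_18, gMM_s0, gMM_s1, gMM_s2, gMM_s3, gMM_s4, exists_eq_right'] at this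
  exact this

theorem d1_M (h : MRel z q1 q2 r p1 p2 s w h0 io m) :
    m * p1⁻¹ * m * q1 * z * r = z * m * p1⁻¹ * m ∧ m * p1⁻¹ * m * q1 = q1 * r * m * p1⁻¹ * m ∧ p1 * p2 *
    m * p2⁻¹ * h0 * m = s * p1 * p2 * m * p2⁻¹ * h0 ∧ p1 * p2 * m * p2⁻¹ * h0 * q1 = z * r * p1 * p2
    * m * p2⁻¹ * h0 ∧ p1⁻¹ * io * q1 * io * p1 = z * q1⁻¹ ∧ m * r = z⁻¹ * m := by
  have := PM.holds MM_ok MM_subs (MM_emb h) (p := (.and (.eq [7,1,3,18,10,18] [18,10,18,1]) (.and (.eq [3,18,10,18] [18,10,18,7,3]) (.and (.eq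
      [18,15,12,18,11,9] [15,12,18,11,9,13]) (.and (.eq [3,15,12,18,11,9] [15,12,18,11,9,7,1]) (.and
      (.eq [9,17,3,17,10] [4,1]) (.eq [7,18] [18,2]))))))) (by decide +kernel)
  simp only [Fm.sem, wv_cons, wv_nil, one_mul, upd_apply, Nat.reduceEqDiff, ↓reduceIte, gMM_1, gMM_2, gMM_3, gMM_4, gMM_5, gMM_6, gMM_7, gMM_8, gMM_9, gMM_10, gMM_11, gMM_12, gMM_13, gMM_14, gMM_15, gMM_16, gMM_17, gMM_18, gMM_s0, gMM_s1, gMM_s2, gMM_s3, gMM_s4, exists_eq_right'] at this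
  exact this

theorem d1_m (h : MRel z q1 q2 r p1 p2 s w h0 io m) :
    m * z * m ∈ gen [z, q1, q2, r] ∧ m * q1 * m ∈ gen [z, q1, q2, r] ∧ m * q2 * m ∈ gen [z, q1, q2, r] ∧
    m * r * m ∈ gen [z, q1, q2, r] := by
  have := PM.holds MM_ok MM_subs (MM_emb h) (p := (.and (.ex 1 40 (.eq [18,1,18] [40])) (.and (.ex 1 40 (.eq [18,3,18] [40])) (.and (.ex 1 40 (.eq
      [18,5,18] [40])) (.ex 1 40 (.eq [18,7,18] [40])))))) (by decide +kernel)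
  simp only [Fm.sem, wv_cons, wv_nil, one_mul, upd_apply, Nat.reduceEqDiff, ↓reduceIte, gMM_1, gMM_2, gMM_3, gMM_4, gMM_5, gMM_6, gMM_7, gMM_8, gMM_9, gMM_10, gMM_11, gMM_12, gMM_13, gMM_14, gMM_15, gMM_16, gMM_17, gMM_18, gMM_s0, gMM_s1, gMM_s2, gMM_s3, gMM_s4, exists_eq_right'] at this
  exact this

end Cfsg.Lib.Co23
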