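import Cfsg.Agent.Co23.PartD1F

/-! The centralizer of `q₁` is `3 × W(E₆)`. -/

set_option autoImplicit false

namespace Cfsg.Lib.Co23

open Subgroup Cfsg.Lib.Spor Cfsg.Lib.Spor.Bulk Cfsg.Lib.Spor.PK Cfsg.Lib.Spor.WF Cfsg.Lib.Trans
  Cfsg.Agent Cfsg.Lib.L3

universe u

variable {G : Type u} [Group G]
variable {z q1 q2 r p1 p2 s w h0 i1 i2 io m : G}

namespace D1

/-- A `3'`-group normalised by `J`. -/
structure Sg (J K : Subgroup G) : Prop where
  c : ∀ k ∈ K, k ^ 3 = 1 → k = 1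
  n : J ≤ normalizer (K : Set G)

/-- `K` centralises `x`. -/
def Cn (K : Subgroup G) (x : G) : Prop := ∀ k ∈ K, k * x = x * k

theorem Cn_eq_1 : type_of% @Cn.eq_1 := @Cn.eq_1

theorem Cn.inv {K : Subgroup G} {x : G} (h : Cn K x⁻¹) : Cn K x := fun k hk => by
  simpa using (show Commute k x⁻¹ from h k hk).inv_right.eq

theorem Cn.cj {K : Subgroup G} {x y c : G} (h : Cn K x) (e : c * x = y * c) : Cn (cj c K) y := by
  rintro _ ⟨k, hk, rfl⟩
  change c * k * c⁻¹ * y = y * (c * k * c⁻¹)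
  rw [← mul_inv_eq_iff_eq_mul.2 e]
  simp only [mul_assoc, inv_mul_cancel_left]
  rw [← mul_assoc k, h k hk, mul_assoc]

theorem Cn.gen {K : Subgroup G} {x y a : G} (h : Cn K x) (h' : Cn K y) (ha : a ∈ gen [x, y]) :
    Cn K a := fun k hk => (mem_centralizer_iff.1 (mem_cent2.2 ⟨h k hk, h' k hk⟩) a ha).symm

theorem Sg.cj {J K : Subgroup G} (h : Sg J K) {c : G} (hc : c ∈ normalizer (J : Set G)) :
    Sg J (cj c K) where
  c := by
    rintro _ ⟨k, hk, rfl⟩ e
    rw [← map_pow, MulEquiv.coe_toMonoidHom, MulEquiv.map_eq_one_iff] at e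
    rw [h.c k hk e, map_one]
  n := by rw [← cj_normalizer, ← cj_eq_of_mem_normalizer hc]; exact cj_mono c h.n

theorem Sg.step [Finite G] {J K D : Subgroup G} (h : Sg J K)
    (hJ : ∀ x ∈ J, x * x * x = 1 ∧ ∀ y ∈ J, x * y = y * x) (hD : D ≤ J) (c : Nat.card D = 9)
    (k : ∀ d ∈ D, d ≠ 1 → ∀ L ≤ K, Sg J L → Cn L d → L = ⊥) : K = ⊥ :=
  le_bot_iff.1 (le_of_cent c (fun d hd => by rw [pow_three', (hJ d (hD hd)).1])
    (fun d hd e he => (hJ d (hD hd)).2 e (hD he)) (hD.trans h.n) h.c fun d hd d1 x hx e =>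
      (k d hd d1 (K ⊓ centralizer {d}) inf_le_left ⟨fun y hy => h.c y hy.1, fun j hj =>
        inf_normalizer_le_normalizer_inf ⟨h.n hj, le_normalizer
          (mem_centralizer_singleton_iff.2 ((hJ j hj).2 d (hD hd)))⟩⟩ fun y hy => mem_centralizer_singleton_iff.1 hy.2).le
        ⟨hx, mem_centralizer_singleton_iff.2 e⟩)

theorem lift_comm {C B : Type*} [Group C] [Group B] {π : C →* B} {q : C} (hq : q ^ 3 = 1)
    (hc : ∀ g, g * q = q * g) (hk : π.ker = zpowers q) {f y : C} {n : ℕ} (hn : n.Coprime 3)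
    (hf : f ^ n = 1) (e : π f * π y = π y * π f) : f * y = y * f := by
  have h1 : y⁻¹ * f * y * f⁻¹ ∈ zpowers q := by
    rw [← hk, MonoidHom.mem_ker, map_mul, map_mul, map_mul, mul_assoc (π y⁻¹), e]; simp
  obtain ⟨j, hj⟩ := h1
  have h2 : y⁻¹ * f * y = q ^ j * f := by rw [show q ^ j = _ from hj]; group
  have h3 : (q ^ j) ^ n = 1 := by
    have := congrArg (· ^ n) h2
    simp only [((show Commute f q from hc f).zpow_right j).symm.mul_pow, hf, mul_one] at this
    rw [← this, show y⁻¹ * f * y = y⁻¹ * f * y⁻¹⁻¹ by rw [inv_inv], conj_pow, hf]; group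
  have h4 : (q ^ j) ^ 3 = 1 := by
    rw [← zpow_natCast, ← zpow_mul, mul_comm, zpow_mul, zpow_natCast, hq, one_zpow]
  rw [(pow_eq_one_iff_of_coprime hn).1 ⟨h3, h4⟩, one_mul, mul_assoc, inv_mul_eq_iff_eq_mul] at h2
  exact h2

theorem lift5 {C B : Type*} [Group C] [Group B] {π : C →* B} {q : C} (hq : q ^ 3 = 1)
    (hc : ∀ g, g * q = q * g) (hk : π.ker = zpowers q) (hs : Function.Surjective π) {y : C}
    (h : ∃ f, f ^ 5 = 1 ∧ f ≠ 1 ∧ f * π y = π y * f) : ∃ f, f ^ 5 = 1 ∧ f ≠ 1 ∧ f * y = y * f := by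
  obtain ⟨f, h1, h2, h3⟩ := h
  obtain ⟨f, rfl⟩ := hs f
  have e : π (f ^ 6) = π f := by rw [map_pow, pow_succ, h1, one_mul]
  have h5 : (f ^ 6) ^ 5 = 1 := by
    obtain ⟨j, hj⟩ : f ^ 5 ∈ zpowers q := by rw [← hk, MonoidHom.mem_ker, map_pow, h1]
    rw [← pow_mul, mul_comm, pow_mul, ← show q ^ j = _ from hj, ← zpow_natCast, ← zpow_mul, mul_comm,
      zpow_mul, zpow_natCast, show 6 = 3 * 2 from rfl, pow_mul, hq, one_pow, one_zpow]
  exact ⟨_, h5, fun k => h2 (by rw [← e, k, map_one]),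
    lift_comm hq hc hk (by decide) h5 (by rw [e, h3])⟩

variable [Finite G] (h : CB z q1 q2 r p1 p2 s w h0 i1 i2 io m)
include h

local notation "𝐉" => gen [z, q1, q2, r]

theorem sg_z {K : Subgroup G} (S : Sg 𝐉 K) (c : Cn K z) : K = ⊥ := by
  refine eq_bot_iff.2 fun k hk => S.c k hk ?_
  have key : ∀ q ∈ 𝐉, q ∈ gen [z, q1, p1, q2, p2] → k * q = q * k := fun q h1 h2 => by
    have a : k * q * k⁻¹ * q⁻¹ ∈ K := by
      rw [mul_assoc, mul_assoc, ← mul_assoc q]
      exact mul_mem hk (mem_normalizer_conj (S.n h1) (inv_mem hk))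
    have b := d1_Q h.toARel _ (mul_mem (h.nQ k (by
      rw [c k hk, mul_inv_cancel_right]; exact mem_zpowers z) q h2) (inv_mem h2))
    exact mul_inv_eq_iff_eq_mul.1 (mul_inv_eq_one.1 (S.c _ a (by rw [pow_three', b])))
  have k1 := key q1 (mem_gen (by simp)) (mem_gen (by simp))
  have k2 := key q2 (mem_gen (by simp)) (mem_gen (by simp))
  set X := gen [z, z⁻¹, q2, q2⁻¹, p2, p2⁻¹, i2, i2⁻¹, r, r⁻¹]
  have cX : X ≤ centralizer {q1} := gen_le (by
    simp only [List.mem_cons, List.not_mem_nil, or_false, forall_eq_or_imp, forall_eq, inv_mem_iff,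
      and_self_left, and_self]
    simp only [mem_centralizer_singleton_iff]
    exact ⟨h.zq1, h.q12.symm, h.p2q1, h.i2q1, h.rq1⟩)
  have m1 : k ∈ zpowers q1 ⊔ X := gen_le (by
    simp only [List.mem_cons, List.not_mem_nil, or_false, forall_eq_or_imp, forall_eq]
    refine ⟨mem_sup_right ?_, mem_sup_left (mem_zpowers _), mem_sup_right ?_, mem_sup_right ?_,
      mem_sup_right ?_, mem_sup_right ?_⟩ <;> exact mem_gen (by simp)) (h.cz1 k (c k hk) k1)
  rw [← SetLike.mem_coe, coe_mul_of_right_le_normalizer_left _ _ fun x hx =>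
    mem_norm_of_comm (mem_centralizer_singleton_iff.1 (cX hx))] at m1
  obtain ⟨_, ⟨j, rfl⟩, x, hx, rfl⟩ := m1
  have c1 : Commute (q1 ^ j) x :=
    (show Commute x q1 from mem_centralizer_singleton_iff.1 (cX hx)).symm.zpow_left j
  have c2 : x * q2 = q2 * x := by
    have := ((show Commute q1 q2 from h.q12).zpow_left j).inv_left.mul_left
      (show Commute (q1 ^ j * x) q2 from k2)
    simpa using this.eq
  change (q1 ^ j * x) ^ 3 = 1
  rw [c1.mul_pow, pow_three' x, d1_X h.x2 x hx c2, mul_one, ← zpow_natCast, ← zpow_mul, mul_comm,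
    zpow_mul, zpow_natCast, pow_three', h.q13, one_zpow]

theorem nP : gen [p1, p2] ≤ normalizer (𝐉 : Set G) := by
  obtain ⟨a1, a2, a3, a4, b⟩ := d1_n h.toARel
  refine gen_le (by
    simp only [List.mem_cons, List.not_mem_nil, or_false, forall_eq_or_imp, forall_eq]
    constructor <;> refine mem_norm_gen ?_ <;>
      simp only [List.mem_cons, List.not_mem_nil, or_false, forall_eq_or_imp, forall_eq]
    exacts [⟨a1, a2, a3, a4⟩, b])

theorem sg_r {K : Subgroup G} (S : Sg 𝐉 K) (c : Cn K r) : K = ⊥ :=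
  cj_eq_bot.1 (sg_z h (S.cj (c := m) (mem_norm_gen (by
    simpa only [List.mem_cons, List.not_mem_nil, or_false, forall_eq_or_imp, forall_eq,
      inv_eq_of_mul_eq_one_right h.mr.m2] using d1_m h.mr))) (c.cj (d1_M h.mr).2.2.2.2.2).inv)

theorem sg_b {K : Subgroup G} (S : Sg 𝐉 K) (c1 : Cn K q1) (c2 : Cn K q2) : K = ⊥ :=
  S.step (d1_J h.toARel) (gen_le fun _ a => mem_gen (by simp at a ⊢; tauto)) (d1_c1 h.toARel)
    fun d hd d1 L hL T c => by
      obtain ⟨y, hy, g, hg, e⟩ := (d1_b h.toARel d hd).resolve_left d1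
      have k : Cn L (d * y) := fun k hk =>
        ((show Commute k d from c k hk).mul_right ((c1.gen c2 hy) k (hL hk))).eq
      have T' := T.cj (nP h hg)
      rw [mul_assoc] at e
      rcases e with e | e | e | e
      exacts [cj_eq_bot.1 (sg_z h T' (k.cj e)), cj_eq_bot.1 (sg_z h T' (k.cj e).inv),
        cj_eq_bot.1 (sg_r h T' (k.cj e)), cj_eq_bot.1 (sg_r h T' (k.cj e).inv)]

theorem sg_c {K : Subgroup G} (S : Sg 𝐉 K) (c1 : Cn K q1) : K = ⊥ :=
  S.step (d1_J h.toARel) (gen_le fun _ a => mem_gen (by simp at a ⊢; tauto)) (d1_c2 h.toARel)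
    fun d hd d1 L hL T c => by
      rcases (d1_c h.toARel d hd).resolve_left d1 with rfl | rfl | ⟨g, hg, e1, e⟩
      · exact sg_z h T c
      · exact sg_z h T c.inv
      have k := Cn.cj (K := L) (fun k hk => c1 k (hL hk)) e1
      rcases e with e | e
      exacts [cj_eq_bot.1 (sg_b h (T.cj (nP h hg)) k (c.cj e)),
        cj_eq_bot.1 (sg_b h (T.cj (nP h hg)) k (c.cj e).inv)]

theorem sg {K : Subgroup G} (S : Sg 𝐉 K) : K = ⊥ :=
  S.step (d1_J h.toARel) (gen_le fun _ a => mem_gen (by simp at a ⊢; tauto)) (d1_c3 h.toARel)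
    fun d hd d1 L _ T c => by
      rcases (d1_d h.toARel d hd).resolve_left d1 with rfl | rfl | ⟨g, hg, e | e⟩
      exacts [sg_z h T c, sg_z h T c.inv, cj_eq_bot.1 (sg_c h (T.cj (nP h hg)) (c.cj e)),
        cj_eq_bot.1 (sg_c h (T.cj (nP h hg)) (c.cj e).inv)]

omit [Finite G] in
theorem ii1 : i1 * i1 = w * s * w := by
  have : i1 = w * i2 * w := by rw [mul_assoc, ← h.wi, ← mul_assoc, h.w2, one_mul]
  rw [this, ← h.ii2]
  simp only [mul_assoc, Co3M.as1 h.w2]

omit [Finite G] in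
theorem frel : FRel z q2 p2 i2 r (io * w * s * w) m := by
  obtain ⟨a1, a2, a3, a4, a5, a6, a7, -⟩ := d1_F h.mr
  refine ⟨h.x2, ?_, ?_, ?_, ?_, ?_, ?_, h.mr.m2, h.mr.mz, h.mr.mq2, ?_, ?_, ?_⟩
  any_goals simp only [← mul_assoc]; assumption
  · rw [mul_assoc io, mul_assoc io, ← ii1 h, mul_assoc, mul_assoc i1, h.i12, ← mul_assoc i1, h.i12,
      ← mul_assoc, ← mul_assoc, h.ioi2]
    simp only [mul_assoc]
  · rw [mul_assoc m, h.ii2, h.mr.ms]

end D1

/-- What is used of the frame theorem. -/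
def FrameD (B : Type u) [Group B] : Prop :=
  ∀ z a b i r n m : B, PF z a b i r n m →
    (∃ f, f ^ 5 = 1 ∧ f ≠ 1 ∧ f * (z * r) = z * r * f) ∨
      (∀ g, g * (i * i) = i * i * g → g ∈ gen [z, r, i, m, n * (i * i)]) ∧
      (i * m * i * m = m * i * m * i ∧ i * m * r * i * r⁻¹ * m = m * r * i * r⁻¹ * m * i) ∧
      ∃ f, f ^ 5 = 1 ∧ f ≠ 1 ∧ f * m = m * f

theorem FrameD_eq_1 : type_of% @FrameD.eq_1 := @FrameD.eq_1

open D1 in
theorem CB.cd_of [Finite G] (hP : ∀ (B : Type u) [Group B] [Finite B], FrameD B)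
    (h : CB z q1 q2 r p1 p2 s w h0 i1 i2 io m) : CD z q1 q2 r p1 p2 s w h0 i1 i2 io m := by
  obtain ⟨y1, y2, y3, y4, y5⟩ := d1_y h.toARel
  obtain ⟨m1, m2, m3, m4, m5, -⟩ := d1_M h.mr
  obtain ⟨-, -, -, -, -, -, -, n1, n2⟩ := d1_F h.mr
  let C := centralizer ({q1} : Set G)
  have mk : ∀ {g : G}, g * q1 = q1 * g → g ∈ C := mem_centralizer_singleton_iff.2
  let q : C := ⟨q1, mk rfl⟩
  let Z : C := ⟨z, mk h.zq1⟩
  let A : C := ⟨q2, mk h.q12.symm⟩
  let P : C := ⟨p2, mk h.p2q1⟩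
  let I : C := ⟨i2, mk h.i2q1⟩
  let R : C := ⟨r, mk h.rq1⟩
  let N : C := ⟨io * w * s * w, mk (by simpa only [← mul_assoc] using n1)⟩
  let M : C := ⟨m, mk h.mr.mq1⟩
  have q13 : q1 ^ 3 = 1 := by rw [pow_three', h.q13]
  have q3 : q ^ 3 = 1 := Subtype.ext q13
  have qc : ∀ g : C, g * q = q * g := fun g => Subtype.ext (mem_centralizer_singleton_iff.1 g.2)
  have : (zpowers q).Normal := ⟨fun a ⟨j, e⟩ g => by
    rw [← e, ((show Commute g q from qc g).zpow_right j).eq, mul_inv_cancel_right]; exact ⟨j, rfl⟩⟩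
  let π := QuotientGroup.mk' (zpowers q)
  have hk : π.ker = zpowers q := QuotientGroup.ker_mk' _
  have hs : Function.Surjective π := QuotientGroup.mk'_surjective _
  have kc : ∀ {g : C}, π g = 1 → g.1 = 1 ∨ g.1 = q1 ∨ g.1 = q1⁻¹ := fun k => by
    rcases cube_cases q3 (hk.le k) with rfl | rfl | rfl <;> simp [q]
  have F : PF (π Z) (π A) (π P) (π I) (π R) (π N) (π M) := by
    refine ⟨(FRel.of_inj (z := Z) (a := A) (b := P) (i := I) (r := R) (n := N) (m := M)
      C.subtype (subtype_injective _) (frel h)).map π fun k => y5 (kc k),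
      fun g hg => ?_, fun K hK k1 k2 k3 => ?_⟩
    · obtain ⟨g, rfl⟩ := hs g
      have a : g.1 * z = z * g.1 := by
        have b : IsConj z (g.1 * z * g.1⁻¹) := isConj_iff.2 ⟨_, rfl⟩
        rcases kc (g := Z⁻¹ * (g * Z * g⁻¹)) (by simp [hg]) with c | c | c <;>
          change z⁻¹ * (g.1 * z * g.1⁻¹) = _ at c <;> rw [inv_mul_eq_iff_eq_mul] at c
        · exact mul_inv_eq_iff_eq_mul.1 (c.trans (mul_one z))
        · exact absurd (b.trans (isConj_iff.2 ⟨p1, y4.trans c.symm⟩).symm) h.nzq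
        · refine absurd (b.trans (isConj_iff.2 ⟨p1⁻¹ * io, ?_⟩).symm) h.nzq
          rw [c, ← m5, mul_inv_rev, inv_inv, inv_eq_of_mul_eq_one_right h.mr.io2]
          simp only [mul_assoc]
      obtain ⟨g', b, c⟩ : g.1 ∈ ((gen [π Z, π A, π P, π I, π R]).comap π).map C.subtype :=
        gen_le (by
          simp only [List.mem_cons, List.not_mem_nil, or_false, forall_eq_or_imp, forall_eq]
          exact ⟨⟨Z, mem_gen (by simp), rfl⟩, ⟨q, mem_comap.2 (by
            rw [hk.ge (mem_zpowers q)]; exact one_mem _), rfl⟩, ⟨A, mem_gen (by simp), rfl⟩,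
            ⟨P, mem_gen (by simp), rfl⟩, ⟨I, mem_gen (by simp), rfl⟩, ⟨R, mem_gen (by simp), rfl⟩⟩)
          (h.cz1 g a (mem_centralizer_singleton_iff.1 g.2))
      rwa [← show g' = g from Subtype.ext c]
    · have c3 : ∀ k ∈ K, ∀ j, k ^ 3 ^ j = 1 → k = 1 := fun k hk j e =>
        (pow_eq_one_iff_of_coprime (hK.pow_right j)).1
          ⟨congrArg Subtype.val (pow_card_eq_one' (x := (⟨k, hk⟩ : K))), e⟩
      obtain ⟨L, -, l1, l2, l3, -⟩ := burn3 (B := (K.comap π).map C.subtype) (z := q1)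
        ⟨q, mem_comap.2 (by rw [hk.ge (mem_zpowers q)]; exact one_mem _), rfl⟩ q13 (by
          rintro _ ⟨g, hg, rfl⟩ -
          refine ⟨mem_centralizer_singleton_iff.1 g.2, fun ⟨j, e⟩ => ?_⟩
          obtain ⟨k, e'⟩ := hk.le (c3 _ hg j (by
            rw [← map_pow, show g ^ 3 ^ j = 1 from Subtype.ext e, map_one]))
          exact ⟨k, congrArg Subtype.val e'⟩)
      have nb : ∀ g : C, π g ∈ normalizer (K : Set _) → g.1 ∈ normalizer (L : Set G) :=
        fun g hg => l1 (mem_normalizer_of_cj_le (cj_le_iff.2 (by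
          rintro _ ⟨x, hx, rfl⟩
          exact ⟨g * x * g⁻¹, mem_comap.2 (by
            rw [map_mul, map_mul, map_inv]; exact mem_normalizer_conj hg hx), rfl⟩)))
      have L0 : L = ⊥ := sg h ⟨l2, gen_le (by
        simp only [List.mem_cons, List.not_mem_nil, or_false, forall_eq_or_imp, forall_eq]
        exact ⟨nb Z k1, nb q (by rw [hk.ge (mem_zpowers q)]; exact one_mem _), nb A k2, nb R k3⟩)⟩
      refine eq_bot_iff.2 fun k hK' => ?_
      obtain ⟨g, rfl⟩ := hs k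
      have e : (g ^ 3) ^ Nat.card K = 1 := by
        rw [← pow_mul, mul_comm, pow_mul]
        rcases cube_cases q3 (y := g ^ Nat.card K) (hk.le ((map_pow π _ _).trans
          (congrArg Subtype.val (pow_card_eq_one' (x := (⟨π g, hK'⟩ : K)))))) with a | a | a <;>
          simp [a, q3]
      have := l3 _ ⟨g ^ 3, pow_mem hK' 3, rfl⟩ (hK.coprime_dvd_left
        (orderOf_dvd_of_pow_eq_one (congrArg Subtype.val e)))
      rw [L0, mem_bot] at this
      exact c3 _ hK' 1 (by rw [pow_one, ← map_pow, show g ^ 3 = 1 from Subtype.ext this, map_one])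
  have cf : ∀ {f c : G}, f ^ 5 = 1 → (c * f * c⁻¹) ^ 5 = 1 := fun e => by rw [conj_pow, e]; group
  have cc : ∀ {f c x y : G}, f * x = x * f → c * x = y * c → c * f * c⁻¹ * y = y * (c * f * c⁻¹) :=
    fun {f c x y} a b => by
      rw [← mul_inv_eq_iff_eq_mul.2 b]
      simp only [mul_assoc, inv_mul_cancel_left]
      rw [← mul_assoc f, a, mul_assoc]
  obtain ⟨w1, w2, w3⟩ := (hP _ _ _ _ _ _ _ _ F).resolve_left fun hx => by
    obtain ⟨f, f1, f2, f3⟩ := lift5 q3 qc hk hs (y := Z * R) (map_mul π Z R ▸ hx)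
    have a : Commute f (q * (Z * R)) := (show Commute f q from qc f).mul_right f3
    refine f2 (Subtype.ext (conj_eq_one_iff.1 (h.five (m * p1⁻¹ * m * f * (m * p1⁻¹ * m)⁻¹) (q1 * r)
      (cf (congrArg Subtype.val f1)) (cc (congrArg Subtype.val a.eq) ?_) ?_ ?_ y3
      (cc (congrArg Subtype.val (qc f)) ?_))))
    · change _ * (q1 * (z * r)) = _
      simpa only [← mul_assoc] using m1
    · simpa only [pow_three', ← mul_assoc] using y1
    · simpa only [← mul_assoc] using y2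
    · simpa only [← mul_assoc] using m2
  have i4 : I ^ 4 = 1 := Subtype.ext (by simpa [pow_succ] using h.x2.i4)
  refine ⟨h, fun g g1 g2 => ?_, ?_, ?_, ?_⟩
  · set H := gen [q1, z, r, i2, m, io * s * (i1 * i1)]
    obtain ⟨g', a, b⟩ : π ⟨g, mk g1⟩ ∈ (H.subgroupOf C).map π := gen_le (by
      simp only [List.mem_cons, List.not_mem_nil, or_false, forall_eq_or_imp, forall_eq]
      refine ⟨⟨Z, mem_gen (by simp [Z]), rfl⟩, ⟨R, mem_gen (by simp [R]), rfl⟩,
        ⟨I, mem_gen (by simp [I]), rfl⟩, ⟨M, mem_gen (by simp [M]), rfl⟩,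
        ⟨N * (I * I), ?_, by rw [map_mul, map_mul]⟩⟩
      change io * w * s * w * (i2 * i2) ∈ H
      rw [h.ii2, n2, mul_assoc _ w, mul_assoc _ _ w, ← ii1 h]
      exact mem_gen (by simp)) (w1 _ (by
        rw [← map_mul, ← map_mul, ← map_mul]
        exact congrArg π (Subtype.ext (by simpa [I, h.ii2] using g2))))
    have c := hk.le (show π (g'⁻¹ * ⟨g, mk g1⟩) = 1 by rw [map_mul, map_inv, b, inv_mul_cancel])
    exact (mul_mem_cancel_left (inv_mem a)).1 ((zpowers_le (H := H.subgroupOf C)).2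
      (mem_gen (by simp [q])) c)
  · have : i2 * (m * i2 * m) = m * i2 * m * i2 :=
      congrArg Subtype.val (lift_comm q3 qc hk (y := M * I * M)
        (by decide) i4 (by simpa only [map_mul, ← mul_assoc] using w2.1))
    simpa only [← mul_assoc] using this
  · have : i2 * (m * r * i2 * r⁻¹ * m) = m * r * i2 * r⁻¹ * m * i2 :=
      congrArg Subtype.val (lift_comm q3 qc hk (y := M * R * I * R⁻¹ * M) (by decide) i4
        (by simpa only [map_mul, map_inv, ← mul_assoc] using w2.2))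
    simpa only [← mul_assoc] using this
  · obtain ⟨f, f1, f2, f3⟩ := lift5 q3 qc hk hs w3
    exact ⟨p1 * p2 * m * p2⁻¹ * h0 * f * (p1 * p2 * m * p2⁻¹ * h0)⁻¹, cf (congrArg Subtype.val f1),
      fun k => f2 (Subtype.ext (conj_eq_one_iff.1 k)),
      cc (congrArg Subtype.val f3) (by simpa only [← mul_assoc] using m3),
      cc (congrArg Subtype.val (qc f)) (by simpa only [← mul_assoc] using m4)⟩

end Cfsg.Lib.Co23
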