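import Cfsg.Agent.Co23.PartE1a
import Cfsg.Agent.Co23.PartP

/-! The normalizer of the subgroup `2⁸`. -/

set_option autoImplicit false

namespace Cfsg.Lib.Co23

open Subgroup Cfsg.Agent

universe u

variable {G : Type u} [Group G] [Finite G] {z q p i r n m a : G}

theorem KB.out [Gate.S3342.{u, 0, 0}] [Gate.S3342.{0, 0, 0}] (h : KB z q p i r n m a)
    {B : Type u} [Group B] (π : G →* B) (hπ : Function.Surjective π) (hk : π.ker = VV p r m a) :
    FOut (π z) (π q) (π p) (π i) (π r) (π n) (π m) :=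
  have := Finite.of_surjective π hπ
  (h.pf π hπ hk).out

theorem KB.kn [Gate.S3342.{u, 0, 0}] [Gate.S3342.{0, 0, 0}] (h : KB z q p i r n m a) :
    KN z q p i r n m a :=
  h.kn_of fun _ _ _ _ _ _ _ _ _ _ _ π h hπ hk =>
    have := Finite.of_surjective π hπ
    ⟨(h.out π hπ hk).three, (h.out π hπ hk).two⟩

end Cfsg.Lib.Co23
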